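import Mathlib
import Cfsg.Agent.Lib.helper1.Frob

set_option autoImplicit false

namespace Cfsg.Agent.Lib.helper1

open Subgroup

/-- A fixed-point-free action of `A` on `V`: no nonidentity element of `A` fixes a
nonidentity element of `V`. -/
def IsFpf {A V : Type*} [Group A] [Group V] (φ : A →* MulAut V) : Prop :=
  ∀ a : A, a ≠ 1 → ∀ v : V, φ a v = v → v = 1

/-- Norm lemma: if a nontrivial finite group acts fixed-point-freely on an abelian group,
then the product over an orbit is trivial. -/
theorem fpf_norm {A V : Type*} [Group A] [CommGroup V] [Fintype A] (φ : A →* MulAut V)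
    (h : IsFpf φ) [Nontrivial A] (v : V) : ∏ a : A, φ a v = 1 := by
  obtain ⟨a₀, ha₀⟩ := exists_ne (1 : A)
  apply h a₀ ha₀
  rw [map_prod]
  have : ∀ a, φ a₀ (φ a v) = φ (a₀ * a) v := by intro a; rw [map_mul]; rfl
  simp_rw [this]
  exact Equiv.prod_comp (Equiv.mulLeft a₀) (fun a => φ a v)

/-- Restriction of a fixed-point-free action to a subgroup. -/
theorem IsFpf.subgroup {A V : Type*} [Group A] [Group V] {φ : A →* MulAut V} (h : IsFpf φ)
    (B : Subgroup A) : IsFpf (φ.comp B.subtype) := by
  intro b hb v hv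
  exact h b (by simpa using hb) v hv

/-- Norm lemma for a nontrivial subgroup. -/
theorem fpf_norm_subgroup {A V : Type*} [Group A] [CommGroup V] (φ : A →* MulAut V)
    (h : IsFpf φ) (B : Subgroup A) [Fintype B] (hB : B ≠ ⊥) (v : V) :
    ∏ b : B, φ b v = 1 := by
  haveI : Nontrivial B := (Subgroup.nontrivial_iff_ne_bot B).mpr hB
  exact fpf_norm (φ.comp B.subtype) (h.subgroup B) v

/-- Coprimality: the acting group has order dividing `|V| - 1`. -/
theorem fpf_card_dvd {A V : Type*} [Group A] [Group V] [Finite A] [Finite V] (φ : A →* MulAut V)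
    (h : IsFpf φ) : Nat.card A ∣ Nat.card V - 1 := by
  classical
  letI : MulAction A V := MulAction.compHom V φ
  have hsmul : ∀ (a : A) (v : V), a • v = φ a v := fun a v => rfl
  let S : SubMulAction A V :=
    { carrier := {v | v ≠ 1}
      smul_mem' := by
        intro a v hv
        change a • v ≠ 1
        rw [hsmul]
        intro h1
        apply hv
        have := congrArg (φ a).symm h1
        simpa using this }
  have hfree : ∀ x : S, MulAction.stabilizer A x = ⊥ := by
    intro x
    rw [eq_bot_iff]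
    intro a ha
    rw [MulAction.mem_stabilizer_iff] at ha
    rw [Subgroup.mem_bot]
    by_contra ha1
    have h2 : φ a (x : V) = x := by
      have := congrArg (Subtype.val) ha
      simpa [hsmul] using this
    exact x.2 (h a ha1 _ h2)
  have h1 := card_dvd_of_free hfree
  have h2 : Nat.card S = Nat.card V - 1 := by
    have : Nat.card S = Nat.card {v : V // v ≠ 1} := rfl
    rw [this]
    haveI : Fintype V := Fintype.ofFinite V
    rw [Nat.card_eq_fintype_card, Fintype.card_subtype_compl, Nat.card_eq_fintype_card]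
    simp
  rwa [h2] at h1

/-- Coprimality of `|A|` and `|V|` for a fixed-point-free action. -/
theorem fpf_coprime {A V : Type*} [Group A] [Group V] [Finite A] [Finite V] (φ : A →* MulAut V)
    (h : IsFpf φ) : (Nat.card A).Coprime (Nat.card V) := by
  have h1 := fpf_card_dvd φ h
  have hpos : 0 < Nat.card V := Nat.card_pos
  have : (Nat.card V - 1).Coprime (Nat.card V) := by
    have h2 : Nat.card V = (Nat.card V - 1) + 1 := by omega
    rw [Nat.coprime_comm]
    nth_rewrite 1 [h2]
    simp
  exact Nat.Coprime.coprime_dvd_left h1 this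


/-- If two elements of orders `p ≠ q` (both prime) commute in a group of order `p q`,
then the group is commutative. -/
theorem comm_of_pq_commuting {A : Type*} [Group A] [Finite A] {p q : ℕ} (hp : p.Prime)
    (hq : q.Prime) (hpq : p ≠ q) (hcard : Nat.card A = p * q) {u y : A} (hu : orderOf u = q)
    (hy : orderOf y = p) (huy : u * y = y * u) : ∀ a b : A, a * b = b * a := by
  classical
  set K : Subgroup A := closure {u, y} with hK
  have huK : u ∈ K := subset_closure (by simp)
  have hyK : y ∈ K := subset_closure (by simp)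
  have h1 : q ∣ Nat.card K := by
    have := orderOf_dvd_natCard (⟨u, huK⟩ : K)
    rwa [Subgroup.orderOf_mk, hu] at this
  have h2 : p ∣ Nat.card K := by
    have := orderOf_dvd_natCard (⟨y, hyK⟩ : K)
    rwa [Subgroup.orderOf_mk, hy] at this
  have h3 : p * q ∣ Nat.card K :=
    Nat.Coprime.mul_dvd_of_dvd_of_dvd ((Nat.coprime_primes hp hq).mpr hpq) h2 h1
  have h4 : Nat.card K = Nat.card A := by
    rw [hcard]
    exact Nat.dvd_antisymm (hcard ▸ Subgroup.card_subgroup_dvd_card K) h3
  have hKtop : K = ⊤ := Subgroup.eq_top_of_card_eq K h4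
  have hcomm : ∀ x ∈ ({u, y} : Set A), ∀ z ∈ ({u, y} : Set A), x * z = z * x := by
    intro x hx z hz
    simp only [Set.mem_insert_iff, Set.mem_singleton_iff] at hx hz
    rcases hx with rfl | rfl <;> rcases hz with rfl | rfl
    · rfl
    · exact huy
    · exact huy.symm
    · rfl
  have hmc := Subgroup.isMulCommutative_closure hcomm
  intro a b
  have ha : a ∈ K := hKtop ▸ Subgroup.mem_top a
  have hb : b ∈ K := hKtop ▸ Subgroup.mem_top b
  have := hmc.is_comm.comm (⟨a, ha⟩ : closure ({u, y} : Set A)) ⟨b, hb⟩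
  exact congrArg Subtype.val this

/-- A group of order `p q` acting fixed-point-freely on a nontrivial finite abelian group is
commutative. -/
theorem fpf_pq_comm {A V : Type*} [Group A] [CommGroup V] [Finite A] [Finite V] [Nontrivial V]
    (φ : A →* MulAut V) (h : IsFpf φ) {p q : ℕ} (hp : p.Prime) (hq : q.Prime) (hpq : p < q)
    (hcard : Nat.card A = p * q) : ∀ a b : A, a * b = b * a := by
  classical
  by_contra hnc
  haveI := Fact.mk hq
  haveI := Fact.mk hp
  haveI : Fintype A := Fintype.ofFinite A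
  -- the normal subgroup of order q
  obtain ⟨Q, hQcard⟩ : ∃ Q : Subgroup A, Nat.card Q = q := by
    have := Sylow.exists_subgroup_card_pow_prime q (G := A) (n := 1)
      (by rw [hcard, pow_one]; exact dvd_mul_left q p)
    simpa using this
  have hQidx : Q.index = p := by
    have := Q.card_mul_index
    rw [hQcard, hcard, mul_comm] at this
    exact Nat.eq_of_mul_eq_mul_right hq.pos this
  have hminFac : (Nat.card A).minFac = p := by
    rw [hcard]
    have h1 : (p * q).minFac ∣ p * q := Nat.minFac_dvd _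
    have hpr : (p * q).minFac.Prime := Nat.minFac_prime (by
      have := hp.two_le; have := hq.two_le; nlinarith)
    rcases (Nat.Prime.dvd_mul hpr).mp h1 with h2 | h2
    · exact (Nat.prime_dvd_prime_iff_eq hpr hp).mp h2
    · have h3 := (Nat.prime_dvd_prime_iff_eq hpr hq).mp h2
      have h4 : (p * q).minFac ≤ p := Nat.minFac_le_of_dvd hp.two_le (dvd_mul_right p q)
      omega
  haveI hQn : Q.Normal := Subgroup.normal_of_index_eq_minFac_card (hQidx.trans hminFac.symm)
  -- an element of order p
  obtain ⟨x, hx⟩ := exists_prime_orderOf_dvd_card' (G := A) p (by rw [hcard]; exact dvd_mul_right p q)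
  set P : Subgroup A := zpowers x with hP
  have hPcard : Nat.card P = p := by rw [hP, Nat.card_zpowers, hx]
  have hPQ : P ⊓ Q = ⊥ := (Subgroup.disjoint_of_coprime_natCard (by
    rw [hPcard, hQcard]; exact (Nat.coprime_primes hp hq).mpr hpq.ne)).eq_bot
  have hord_Q : ∀ u ∈ Q, u ≠ 1 → orderOf u = q := by
    intro u hu hu1
    have h1 : orderOf (⟨u, hu⟩ : Q) ∣ q := hQcard ▸ orderOf_dvd_natCard _
    rw [Subgroup.orderOf_mk] at h1
    rcases (Nat.dvd_prime hq).mp h1 with h2 | h2
    · exact absurd (orderOf_eq_one_iff.mp h2) hu1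
    · exact h2
  have hord_P : ∀ y ∈ P, y ≠ 1 → orderOf y = p := by
    intro u hu hu1
    have h1 : orderOf (⟨u, hu⟩ : P) ∣ p := hPcard ▸ orderOf_dvd_natCard _
    rw [Subgroup.orderOf_mk] at h1
    rcases (Nat.dvd_prime hp).mp h1 with h2 | h2
    · exact absurd (orderOf_eq_one_iff.mp h2) hu1
    · exact h2
  have hkey : ∀ u ∈ Q, ∀ y ∈ P, y ≠ 1 → u * y = y * u → u = 1 := by
    intro u hu y hy hy1 huy
    by_contra hu1
    exact hnc (comm_of_pq_commuting hp hq hpq.ne hcard (hord_Q u hu hu1) (hord_P y hy hy1) huy)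
  -- the parametrisation of the complement of Q
  let g : Q × {y : P // y ≠ 1} → A := fun z => (z.1 : A) * (z.2.1 : A) * (z.1 : A)⁻¹
  have hginj : Function.Injective g := by
    rintro ⟨u, y⟩ ⟨u', y'⟩ he
    change (u : A) * (y.1 : A) * (u : A)⁻¹ = (u' : A) * (y'.1 : A) * (u' : A)⁻¹ at he
    have hy' : (y'.1 : A) = (u' : A)⁻¹ * (u : A) * (y.1 : A) * ((u' : A)⁻¹ * (u : A))⁻¹ := by
      rw [mul_inv_rev, inv_inv]
      have : (u' : A)⁻¹ * (u : A) * (y.1 : A) * ((u : A)⁻¹ * (u' : A))
          = (u' : A)⁻¹ * ((u : A) * (y.1 : A) * (u : A)⁻¹) * (u' : A) := by group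
      rw [this, he]; group
    have hc : (u' : A)⁻¹ * (u : A) ∈ Q := Q.mul_mem (Q.inv_mem u'.2) u.2
    have h1 : (y.1 : A)⁻¹ * (y'.1 : A) ∈ P ⊓ Q := by
      refine Subgroup.mem_inf.mpr ⟨P.mul_mem (P.inv_mem y.1.2) y'.1.2, ?_⟩
      rw [hy']
      have h2 : (y.1 : A)⁻¹ * ((u' : A)⁻¹ * (u : A) * (y.1 : A) * ((u' : A)⁻¹ * (u : A))⁻¹)
          = ((y.1 : A)⁻¹ * ((u' : A)⁻¹ * (u : A)) * (y.1 : A)⁻¹⁻¹) * ((u' : A)⁻¹ * (u : A))⁻¹ := by
        group
      rw [h2]
      exact Q.mul_mem (hQn.conj_mem _ hc _) (Q.inv_mem hc)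
    rw [hPQ, Subgroup.mem_bot] at h1
    have hyy : (y.1 : A) = (y'.1 : A) := by
      have := congrArg (fun t => (y.1 : A) * t) h1
      simpa using this.symm
    have hcomm : ((u' : A)⁻¹ * (u : A)) * (y.1 : A) = (y.1 : A) * ((u' : A)⁻¹ * (u : A)) := by
      have h3 := hy'
      rw [← hyy, eq_mul_inv_iff_mul_eq] at h3
      exact h3.symm
    have hy1 : (y.1 : A) ≠ 1 := fun h0 => y.2 (Subtype.ext h0)
    have h4 := hkey _ hc _ y.1.2 hy1 hcomm
    have huu : (u : A) = (u' : A) := by
      have := congrArg (fun t => (u' : A) * t) h4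
      simpa using this
    exact Prod.ext (Subtype.ext huu) (Subtype.ext (Subtype.ext hyy))
  haveI : Fintype Q := Fintype.ofFinite Q
  haveI : Fintype P := Fintype.ofFinite P
  set T : Finset A := Finset.univ.filter (fun a => a ∉ Q) with hT
  have himg : Finset.image g Finset.univ = T := by
    apply Finset.eq_of_subset_of_card_le
    · intro a ha
      obtain ⟨⟨u, y⟩, -, rfl⟩ := Finset.mem_image.mp ha
      rw [hT, Finset.mem_filter]
      refine ⟨Finset.mem_univ _, fun hmem => ?_⟩
      have h1 : (y.1 : A) ∈ Q := by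
        have := hQn.conj_mem _ hmem (u : A)⁻¹
        change (u : A)⁻¹ * ((u : A) * (y.1 : A) * (u : A)⁻¹) * (u : A)⁻¹⁻¹ ∈ Q at this
        have e : (u : A)⁻¹ * ((u : A) * (y.1 : A) * (u : A)⁻¹) * (u : A)⁻¹⁻¹ = (y.1 : A) := by group
        rwa [e] at this
      have h2 : (y.1 : A) ∈ P ⊓ Q := Subgroup.mem_inf.mpr ⟨y.1.2, h1⟩
      rw [hPQ, Subgroup.mem_bot] at h2
      exact y.2 (Subtype.ext h2)
    · rw [Finset.card_image_of_injective _ hginj, Finset.card_univ, Fintype.card_prod]
      have h1 : Fintype.card {y : P // y ≠ 1} = p - 1 := by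
        rw [Fintype.card_subtype_compl, ← Nat.card_eq_fintype_card, hPcard]
        simp
      have h2 : T.card = p * q - q := by
        have := Finset.card_filter_add_card_filter_not (s := (Finset.univ : Finset A))
          (fun a => a ∈ Q)
        rw [Finset.card_univ, ← Nat.card_eq_fintype_card, hcard] at this
        have h3 : (Finset.univ.filter (fun a => a ∈ Q)).card = q := by
          rw [← hQcard, Nat.card_eq_fintype_card, Fintype.card_subtype]
        rw [h3] at this
        rw [hT]; omega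
      rw [h1, h2, ← Nat.card_eq_fintype_card, hQcard]
      have : q * (p - 1) = p * q - q := by
        rw [Nat.mul_sub, mul_one, mul_comm]
      omega
  have hQne : Q ≠ ⊥ := by
    intro h0
    rw [h0] at hQcard
    simp at hQcard
    exact hq.one_lt.ne hQcard
  have hPne : P ≠ ⊥ := by
    intro h0
    rw [h0] at hPcard
    simp at hPcard
    exact hp.one_lt.ne hPcard
  haveI : Nontrivial A := by
    refine ⟨⟨x, 1, fun hx1 => ?_⟩⟩
    rw [hx1, orderOf_one] at hx
    exact hp.one_lt.ne hx
  have hvq : ∀ v : V, v ^ q = 1 := by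
    intro v
    have h1 := fpf_norm φ h v
    rw [← Finset.prod_filter_mul_prod_filter_not Finset.univ (fun a => a ∈ Q)] at h1
    have h2 : ∏ a ∈ Finset.univ.filter (fun a => a ∈ Q), φ a v = 1 := by
      rw [Finset.prod_subtype (Finset.univ.filter (fun a => a ∈ Q)) (p := fun a => a ∈ Q)
        (by intro a; simp) (fun a => φ a v)]
      exact fpf_norm_subgroup φ h Q hQne v
    rw [h2, one_mul] at h1
    change ∏ a ∈ T, φ a v = 1 at h1
    rw [← himg, Finset.prod_image (fun a _ b _ hab => hginj hab), Fintype.prod_prod_type] at h1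
    have h3 : ∀ u : Q, ∏ y : {y : P // y ≠ 1}, φ (g (u, y)) v = v⁻¹ := by
      intro u
      have h4 : ∀ y : {y : P // y ≠ 1}, φ (g (u, y)) v = φ u (φ (y.1 : A) (φ (u : A)⁻¹ v)) := by
        intro y
        change φ ((u : A) * (y.1 : A) * (u : A)⁻¹) v = _
        rw [map_mul, map_mul]; rfl
      simp_rw [h4]
      rw [← map_prod]
      have h5 := fpf_norm_subgroup φ h P hPne (φ (u : A)⁻¹ v)
      rw [Fintype.prod_eq_mul_prod_subtype_ne (fun y : P => φ (y : A) (φ (u : A)⁻¹ v)) 1] at h5
      simp only [OneMemClass.coe_one, map_one, MulAut.one_apply] at h5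
      rw [eq_inv_of_mul_eq_one_right h5, map_inv]
      congr 1
      rw [← MulAut.mul_apply, ← map_mul]
      simp
    simp_rw [h3] at h1
    rw [Finset.prod_const, Finset.card_univ, ← Nat.card_eq_fintype_card, hQcard, inv_pow,
      inv_eq_one] at h1
    exact h1
  obtain ⟨v, hv⟩ := exists_ne (1 : V)
  apply hv
  have hcop := fpf_coprime φ h
  rw [hcard] at hcop
  have hcop' : q.Coprime (Nat.card V) := Nat.Coprime.coprime_dvd_left (dvd_mul_left q p) hcop
  have h1 : orderOf v ∣ q := orderOf_dvd_of_pow_eq_one (hvq v)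
  have h2 : orderOf v ∣ Nat.card V := orderOf_dvd_natCard v
  have h3 : orderOf v = 1 := Nat.eq_one_of_dvd_coprimes hcop' h1 h2
  exact orderOf_eq_one_iff.mp h3


/-- The conjugation action of `A ≤ N(V)` on `V`. -/
def fpfHom {G : Type*} [Group G] {A V : Subgroup G} (hAV : A ≤ normalizer (V : Set G)) :
    A →* MulAut V :=
  V.normalizerMonoidHom.comp (Subgroup.inclusion hAV)

theorem fpfHom_apply_coe {G : Type*} [Group G] {A V : Subgroup G}
    (hAV : A ≤ normalizer (V : Set G)) (a : A) (v : V) :
    ((fpfHom hAV a v : V) : G) = (a : G) * (v : G) * (a : G)⁻¹ := rfl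

theorem isFpf_fpfHom {G : Type*} [Group G] {A V : Subgroup G}
    (hAV : A ≤ normalizer (V : Set G))
    (hfpf : ∀ a ∈ A, a ≠ 1 → V ⊓ centralizer {a} = ⊥) : IsFpf (fpfHom hAV) := by
  intro a ha v hv
  have h1 : (a : G) ≠ 1 := fun h0 => ha (Subtype.ext h0)
  have h2 : (a : G) * (v : G) * (a : G)⁻¹ = (v : G) := by
    rw [← fpfHom_apply_coe hAV a v, hv]
  have h3 : (v : G) ∈ V ⊓ centralizer {(a : G)} := by
    refine Subgroup.mem_inf.mpr ⟨v.2, ?_⟩
    rw [Subgroup.mem_centralizer_singleton_iff]
    rw [mul_inv_eq_iff_eq_mul] at h2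
    exact h2.symm
  rw [hfpf a a.2 h1, Subgroup.mem_bot] at h3
  exact Subtype.ext h3

end Cfsg.Agent.Lib.helper1
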