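import Mathlib
import Cfsg.Agent.Lib.helper1.ThompsonNPC

/-!
# Quadratic action kills coprime abelian groups (seat helper1)

`quad_kill`: an abelian `p'`-group of automorphisms of an abelian `p`-group `V` (`p` odd),
normalised by a `p`-automorphism `ξ` acting quadratically on `V`, is centralised by `ξ`.
`quad_endgame`: the resulting contradiction in a minimal configuration `MinCex`.
-/

set_option autoImplicit false

namespace Cfsg.Agent.Lib.helper1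

open Subgroup

universe u

theorem quad_kill_comm {V : Type*} [CommGroup V] [Finite V]
    {p : ℕ} [Fact p.Prime] (hp2 : p ≠ 2) (hV : IsPGroup p V)
    (𝔎 : Subgroup (MulAut V)) (h𝔎comm : ∀ a ∈ 𝔎, ∀ b ∈ 𝔎, a * b = b * a)
    (h𝔎 : Nat.Coprime (Nat.card 𝔎) p)
    (ξ : MulAut V) (hnorm : ∀ k ∈ 𝔎, ξ⁻¹ * k * ξ ∈ 𝔎)
    (hquad : ∀ v : V, ξ (ξ v) * v = ξ v * ξ v) (a : ℕ) (hξ : ξ ^ p ^ a = 1) :
    ∀ k ∈ 𝔎, ξ * k = k * ξ := by
  classical
  have hp : p.Prime := Fact.out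
  let τ : 𝔎 →* MulAut V :=
    { toFun := fun u => ξ⁻¹ * (u : MulAut V)⁻¹ * ξ * u
      map_one' := by simp
      map_mul' := by
        intro u u'
        have hA : ξ⁻¹ * (u' : MulAut V)⁻¹ * ξ ∈ 𝔎 := hnorm _ (𝔎.inv_mem u'.2)
        have hB : ξ⁻¹ * (u : MulAut V)⁻¹ * ξ * u ∈ 𝔎 := 𝔎.mul_mem (hnorm _ (𝔎.inv_mem u.2)) u.2
        have h := h𝔎comm _ hA _ hB
        simp only [Subgroup.coe_mul]
        calc ξ⁻¹ * ((u : MulAut V) * (u' : MulAut V))⁻¹ * ξ * ((u : MulAut V) * (u' : MulAut V))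
            = (ξ⁻¹ * (u' : MulAut V)⁻¹ * ξ) * (ξ⁻¹ * (u : MulAut V)⁻¹ * ξ * u) * u' := by group
          _ = (ξ⁻¹ * (u : MulAut V)⁻¹ * ξ * u) * (ξ⁻¹ * (u' : MulAut V)⁻¹ * ξ) * u' := by rw [h]
          _ = _ := by group }
  have hτ : ∀ u : 𝔎, τ u = ξ⁻¹ * (u : MulAut V)⁻¹ * ξ * u := fun u => rfl
  set W : Subgroup (MulAut V) := τ.range with hW
  have hW𝔎 : W ≤ 𝔎 := by
    rintro _ ⟨u, rfl⟩
    rw [hτ]
    exact 𝔎.mul_mem (hnorm _ (𝔎.inv_mem u.2)) u.2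
  have hWc : ∀ w ∈ W, ξ⁻¹ * w * ξ ∈ W := by
    rintro _ ⟨u, rfl⟩
    refine ⟨⟨ξ⁻¹ * u * ξ, hnorm _ u.2⟩, ?_⟩
    rw [hτ, hτ]
    show ξ⁻¹ * (ξ⁻¹ * (u : MulAut V) * ξ)⁻¹ * ξ * (ξ⁻¹ * (u : MulAut V) * ξ) = _
    group
  have hWcomm : ∀ a ∈ W, ∀ b ∈ W, a * b = b * a :=
    fun a ha b hb => h𝔎comm a (hW𝔎 ha) b (hW𝔎 hb)
  have h𝔎fin : Finite 𝔎 := by
    apply Nat.finite_of_card_ne_zero
    intro h0
    rw [h0, Nat.coprime_zero_left] at h𝔎
    exact hp.one_lt.ne' h𝔎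
  have hWcard : Nat.Coprime (Nat.card W) p :=
    Nat.Coprime.coprime_dvd_left (Subgroup.card_dvd_of_le hW𝔎) h𝔎
  have hWfin : Finite W := by
    apply Nat.finite_of_card_ne_zero
    intro h0
    rw [h0, Nat.coprime_zero_left] at hWcard
    exact hp.one_lt.ne' hWcard
  -- key quadratic identity for `ξ * w`
  have key1 : ∀ w ∈ W, ∀ v : V,
      ξ (ξ ((ξ⁻¹ * w * ξ * w) v)) * v = ξ (w v) * ξ (w v) := by
    rintro _ ⟨u, rfl⟩ v
    rw [hτ]
    set U : MulAut V := (u : MulAut V) with hU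
    have hq := hquad (U v)
    have e1 : ξ * ξ * (ξ⁻¹ * (ξ⁻¹ * U⁻¹ * ξ * U) * ξ * (ξ⁻¹ * U⁻¹ * ξ * U)) = U⁻¹ * ξ * ξ * U := by
      group
    have e2 : ξ * (ξ⁻¹ * U⁻¹ * ξ * U) = U⁻¹ * ξ * U := by group
    show (ξ * ξ * (ξ⁻¹ * (ξ⁻¹ * U⁻¹ * ξ * U) * ξ * (ξ⁻¹ * U⁻¹ * ξ * U))) v * v =
      (ξ * (ξ⁻¹ * U⁻¹ * ξ * U)) v * (ξ * (ξ⁻¹ * U⁻¹ * ξ * U)) v
    rw [e1, e2]
    show U⁻¹ (ξ (ξ (U v))) * v = U⁻¹ (ξ (U v)) * U⁻¹ (ξ (U v))
    have h3 := congrArg (fun y => U⁻¹ y) hq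
    simp only [map_mul, MulAut.inv_apply_self] at h3
    exact h3
  -- the map `μ`
  let μ : W → W := fun w => ⟨ξ⁻¹ * w * ξ * w, W.mul_mem (hWc w w.2) w.2⟩
  have hμinj : Function.Injective μ := by
    intro w w' h
    have h' : ξ⁻¹ * (w : MulAut V) * ξ * w = ξ⁻¹ * (w' : MulAut V) * ξ * w' :=
      congrArg Subtype.val h
    set d : MulAut V := (w' : MulAut V)⁻¹ * w with hd
    have hdW : d ∈ W := W.mul_mem (W.inv_mem w'.2) w.2
    have hc : ξ⁻¹ * d * ξ = d⁻¹ := by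
      have e1 : ξ⁻¹ * d * ξ = (ξ⁻¹ * (w' : MulAut V) * ξ)⁻¹ * (ξ⁻¹ * (w : MulAut V) * ξ) := by
        rw [hd]; group
      have e2 : (ξ⁻¹ * (w' : MulAut V) * ξ)⁻¹ * (ξ⁻¹ * (w : MulAut V) * ξ) =
          (w' : MulAut V) * (w : MulAut V)⁻¹ := by
        rw [inv_mul_eq_iff_eq_mul, ← mul_assoc, ← h']; group
      have e3 : d⁻¹ = (w' : MulAut V) * (w : MulAut V)⁻¹ := by
        rw [hd, mul_inv_rev, inv_inv]
        exact hWcomm _ (W.inv_mem w.2) _ w'.2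
      rw [e1, e2, e3]
    have hc2 : ξ⁻¹ * (ξ⁻¹ * d * ξ) * ξ = d := by
      rw [hc]
      have : ξ⁻¹ * d⁻¹ * ξ = (ξ⁻¹ * d * ξ)⁻¹ := by group
      rw [this, hc, inv_inv]
    have hcomm2 : Commute d (ξ * ξ) := by
      show d * (ξ * ξ) = ξ * ξ * d
      calc d * (ξ * ξ) = ξ * ξ * (ξ⁻¹ * (ξ⁻¹ * d * ξ) * ξ) := by group
        _ = ξ * ξ * d := by rw [hc2]
    obtain ⟨j, hj⟩ : ∃ j, p ^ a = 2 * j + 1 := (hp.odd_of_ne_two hp2).pow
    have hξ' : ξ = ((ξ * ξ) ^ j)⁻¹ := by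
      rw [eq_inv_iff_mul_eq_one, ← pow_two, ← pow_mul, ← pow_succ', ← hj]
      exact hξ
    have hdξ : Commute d ξ := by
      rw [hξ']
      exact (hcomm2.pow_right j).inv_right
    obtain ⟨u, hu⟩ := id hdW
    rw [hτ] at hu
    set U : MulAut V := (u : MulAut V) with hU
    have h7 : U⁻¹ * ξ * U = ξ * d := by rw [← hu]; group
    have h5 : (U⁻¹ * ξ * U) ^ (p ^ a) = 1 := by
      have : U⁻¹ * ξ * U = U⁻¹ * ξ * U⁻¹⁻¹ := by rw [inv_inv]
      rw [this, conj_pow, hξ]; group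
    have h6 : (ξ * d) ^ (p ^ a) = ξ ^ (p ^ a) * d ^ (p ^ a) := hdξ.symm.mul_pow _
    rw [h7, h6, hξ, one_mul] at h5
    have hd𝔎 : d ^ Nat.card 𝔎 = 1 := by
      have := pow_card_eq_one' (G := 𝔎) (x := ⟨d, hW𝔎 hdW⟩)
      exact congrArg Subtype.val this
    have hd1 : d = 1 := eq_one_of_pow_coprime d _ _ hd𝔎 h5 (Nat.Coprime.pow_right a h𝔎)
    apply Subtype.ext
    rw [hd, inv_mul_eq_one] at hd1
    exact hd1.symm
  have hμbij : Function.Bijective μ := Finite.injective_iff_bijective.mp hμinj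
  haveI : Fintype W := Fintype.ofFinite W
  -- the trace
  let T : V → V := fun v => ∏ w : W, (w : MulAut V) v
  have hT : ∀ v : V, ξ (ξ (T v)) * v ^ Fintype.card W = ξ (T v) * ξ (T v) := by
    intro v
    have h1 : ∏ w : W, (ξ (ξ (((μ w : W) : MulAut V) v)) * v) =
        ∏ w : W, (ξ ((w : MulAut V) v) * ξ ((w : MulAut V) v)) :=
      Finset.prod_congr rfl (fun w _ => key1 w w.2 v)
    rw [Finset.prod_mul_distrib, Finset.prod_mul_distrib, Finset.prod_const, Finset.card_univ,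
      ← map_prod, ← map_prod, ← map_prod] at h1
    rw [hμbij.prod_comp (fun w : W => (w : MulAut V) v)] at h1
    exact h1
  have hfixT : ∀ k ∈ W, ∀ v : V, k (T v) = T v := by
    intro k hk v
    show k (∏ w : W, (w : MulAut V) v) = ∏ w : W, (w : MulAut V) v
    rw [map_prod]
    exact Equiv.prod_comp (Equiv.mulLeft (⟨k, hk⟩ : W)) (fun w : W => (w : MulAut V) v)
  have hfixξ : ∀ x : V, (∀ k ∈ W, k x = x) → ∀ k ∈ W, k (ξ x) = ξ x := by
    intro x hx k hk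
    have e : k * ξ = ξ * (ξ⁻¹ * k * ξ) := by group
    show (k * ξ) x = ξ x
    rw [e]
    show ξ ((ξ⁻¹ * k * ξ) x) = ξ x
    rw [hx _ (hWc k hk)]
  have hW1 : ∀ k ∈ W, k = 1 := by
    intro k hk
    ext v
    show k v = v
    have h1 := hfixξ (T v) (fun k hk => hfixT k hk v) k hk
    have h2 := hfixξ (ξ (T v)) (hfixξ (T v) (fun k hk => hfixT k hk v)) k hk
    have h3 : v ^ Fintype.card W = ξ (T v) * ξ (T v) * (ξ (ξ (T v)))⁻¹ := by
      rw [← hT v, mul_comm (ξ (ξ (T v))) _, mul_inv_cancel_right]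
    have h4 : k (v ^ Fintype.card W) = v ^ Fintype.card W := by
      rw [h3, map_mul, map_mul, map_inv, h1, h2]
    have h5a : (k v) ^ Fintype.card W = v ^ Fintype.card W := by
      rw [← map_pow]; exact h4
    have h5 : (k v * v⁻¹) ^ Fintype.card W = 1 := by
      rw [mul_pow, inv_pow, h5a, mul_inv_cancel]
    obtain ⟨n, hn⟩ := hV (k v * v⁻¹)
    have h6 : k v * v⁻¹ = 1 := eq_one_of_pow_coprime _ _ _ h5 hn (by
      rw [← Nat.card_eq_fintype_card]; exact Nat.Coprime.pow_right n hWcard)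
    exact mul_inv_eq_one.mp h6
  intro k hk
  have h := hW1 (τ ⟨k, hk⟩) ⟨⟨k, hk⟩, rfl⟩
  rw [hτ] at h
  calc ξ * k = k * (ξ * (ξ⁻¹ * k⁻¹ * ξ * k)) := by group
    _ = k * ξ := by rw [h, mul_one]

theorem quad_kill {V : Type*} [Group V] [Finite V] (hcomm : ∀ a b : V, a * b = b * a)
    {p : ℕ} [Fact p.Prime] (hp2 : p ≠ 2) (hV : IsPGroup p V)
    (𝔎 : Subgroup (MulAut V)) (h𝔎comm : ∀ a ∈ 𝔎, ∀ b ∈ 𝔎, a * b = b * a)
    (h𝔎 : Nat.Coprime (Nat.card 𝔎) p)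
    (ξ : MulAut V) (hnorm : ∀ k ∈ 𝔎, ξ⁻¹ * k * ξ ∈ 𝔎)
    (hquad : ∀ v : V, ξ (ξ v) * v = ξ v * ξ v) (a : ℕ) (hξ : ξ ^ p ^ a = 1) :
    ∀ k ∈ 𝔎, ξ * k = k * ξ := by
  letI : CommGroup V := { ‹Group V› with mul_comm := hcomm }
  exact quad_kill_comm hp2 hV 𝔎 h𝔎comm h𝔎 ξ hnorm hquad a hξ

/-- If `k` normalises the abelian `p`-group `A`, some `p'`-power of `k` centralises `A`, and `k`
centralises `Ω₁(A)`, then `k` centralises `A`. -/
theorem centralize_of_omega {G : Type*} [Group G] {p : ℕ} (A : Subgroup G)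
    (hAcomm : ∀ a ∈ A, ∀ b ∈ A, a * b = b * a) (hAp : ∀ a ∈ A, ∃ n : ℕ, a ^ p ^ n = 1)
    (k : G) (hkA : ∀ a ∈ A, k * a * k⁻¹ ∈ A) (m : ℕ) (hm : Nat.Coprime m p)
    (hkm : ∀ a ∈ A, k ^ m * a = a * k ^ m)
    (hΩ : ∀ a ∈ A, a ^ p = 1 → k * a = a * k) : ∀ a ∈ A, k * a = a * k := by
  have key : ∀ n : ℕ, ∀ a ∈ A, a ^ p ^ n = 1 → k * a = a * k := by
    intro n
    induction n with
    | zero =>
      intro a ha h
      rw [pow_zero, pow_one] at h
      rw [h]; simp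
    | succ n ih =>
      intro a ha h
      have hb : k * a ^ p = a ^ p * k :=
        ih (a ^ p) (A.pow_mem ha p) (by rw [← pow_mul, ← pow_succ']; exact h)
      set c := k * a * k⁻¹ * a⁻¹ with hc
      have hcA : c ∈ A := A.mul_mem (hkA a ha) (A.inv_mem ha)
      have hcp : c ^ p = 1 := by
        have h1 : Commute (k * a * k⁻¹) a⁻¹ := hAcomm _ (hkA a ha) _ (A.inv_mem ha)
        rw [hc, h1.mul_pow, conj_pow, inv_pow, hb]
        group
      have hkc : k * c = c * k := hΩ c hcA hcp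
      have hka : k * a = c * a * k := by rw [hc]; group
      have hj : ∀ j : ℕ, k ^ j * a = c ^ j * a * k ^ j := by
        intro j
        induction j with
        | zero => simp
        | succ j ihj =>
          have hkcj : k * c ^ j = c ^ j * k := Commute.pow_right hkc j
          calc k ^ (j + 1) * a = k * (k ^ j * a) := by rw [pow_succ', mul_assoc]
            _ = k * (c ^ j * a * k ^ j) := by rw [ihj]
            _ = (k * c ^ j) * a * k ^ j := by simp only [mul_assoc]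
            _ = c ^ j * (k * a) * k ^ j := by rw [hkcj]; simp only [mul_assoc]
            _ = c ^ j * (c * a * k) * k ^ j := by rw [hka]
            _ = c ^ (j + 1) * a * k ^ (j + 1) := by
              rw [pow_succ c j, pow_succ' k j]; simp only [mul_assoc]
      have h2 := hj m
      rw [hkm a ha] at h2
      have h3 : a = c ^ m * a := mul_right_cancel h2
      have hcm : c ^ m = 1 := by
        calc c ^ m = (c ^ m * a) * a⁻¹ := by rw [mul_inv_cancel_right]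
          _ = a * a⁻¹ := by rw [← h3]
          _ = 1 := mul_inv_cancel a
      have hc1 : c = 1 := eq_one_of_pow_coprime c _ _ hcm hcp hm
      calc k * a = (k * a * k⁻¹ * a⁻¹) * a * k := by group
        _ = a * k := by rw [← hc, hc1, one_mul]
  intro a ha
  obtain ⟨n, hn⟩ := hAp a ha
  exact key n a ha hn

/-- In a minimal configuration, `C_K(V) ≤ H` as soon as `P` and `C_K(V)` centralise `W₂ P`. -/
theorem MinCex.cent_inf_le {G : Type u} [Group G] [Finite G] {p : ℕ} [Fact p.Prime]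
    {W₁ W₂ : PFun.{u} p} {𝒞 : Hered.{u}} {P : Sylow p G} {H K : Subgroup G}
    (hmin : MinCex p W₁ W₂ 𝒞 G P H K) (V : Subgroup G) [V.Normal]
    (hP2 : (P : Subgroup G) ≤ centralizer (W₂.W G (P : Subgroup G) : Set G))
    (hV2 : ∀ k ∈ K, k ∈ centralizer (V : Set G) →
      k ∈ centralizer (W₂.W G (P : Subgroup G) : Set G)) :
    centralizer (V : Set G) ⊓ K ≤ H := by
  haveI := hmin.K_normal
  set N₀ := centralizer (V : Set G) ⊓ K with hN₀
  haveI : N₀.Normal := by rw [hN₀]; infer_instance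
  rcases hmin.P_max (N₀ ⊔ P) le_sup_right with h | h
  · intro k hk
    have hkP : k ∈ (P : Subgroup G) := h ▸ (le_sup_left : N₀ ≤ N₀ ⊔ (P : Subgroup G)) hk
    obtain ⟨n, hn⟩ := P.2 ⟨k, hkP⟩
    exact hmin.K_p k hk.2 n (by simpa using congrArg Subtype.val hn)
  · exfalso
    apply hmin.not_npc
    have h1 : centralizer (W₂.W G (P : Subgroup G) : Set G) = ⊤ := by
      rw [eq_top_iff, ← h]
      exact sup_le (fun k hk => hV2 k hk.2 hk.1) hP2
    have := hmin.npc₂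
    rw [h1] at this
    exact npc_of_top this

/-- In a minimal configuration, `C_G(V) ≤ H` for a normal `V` with `C_K(V) ≤ H`. -/
theorem MinCex.cent_le_of_inf {G : Type u} [Group G] [Finite G] {p : ℕ} [Fact p.Prime]
    {W₁ W₂ : PFun.{u} p} {𝒞 : Hered.{u}} {P : Sylow p G} {H K : Subgroup G}
    (hmin : MinCex p W₁ W₂ 𝒞 G P H K) (V : Subgroup G) [V.Normal]
    (hVK : centralizer (V : Set G) ⊓ K ≤ H) : centralizer (V : Set G) ≤ H := by
  haveI := hmin.K_normal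
  obtain ⟨a, ha⟩ := hmin.K_index
  apply hmin.core _ inferInstance
  rintro ⟨c, hc⟩
  have h1 : c ^ K.index ∈ K := K.pow_index_mem c
  have h2 : c ^ K.index ∈ H := hVK ⟨(centralizer (V : Set G)).pow_mem hc _, h1⟩
  obtain ⟨n, hn⟩ := hmin.H_pgroup ⟨_, h2⟩
  refine ⟨a + n, Subtype.ext ?_⟩
  have hn' : (c ^ K.index) ^ p ^ n = 1 := by
    have := congrArg Subtype.val hn
    simpa using this
  rw [ha] at hn'
  show c ^ p ^ (a + n) = 1
  rw [pow_add, pow_mul]; exact hn'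

/-- **Quadratic endgame** (`p` odd): in a minimal configuration there is no element of `P ∖ H`
acting quadratically on a normal subgroup `V ≤ Z(H)` with `C_K(V) ≤ H`. -/
theorem MinCex.quad_endgame {G : Type u} [Group G] [Finite G] {p : ℕ} [Fact p.Prime]
    (hp2 : p ≠ 2) {W₁ W₂ : PFun.{u} p} {𝒞 : Hered.{u}} {P : Sylow p G} {H K : Subgroup G}
    (hmin : MinCex p W₁ W₂ 𝒞 G P H K)
    (V : Subgroup G) [hVn : V.Normal] (hVH : V ≤ H) (hVZ : V ≤ centralizer (H : Set G))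
    (hVK : centralizer (V : Set G) ⊓ K ≤ H)
    (x : G) (hxP : x ∈ (P : Subgroup G)) (hxH : x ∉ H)
    (hquad : ∀ v ∈ V, (v * x * v⁻¹ * x⁻¹) * x = x * (v * x * v⁻¹ * x⁻¹)) : False := by
  have hp : p.Prime := Fact.out
  haveI := hmin.H_normal
  haveI hKn := hmin.K_normal
  have hVcomm : ∀ a ∈ V, ∀ b ∈ V, a * b = b * a := fun a ha b hb =>
    (Subgroup.mem_centralizer_iff.mp (hVZ ha) b (hVH hb)).symm
  have hHV : H ≤ centralizer (V : Set G) := by
    intro h hh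
    rw [Subgroup.mem_centralizer_iff]
    intro v hv
    exact (Subgroup.mem_centralizer_iff.mp (hVZ hv) h hh).symm
  let ρ : G →* MulAut V := MulAut.conjNormal
  have hρ : ∀ (g : G) (v : V), ((ρ g v : V) : G) = g * v * g⁻¹ :=
    fun g v => MulAut.conjNormal_apply g v
  have hρker : ∀ g : G, ρ g = 1 ↔ g ∈ centralizer (V : Set G) := by
    intro g
    constructor
    · intro h
      rw [Subgroup.mem_centralizer_iff]
      intro v hv
      have h1 := hρ g ⟨v, hv⟩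
      rw [h] at h1
      have h2 : v = g * v * g⁻¹ := h1
      calc v * g = g * v * g⁻¹ * g := by rw [← h2]
        _ = g * v := by group
    · intro h
      ext v
      rw [hρ]
      have := Subgroup.mem_centralizer_iff.mp h v v.2
      show g * (v : G) * g⁻¹ = v
      rw [← this]; group
  set 𝔎 : Subgroup (MulAut V) := K.map ρ with h𝔎
  have h𝔎comm : ∀ a ∈ 𝔎, ∀ b ∈ 𝔎, a * b = b * a := by
    rintro _ ⟨a, ha, rfl⟩ _ ⟨b, hb, rfl⟩
    have h1 : ρ a * ρ b * (ρ a)⁻¹ * (ρ b)⁻¹ = 1 := by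
      rw [← map_inv, ← map_inv, ← map_mul, ← map_mul, ← map_mul]
      exact (hρker _).mpr (hHV (hmin.K_comm a ha b hb))
    calc ρ a * ρ b = (ρ a * ρ b * (ρ a)⁻¹ * (ρ b)⁻¹) * (ρ b * ρ a) := by group
      _ = ρ b * ρ a := by rw [h1, one_mul]
  obtain ⟨q, hq, hqp, hKq⟩ := hmin.K_q
  haveI : Fact q.Prime := ⟨hq⟩
  have h𝔎q : IsPGroup q 𝔎 := by
    rintro ⟨_, k, hk, rfl⟩
    obtain ⟨n, hn⟩ := hKq k hk
    refine ⟨n, Subtype.ext ?_⟩
    show (ρ k) ^ q ^ n = 1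
    rw [← map_pow]
    exact (hρker _).mpr (hHV hn)
  have h𝔎cop : Nat.Coprime (Nat.card 𝔎) p := by
    obtain ⟨m, hm⟩ := IsPGroup.iff_card.mp h𝔎q
    rw [hm]
    exact Nat.Coprime.pow_left m ((Nat.coprime_primes hq hp).mpr hqp)
  have hnorm : ∀ k ∈ 𝔎, (ρ x)⁻¹ * k * ρ x ∈ 𝔎 := by
    rintro _ ⟨k, hk, rfl⟩
    refine ⟨x⁻¹ * k * x, ?_, by simp [map_mul]⟩
    have := hKn.conj_mem k hk x⁻¹
    simpa using this
  have hquad' : ∀ v : V, ρ x (ρ x v) * v = ρ x v * ρ x v := by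
    intro v
    apply Subtype.ext
    simp only [Subgroup.coe_mul, hρ]
    set t := (v : G) * x * (v : G)⁻¹ * x⁻¹ with ht
    have htx := hquad v v.2
    have htV : t ∈ V := by
      have h1 : x * (v : G)⁻¹ * x⁻¹ ∈ V := hVn.conj_mem _ (V.inv_mem v.2) x
      have : t = (v : G) * (x * (v : G)⁻¹ * x⁻¹) := by rw [ht]; group
      rw [this]; exact V.mul_mem v.2 h1
    have hvt : (v : G) * t⁻¹ = t⁻¹ * v := hVcomm _ v.2 _ (V.inv_mem htV)
    have hxt : x * t⁻¹ = t⁻¹ * x := by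
      calc x * t⁻¹ = t⁻¹ * (t * x) * t⁻¹ := by group
        _ = t⁻¹ * (x * t) * t⁻¹ := by rw [htx]
        _ = t⁻¹ * x := by group
    have e1 : x * (v : G) * x⁻¹ = t⁻¹ * v := by rw [ht]; group
    have e2 : x * (t⁻¹ * (v : G)) * x⁻¹ = t⁻¹ * (x * v * x⁻¹) := by
      calc x * (t⁻¹ * (v : G)) * x⁻¹ = (x * t⁻¹) * v * x⁻¹ := by group
        _ = (t⁻¹ * x) * v * x⁻¹ := by rw [hxt]
        _ = t⁻¹ * (x * v * x⁻¹) := by group
    rw [e1, e2, e1]
    calc t⁻¹ * (t⁻¹ * (v : G)) * v = t⁻¹ * (t⁻¹ * v) * v := rfl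
      _ = t⁻¹ * ((v : G) * t⁻¹) * v := by rw [hvt]
      _ = t⁻¹ * v * (t⁻¹ * v) := by group
  obtain ⟨n, hn⟩ := P.2 ⟨x, hxP⟩
  have hxn : x ^ p ^ n = 1 := by simpa using congrArg Subtype.val hn
  have hξ : (ρ x) ^ p ^ n = 1 := by rw [← map_pow, hxn, map_one]
  have hcommξ := quad_kill (fun a b => Subtype.ext (hVcomm _ a.2 _ b.2)) hp2
    (hmin.H_pgroup.to_le hVH) 𝔎 h𝔎comm h𝔎cop (ρ x) hnorm hquad' n hξ
  have hxK : ∀ k ∈ K, x * k * x⁻¹ * k⁻¹ ∈ H := by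
    intro k hk
    apply hVK
    refine ⟨(hρker _).mp ?_, K.mul_mem (hKn.conj_mem k hk x) (K.inv_mem hk)⟩
    have h1 := hcommξ (ρ k) ⟨k, hk, rfl⟩
    simp only [map_mul, map_inv]
    rw [h1]; group
  have hπ := QuotientGroup.mk'_surjective H
  have hmemH : ∀ y : G, QuotientGroup.mk' H y = 1 ↔ y ∈ H := fun y => QuotientGroup.eq_one_iff y
  set Kb : Subgroup (G ⧸ H) := K.map (QuotientGroup.mk' H) with hKb
  haveI : Kb.Normal := hKn.map _ hπ
  set Ct : Subgroup G := (centralizer (Kb : Set (G ⧸ H))).comap (QuotientGroup.mk' H) with hCt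
  haveI hCtn : Ct.Normal := by rw [hCt]; infer_instance
  have hCt1 : ∀ g ∈ Ct, ∀ k ∈ K, g * k * g⁻¹ * k⁻¹ ∈ H := by
    intro g hg k hk
    rw [← hmemH]
    have h1 : QuotientGroup.mk' H k * QuotientGroup.mk' H g =
        QuotientGroup.mk' H g * QuotientGroup.mk' H k :=
      Subgroup.mem_centralizer_iff.mp hg _ ⟨k, hk, rfl⟩
    simp only [map_mul, map_inv]
    rw [← h1]; group
  have hCt2 : ∀ g : G, (∀ k ∈ K, g * k * g⁻¹ * k⁻¹ ∈ H) → g ∈ Ct := by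
    intro g hg
    rw [hCt, Subgroup.mem_comap, Subgroup.mem_centralizer_iff]
    rintro _ ⟨k, hk, rfl⟩
    have h1 := (hmemH _).mpr (hg k hk)
    simp only [map_mul, map_inv] at h1
    calc QuotientGroup.mk' H k * QuotientGroup.mk' H g
        = (QuotientGroup.mk' H g * QuotientGroup.mk' H k * (QuotientGroup.mk' H g)⁻¹ *
            (QuotientGroup.mk' H k)⁻¹)⁻¹ * (QuotientGroup.mk' H g * QuotientGroup.mk' H k) := by
          group
      _ = QuotientGroup.mk' H g * QuotientGroup.mk' H k := by rw [h1, inv_one, one_mul]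
  set Y : Subgroup G := Ct ⊓ P with hY
  have hYn : Y.Normal := by
    constructor
    intro y hy g
    refine ⟨hCtn.conj_mem y hy.1 g, ?_⟩
    have hg : g ∈ K ⊔ (P : Subgroup G) := by rw [hmin.K_sup]; exact Subgroup.mem_top g
    rw [Cfsg.Agent.Lib.helper8.mem_sup_iff_of_le_normalizer
      (by rw [Subgroup.normalizer_eq_top]; exact le_top)] at hg
    obtain ⟨k, hk, y', hy', rfl⟩ := hg
    set y'' := y' * y * y'⁻¹ with hy''
    have hy''P : y'' ∈ (P : Subgroup G) :=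
      (P : Subgroup G).mul_mem ((P : Subgroup G).mul_mem hy' hy.2) ((P : Subgroup G).inv_mem hy')
    have hy''C : y'' ∈ Ct := hCtn.conj_mem y hy.1 y'
    have h1 : k * y'' * k⁻¹ * y''⁻¹ ∈ H := by
      have := H.inv_mem (hCt1 y'' hy''C k hk)
      have e : (y'' * k * y''⁻¹ * k⁻¹)⁻¹ = k * y'' * k⁻¹ * y''⁻¹ := by group
      rwa [e] at this
    have e : k * y' * y * (k * y')⁻¹ = (k * y'' * k⁻¹ * y''⁻¹) * y'' := by rw [hy'']; group
    rw [e]
    exact (P : Subgroup G).mul_mem (hmin.H_le_P h1) hy''P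
  have hYH : Y ≤ H := hmin.core Y hYn (P.2.to_le inf_le_right)
  exact hxH (hYH ⟨hCt2 x hxK, hxP⟩)

end Cfsg.Agent.Lib.helper1
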