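import Mathlib
import Cfsg.Agent.Lib.helper1.QuadKill
import Cfsg.Agent.Lib.helper3.Thompson
import Cfsg.Agent.S0602
import Cfsg.Agent.S0603
import Cfsg.Agent.S0607

/-!
# Thompson's normal `p`-complement theorem (`p` odd, elementary abelian `J`) (seat helper1)
-/

set_option autoImplicit false

namespace Cfsg.Agent.Lib.helper1

open Subgroup
open scoped commutatorElement

universe u

/-- The functor `J` (elementary abelian version). -/
noncomputable def JJ (p : ℕ) [Fact p.Prime] : PFun.{u} p where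
  W := fun G _ S => Cfsg.thompsonSubgroupOf p S
  le := fun G _ _ S => by unfold Cfsg.thompsonSubgroupOf; exact Subgroup.map_subtype_le _
  map := fun G Q _ _ _ _ f S hS => Cfsg.Agent.Lib.helper3.thompsonSubgroupOf_map p f S hS
  ne_bot := fun G _ _ S hS hS1 => by
    unfold Cfsg.thompsonSubgroupOf
    rw [Ne, Subgroup.map_eq_bot_iff_of_injective _ S.subtype_injective]
    apply (Cfsg.Agent.S0602.result (G := S) (p := p)).2
    obtain ⟨k, hk⟩ := IsPGroup.iff_card.mp hS
    have hk0 : k ≠ 0 := by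
      rintro rfl
      rw [pow_zero] at hk
      exact hS1 (Subgroup.eq_bot_of_card_eq S hk)
    rw [hk]; exact dvd_pow_self p hk0

/-- The functor `Z` (centre). -/
def ZZ (p : ℕ) [Fact p.Prime] : PFun.{u} p where
  W := fun G _ S => S ⊓ centralizer (S : Set G)
  le := fun G _ _ S => inf_le_left
  map := fun G Q _ _ _ _ f S hS => by
    ext y
    constructor
    · rintro ⟨⟨s, hs, rfl⟩, hy⟩
      have hy' : f s ∈ centralizer ((S.map f : Subgroup Q) : Set Q) := hy
      refine ⟨s, ⟨hs, ?_⟩, rfl⟩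
      show s ∈ centralizer (S : Set G)
      rw [Subgroup.mem_centralizer_iff]
      intro s' hs'
      have h1 : f s' * f s = f s * f s' := Subgroup.mem_centralizer_iff.mp hy' _ ⟨s', hs', rfl⟩
      have h2 : (s' * s) * (s * s')⁻¹ ∈ S ⊓ f.ker := by
        refine ⟨S.mul_mem (S.mul_mem hs' hs) (S.inv_mem (S.mul_mem hs hs')), ?_⟩
        show (s' * s) * (s * s')⁻¹ ∈ f.ker
        rw [MonoidHom.mem_ker, map_mul, map_inv, map_mul, map_mul, h1, mul_inv_cancel]
      rw [hS, Subgroup.mem_bot] at h2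
      exact mul_inv_eq_one.mp h2
    · rintro ⟨s, ⟨hs, hsc⟩, rfl⟩
      have hsc' : s ∈ centralizer (S : Set G) := hsc
      refine ⟨⟨s, hs, rfl⟩, ?_⟩
      show f s ∈ centralizer ((S.map f : Subgroup Q) : Set Q)
      rw [Subgroup.mem_centralizer_iff]
      rintro _ ⟨s', hs', rfl⟩
      rw [← map_mul, ← map_mul, Subgroup.mem_centralizer_iff.mp hsc' s' hs']
  ne_bot := fun G _ _ S hS hS1 => by
    haveI : Nontrivial S := (Subgroup.nontrivial_iff_ne_bot S).mpr hS1
    haveI := hS.center_nontrivial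
    obtain ⟨z, hz1⟩ := exists_ne (1 : Subgroup.center S)
    intro h
    have hzZ : ((z : S) : G) ∈ S ⊓ centralizer (S : Set G) := by
      refine ⟨(z : S).2, ?_⟩
      show ((z : S) : G) ∈ centralizer (S : Set G)
      rw [Subgroup.mem_centralizer_iff]
      intro h hh
      have := Subgroup.mem_center_iff.mp z.2 ⟨h, hh⟩
      exact congrArg Subtype.val this
    rw [h, Subgroup.mem_bot] at hzZ
    apply hz1
    apply Subtype.ext
    apply Subtype.ext
    simpa using hzZ

/-- The class of all groups. -/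
def trivHered : Hered.{u} where
  C := fun _ _ => True
  sub := fun _ _ _ _ _ => trivial
  quot := fun _ _ _ _ _ _ => trivial

/-- `Ω₁` of an abelian subgroup. -/
def omegaSub {G : Type*} [Group G] (p : ℕ) (A : Subgroup G)
    (hA : ∀ a ∈ A, ∀ b ∈ A, a * b = b * a) : Subgroup G where
  carrier := {z | z ∈ A ∧ z ^ p = 1}
  mul_mem' := by
    rintro a b ⟨ha, hap⟩ ⟨hb, hbp⟩
    refine ⟨A.mul_mem ha hb, ?_⟩
    have : Commute a b := hA a ha b hb
    rw [this.mul_pow, hap, hbp, one_mul]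
  one_mem' := ⟨A.one_mem, one_pow p⟩
  inv_mem' := by
    rintro a ⟨ha, hap⟩
    exact ⟨A.inv_mem ha, by rw [inv_pow, hap, inv_one]⟩

theorem mem_omegaSub {G : Type*} [Group G] (p : ℕ) (A : Subgroup G)
    (hA : ∀ a ∈ A, ∀ b ∈ A, a * b = b * a) (z : G) :
    z ∈ omegaSub p A hA ↔ z ∈ A ∧ z ^ p = 1 := Iff.rfl

theorem thompsonSubgroupOf_eq_of_le {G : Type u} [Group G] [Finite G] {p : ℕ} [Fact p.Prime]
    (S U : Subgroup G) (hUS : U ≤ S) (hJ : Cfsg.thompsonSubgroupOf p S ≤ U) :
    Cfsg.thompsonSubgroupOf p U = Cfsg.thompsonSubgroupOf p S := by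
  have h1 : Cfsg.thompsonSubgroup p S ≤ U.subgroupOf S := by
    intro x hx
    rw [Subgroup.mem_subgroupOf]
    exact hJ ⟨x, hx, rfl⟩
  have h2 := Cfsg.Agent.S0603.result (G := S) (p := p) (U.subgroupOf S) h1
  have h3 := Cfsg.Agent.Lib.helper3.thompsonSubgroupOf_map p S.subtype (U.subgroupOf S)
    (inf_ker_eq_bot_of_injective _ S.subtype_injective _)
  rw [Subgroup.map_subgroupOf_eq_of_le hUS] at h3
  rw [h3, h2]
  rfl

theorem thompson_final {G : Type u} [Group G] [Finite G] {p : ℕ} [Fact p.Prime] (hp2 : p ≠ 2)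
    (P : Sylow p G) (H K : Subgroup G)
    (hmin : MinCex p (JJ p) (ZZ p) trivHered G P H K) : False := by
  have hp : p.Prime := Fact.out
  haveI hHn := hmin.H_normal
  haveI hKn := hmin.K_normal
  have hHP := hmin.H_le_P
  have hP2 : (P : Subgroup G) ≤ centralizer ((ZZ p).W G (P : Subgroup G) : Set G) := by
    intro y hy
    rw [Subgroup.mem_centralizer_iff]
    intro z hz
    have hz2 : z ∈ centralizer ((P : Subgroup G) : Set G) := hz.2
    exact (Subgroup.mem_centralizer_iff.mp hz2 y hy).symm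
  have hJH : ¬ Cfsg.thompsonSubgroupOf p (P : Subgroup G) ≤ H := by
    intro hle
    have h1 := thompsonSubgroupOf_eq_of_le (P : Subgroup G) H hHP hle
    have h2 : normalizer (H : Set G) ≤ normalizer ((JJ p).W G H : Set G) :=
      (JJ p).normalizer_le G H
    rw [Subgroup.normalizer_eq_top] at h2
    have h3 : normalizer ((JJ p).W G (P : Subgroup G) : Set G) = ⊤ := by
      rw [eq_top_iff]
      have : (JJ p).W G H = (JJ p).W G (P : Subgroup G) := h1
      rw [← this]; exact h2
    rw [hmin.norm₁] at h3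
    exact hmin.P_ne_top h3
  obtain ⟨A, hA, hAH⟩ : ∃ A ∈ Cfsg.maxElementaryAbelianSubgroups p (P : Subgroup G),
      ¬ A.map (P : Subgroup G).subtype ≤ H := by
    by_contra hcon
    push Not at hcon
    apply hJH
    unfold Cfsg.thompsonSubgroupOf Cfsg.thompsonSubgroup
    rw [Subgroup.map_le_iff_le_comap]
    apply sSup_le
    intro A hA a ha
    rw [Subgroup.mem_comap]
    exact hcon A hA ⟨a, ha, rfl⟩
  set Z : Subgroup G := H ⊓ centralizer (H : Set G) with hZ
  haveI hZn : Z.Normal := by rw [hZ]; infer_instance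
  have hZcomm : ∀ a ∈ Z, ∀ b ∈ Z, a * b = b * a := fun a ha b hb =>
    (Subgroup.mem_centralizer_iff.mp ha.2 b hb.1).symm
  set V : Subgroup G := omegaSub p Z hZcomm with hV
  haveI hVn : V.Normal := by
    constructor
    rintro z ⟨hz, hzp⟩ g
    exact ⟨hZn.conj_mem z hz g, by rw [conj_pow, hzp]; group⟩
  have hVH : V ≤ H := fun z hz => hz.1.1
  have hVZ : V ≤ centralizer (H : Set G) := fun z hz => hz.1.2
  obtain ⟨q, hq, hqp, hKq⟩ := hmin.K_q
  have hV2 : ∀ k ∈ K, k ∈ centralizer (V : Set G) →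
      k ∈ centralizer ((ZZ p).W G (P : Subgroup G) : Set G) := by
    intro k hk hkV
    obtain ⟨n, hn⟩ := hKq k hk
    have hcent := centralize_of_omega (p := p) Z hZcomm
      (fun a ha => by
        obtain ⟨m, hm⟩ := hmin.H_pgroup ⟨a, ha.1⟩
        exact ⟨m, by simpa using congrArg Subtype.val hm⟩)
      k (fun a ha => hZn.conj_mem a ha k) (q ^ n)
      (Nat.Coprime.pow_left n ((Nat.coprime_primes hq hp).mpr hqp))
      (fun a ha => Subgroup.mem_centralizer_iff.mp ha.2 _ hn)
      (fun a ha hap => (Subgroup.mem_centralizer_iff.mp hkV a ⟨ha, hap⟩).symm)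
    rw [Subgroup.mem_centralizer_iff]
    intro z hz
    have hz2 : z ∈ centralizer ((P : Subgroup G) : Set G) := hz.2
    have hzZ : z ∈ Z := by
      have hzc : z ∈ centralizer (H : Set G) := by
        rw [Subgroup.mem_centralizer_iff]
        intro h hh
        exact Subgroup.mem_centralizer_iff.mp hz2 h (hHP hh)
      exact ⟨hmin.cent_le hzc, hzc⟩
    exact (hcent z hzZ).symm
  have hVK := hmin.cent_inf_le V hP2 hV2
  have hV' : Cfsg.IsElementaryAbelian p (V.subgroupOf (P : Subgroup G)) := by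
    rw [Cfsg.Agent.Lib.helper3.isEA_iff]
    constructor
    · intro a ha b hb
      apply Subtype.ext
      exact hZcomm _ (Subgroup.mem_subgroupOf.mp ha).1 _ (Subgroup.mem_subgroupOf.mp hb).1
    · intro a ha
      apply Subtype.ext
      exact (Subgroup.mem_subgroupOf.mp ha).2
  obtain ⟨-, hquadA, hne⟩ :=
    Cfsg.Agent.S0607.result (V.subgroupOf (P : Subgroup G)) hV' A hA
  set V' := V.subgroupOf (P : Subgroup G) with hV'def
  set A₀ := ⁅V', A⁆ ⊔ (A ⊓ centralizer ((⁅V', A⁆ : Subgroup (P : Subgroup G)) :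
    Set (P : Subgroup G))) with hA₀
  have hVA : ⁅V', A⁆ ≠ ⊥ := by
    intro h
    apply hAH
    rintro _ ⟨a, ha, rfl⟩
    apply hmin.cent_le_of_inf V hVK
    rw [Subgroup.mem_centralizer_iff]
    intro v hv
    have hvP : v ∈ (P : Subgroup G) := hHP (hVH hv)
    have h1 : ⁅(⟨v, hvP⟩ : (P : Subgroup G)), a⁆ ∈ ⁅V', A⁆ :=
      Subgroup.commutator_mem_commutator (Subgroup.mem_subgroupOf.mpr hv) ha
    rw [h, Subgroup.mem_bot, commutatorElement_eq_one_iff_mul_comm] at h1
    exact congrArg Subtype.val h1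
  have hVA₀ := hne hVA
  have h2 : ¬ V' ≤ centralizer (A₀ : Set (P : Subgroup G)) := by
    intro hle
    exact hVA₀ (Subgroup.commutator_eq_bot_iff_le_centralizer.mpr hle)
  rw [SetLike.not_le_iff_exists] at h2
  obtain ⟨v', hv', hv'c⟩ := h2
  rw [Subgroup.mem_centralizer_iff] at hv'c
  push Not at hv'c
  obtain ⟨x', hx', hx'v⟩ := hv'c
  apply hmin.quad_endgame hp2 V hVH hVZ hVK (x' : G) x'.2
  · intro hxH
    apply hx'v
    apply Subtype.ext
    exact Subgroup.mem_centralizer_iff.mp (hVZ (Subgroup.mem_subgroupOf.mp hv')) _ hxH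
  · intro v hv
    have hvP : v ∈ (P : Subgroup G) := hHP (hVH hv)
    have h1 : ⁅(⟨v, hvP⟩ : (P : Subgroup G)), x'⁆ ∈ ⁅V', A₀⁆ :=
      Subgroup.commutator_mem_commutator (Subgroup.mem_subgroupOf.mpr hv) hx'
    have h3 : ⁅⁅(⟨v, hvP⟩ : (P : Subgroup G)), x'⁆, x'⁆ ∈ ⁅⁅V', A₀⁆, A₀⁆ :=
      Subgroup.commutator_mem_commutator h1 hx'
    rw [hquadA, Subgroup.mem_bot, commutatorElement_eq_one_iff_mul_comm] at h3
    have h4 := congrArg Subtype.val h3
    simpa [commutatorElement_def] using h4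

/-- **Thompson's normal `p`-complement theorem** for odd `p`. -/
theorem thompson_npc (p : ℕ) [Fact p.Prime] (hp2 : p ≠ 2) (G : Type u) [Group G] [Finite G] :
    TStmt p (JJ p) (ZZ p) trivHered G :=
  thompson_reduction p (JJ p) (ZZ p) trivHered
    (fun _ _ _ P H K hmin => thompson_final hp2 P H K hmin) G

end Cfsg.Agent.Lib.helper1
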