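import Mathlib
import Cfsg.Agent.Lib.helper1.ThompsonJ
import Cfsg.Agent.Lib.helper1.Fitting
import Cfsg.Agent.S0031
import Cfsg.Agent.S0032

/-!
# Thompson's theorem: fixed-point-free automorphisms of prime order (seat helper1)
-/

set_option autoImplicit false

namespace Cfsg.Agent.Lib.helper1

open Subgroup

universe u

/-- `φ` is fixed-point-free with `φ ^ r = 1`. -/
def FP (r : ℕ) (G : Type u) [Group G] (φ : G ≃* G) : Prop :=
  (∀ g : G, φ g = g → g = 1) ∧ φ ^ r = 1

/-- Restriction of an automorphism to an invariant subgroup. -/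
noncomputable def restrictAut {G : Type u} [Group G] [Finite G] (φ : G ≃* G) (M : Subgroup G)
    (hM : ∀ m ∈ M, φ m ∈ M) : M ≃* M :=
  MulEquiv.ofBijective
    ({ toFun := fun m => ⟨φ m, hM m m.2⟩
       map_one' := Subtype.ext (map_one φ)
       map_mul' := fun a b => Subtype.ext (map_mul φ (a : G) (b : G)) } : M →* M)
    (Finite.injective_iff_bijective.mp
      (fun a b h => Subtype.ext (φ.injective (congrArg Subtype.val h))))

theorem restrictAut_apply {G : Type u} [Group G] [Finite G] (φ : G ≃* G) (M : Subgroup G)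
    (hM : ∀ m ∈ M, φ m ∈ M) (m : M) : ((restrictAut φ M hM m : M) : G) = φ m := rfl

theorem restrictAut_pow_apply {G : Type u} [Group G] [Finite G] (φ : G ≃* G) (M : Subgroup G)
    (hM : ∀ m ∈ M, φ m ∈ M) (n : ℕ) (m : M) :
    (((restrictAut φ M hM ^ n) m : M) : G) = (φ ^ n) m := by
  induction n generalizing m with
  | zero => simp
  | succ n ih =>
    rw [pow_succ, pow_succ]
    show (((restrictAut φ M hM ^ n) (restrictAut φ M hM m) : M) : G) = (φ ^ n) (φ m)
    rw [ih]; rfl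

theorem FP.restrict {G : Type u} [Group G] [Finite G] {φ : G ≃* G} {r : ℕ} (h : FP r G φ)
    (M : Subgroup G) (hM : ∀ m ∈ M, φ m ∈ M) : FP r M (restrictAut φ M hM) := by
  refine ⟨fun m hm => Subtype.ext (h.1 m (congrArg Subtype.val hm)), ?_⟩
  ext m
  rw [restrictAut_pow_apply, h.2]; rfl

theorem map_eq_of_inv {G : Type u} [Group G] [Finite G] (φ : G ≃* G) (M : Subgroup G)
    (hM : ∀ m ∈ M, φ m ∈ M) : M.map (φ : G →* G) = M := by
  apply Subgroup.eq_of_le_of_card_ge
  · rintro _ ⟨m, hm, rfl⟩; exact hM m hm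
  · rw [Subgroup.card_map_of_injective (f := (φ : G →* G)) φ.injective]

theorem symm_mem_of_inv {G : Type u} [Group G] [Finite G] (φ : G ≃* G) (M : Subgroup G)
    (hM : ∀ m ∈ M, φ m ∈ M) (m : G) (hm : m ∈ M) : φ.symm m ∈ M := by
  have h := map_eq_of_inv φ M hM
  rw [← h] at hm
  obtain ⟨y, hy, rfl⟩ := hm
  simpa using hy

/-- The induced automorphism of a quotient by an invariant normal subgroup. -/
noncomputable def quotAut {G : Type u} [Group G] [Finite G] (φ : G ≃* G) (N : Subgroup G)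
    [N.Normal] (hN : ∀ n ∈ N, φ n ∈ N) : G ⧸ N ≃* G ⧸ N :=
  QuotientGroup.congr N N φ (map_eq_of_inv φ N hN)

theorem quotAut_mk {G : Type u} [Group G] [Finite G] (φ : G ≃* G) (N : Subgroup G)
    [N.Normal] (hN : ∀ n ∈ N, φ n ∈ N) (x : G) :
    quotAut φ N hN (QuotientGroup.mk x) = QuotientGroup.mk (φ x) := rfl

theorem quotAut_pow_mk {G : Type u} [Group G] [Finite G] (φ : G ≃* G) (N : Subgroup G)
    [N.Normal] (hN : ∀ n ∈ N, φ n ∈ N) (n : ℕ) (x : G) :
    (quotAut φ N hN ^ n) (QuotientGroup.mk x) = QuotientGroup.mk ((φ ^ n) x) := by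
  induction n generalizing x with
  | zero => simp
  | succ n ih =>
    rw [pow_succ, pow_succ]
    show (quotAut φ N hN ^ n) (quotAut φ N hN (QuotientGroup.mk x)) = _
    rw [quotAut_mk, ih]; rfl

theorem FP.quot {G : Type u} [Group G] [Finite G] {φ : G ≃* G} {r : ℕ} (h : FP r G φ)
    (N : Subgroup G) [N.Normal] (hN : ∀ n ∈ N, φ n ∈ N) : FP r (G ⧸ N) (quotAut φ N hN) := by
  refine ⟨?_, ?_⟩
  · intro y hy
    obtain ⟨x, rfl⟩ := QuotientGroup.mk_surjective y
    rw [quotAut_mk] at hy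
    have h1 : (φ x)⁻¹ * x ∈ N := QuotientGroup.eq.mp hy
    have h2 := Cfsg.Agent.S0032.result φ (fun g hg => h.1 g hg) N hN x h1
    exact (QuotientGroup.eq_one_iff x).mpr h2
  · ext y
    obtain ⟨x, rfl⟩ := QuotientGroup.mk_surjective y
    rw [quotAut_pow_mk, h.2]; rfl

theorem FP.pow_fpf {G : Type u} [Group G] {φ : G ≃* G} {r : ℕ} (hr : r.Prime) (h : FP r G φ)
    (i : ℕ) (hi0 : 0 < i) (hir : i < r) (x : G) (hx : (φ ^ i) x = x) : x = 1 := by
  have hcop : Nat.Coprime i r :=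
    ((Nat.Prime.coprime_iff_not_dvd hr).mpr (Nat.not_dvd_of_pos_of_lt hi0 hir)).symm
  obtain ⟨j, -, hj⟩ := Nat.exists_mul_mod_eq_one_of_coprime hcop hr.one_lt
  have h1 : ∀ j : ℕ, ((φ ^ i) ^ j) x = x := by
    intro j
    induction j with
    | zero => simp
    | succ j ih =>
      rw [pow_succ]
      show ((φ ^ i) ^ j) ((φ ^ i) x) = x
      rw [hx, ih]
  have h2 : (φ ^ i) ^ j = φ := by
    rw [← pow_mul, pow_eq_pow_mod (i * j) h.2, hj, pow_one]
  have h3 := h1 j
  rw [h2] at h3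
  exact h.1 x h3

/-- Abstract coprime centralising lemma: a group `P` acting on an abelian group `V` of coprime
order, compatibly with fixed-point-free automorphisms of prime order `r`, acts trivially. -/
theorem fpf_centralize_abs {V : Type*} [CommGroup V] [Finite V] {P : Type*} [Group P] [Finite P]
    (r : ℕ) (hr : r.Prime) (Φ : MulAut V) (hΦ : ∀ w, Φ w = w → w = 1) (hΦr : Φ ^ r = 1)
    (α : MulAut P) (hα : ∀ i, 0 < i → i < r → ∀ x, (α ^ i) x = x → x = 1)
    (ρ : P →* MulAut V) (hcompat : ∀ g w, Φ (ρ g w) = ρ (α g) (Φ w))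
    (hcop : Nat.Coprime (Nat.card P) (Nat.card V)) : ∀ g w, ρ g w = w := by
  classical
  haveI : Fintype P := Fintype.ofFinite P
  have hF1 : ∀ w : V, ∏ i ∈ Finset.range r, (Φ ^ i) w = 1 := by
    intro w
    apply hΦ
    rw [map_prod]
    have e1 : ∀ i ∈ Finset.range r, Φ ((Φ ^ i) w) = (Φ ^ (i + 1)) w := by
      intro i _
      rw [pow_succ']; rfl
    rw [Finset.prod_congr rfl e1]
    have h1 := Finset.prod_range_succ' (fun i => (Φ ^ i) w) r
    have h2 := Finset.prod_range_succ (fun i => (Φ ^ i) w) r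
    rw [h1] at h2
    have h3 : (Φ ^ r) w = (Φ ^ 0) w := by rw [hΦr, pow_zero]
    rw [h3] at h2
    exact mul_right_cancel h2
  have hrel : ∀ (i : ℕ) (g : P) (w : V), (Φ ^ i) (ρ g w) = ρ ((α ^ i) g) ((Φ ^ i) w) := by
    intro i
    induction i with
    | zero => intro g w; simp
    | succ i ih =>
      intro g w
      rw [pow_succ, pow_succ]
      show (Φ ^ i) (Φ (ρ g w)) = ρ ((α ^ i) (α g)) ((Φ ^ i) (Φ w))
      rw [hcompat, ih]
  have hF3 : ∀ (g : P) (v : V),
      ∏ i ∈ Finset.range r, ρ (g⁻¹ * (α ^ i) g) ((Φ ^ i) v) = 1 := by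
    intro g v
    have h1 := hF1 (ρ g v)
    have h2 : ∏ i ∈ Finset.range r, ρ ((α ^ i) g) ((Φ ^ i) v) = 1 := by
      rw [← h1]; exact Finset.prod_congr rfl (fun i _ => (hrel i g v).symm)
    have h3 := congrArg (ρ g⁻¹) h2
    rw [map_prod, map_one] at h3
    rw [← h3]
    apply Finset.prod_congr rfl
    intro i _
    rw [map_mul]; rfl
  have hβ : ∀ i, 0 < i → i < r → Function.Bijective (fun g : P => g⁻¹ * (α ^ i) g) := by
    intro i hi0 hir
    apply Finite.injective_iff_bijective.mp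
    intro g g' hgg'
    have e : g⁻¹ * (α ^ i) g = g'⁻¹ * (α ^ i) g' := hgg'
    have e' : (α ^ i) g = g * (g'⁻¹ * (α ^ i) g') := by rw [← e, mul_inv_cancel_left]
    have hfix : (α ^ i) (g * g'⁻¹) = g * g'⁻¹ := by
      rw [map_mul, map_inv, e']; group
    exact mul_inv_eq_one.mp (hα i hi0 hir _ hfix)
  let T : V → V := fun w => ∏ z : P, ρ z w
  have hTfix : ∀ (y : P) (w : V), ρ y (T w) = T w := by
    intro y w
    show ρ y (∏ z : P, ρ z w) = ∏ z : P, ρ z w
    rw [map_prod]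
    have : ∀ z : P, ρ y (ρ z w) = ρ (y * z) w := fun z => by rw [map_mul]; rfl
    rw [Finset.prod_congr rfl (fun z _ => this z)]
    exact Equiv.prod_comp (Equiv.mulLeft y) (fun z : P => ρ z w)
  intro y v
  have hall : ∏ g : P, ∏ i ∈ Finset.range r, ρ (g⁻¹ * (α ^ i) g) ((Φ ^ i) v) = 1 :=
    Finset.prod_eq_one (fun g _ => hF3 g v)
  rw [Finset.prod_comm] at hall
  obtain ⟨r', rfl⟩ : ∃ r', r = r' + 1 := ⟨r - 1, by have := hr.pos; omega⟩
  rw [Finset.prod_range_succ'] at hall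
  have h0 : ∏ g : P, ρ (g⁻¹ * (α ^ 0) g) ((Φ ^ 0) v) = v ^ Fintype.card P := by
    rw [← Finset.card_univ, ← Finset.prod_const]
    apply Finset.prod_congr rfl
    intro g _
    simp
  have hi : ∀ i ∈ Finset.range r', ∏ g : P, ρ (g⁻¹ * (α ^ (i + 1)) g) ((Φ ^ (i + 1)) v) =
      T ((Φ ^ (i + 1)) v) := by
    intro i hi
    have hbij := hβ (i + 1) (Nat.succ_pos i) (by have := Finset.mem_range.mp hi; omega)
    exact hbij.prod_comp (fun z : P => ρ z ((Φ ^ (i + 1)) v))
  rw [Finset.prod_congr rfl hi, h0] at hall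
  set E := ∏ i ∈ Finset.range r', T ((Φ ^ (i + 1)) v) with hE
  have hEfix : ρ y E = E := by
    rw [hE, map_prod]
    exact Finset.prod_congr rfl (fun i _ => hTfix y _)
  have hvN : v ^ Fintype.card P = E⁻¹ := eq_inv_of_mul_eq_one_right hall
  have h1 : (ρ y v) ^ Fintype.card P = v ^ Fintype.card P := by
    rw [← map_pow, hvN, map_inv, hEfix]
  have h2 : (ρ y v * v⁻¹) ^ Fintype.card P = 1 := by
    rw [mul_pow, inv_pow, h1, mul_inv_cancel]
  have h3 : (ρ y v * v⁻¹) ^ Nat.card V = 1 := pow_card_eq_one'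
  have h4 : ρ y v * v⁻¹ = 1 := eq_one_of_pow_coprime _ _ _ h2 h3 (by
    rw [← Nat.card_eq_fintype_card]; exact hcop)
  exact mul_inv_eq_one.mp h4

/-- **Coprime centralising lemma**: if `φ` is fixed-point-free of prime order, `V` is an
abelian normal `φ`-invariant subgroup and `P` a `φ`-invariant subgroup of coprime order, then
`P` centralises `V`. -/
theorem fpf_centralize {G : Type u} [Group G] [Finite G] {φ : G ≃* G} {r : ℕ} (hr : r.Prime)
    (h : FP r G φ) (V : Subgroup G) [hVn : V.Normal] (hVcomm : ∀ a ∈ V, ∀ b ∈ V, a * b = b * a)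
    (hVφ : ∀ v ∈ V, φ v ∈ V) (P : Subgroup G) (hPφ : ∀ x ∈ P, φ x ∈ P)
    (hcop : Nat.Coprime (Nat.card P) (Nat.card V)) :
    ∀ x ∈ P, ∀ v ∈ V, x * v = v * x := by
  letI : CommGroup V :=
    { (inferInstance : Group V) with mul_comm := fun a b => Subtype.ext (hVcomm a a.2 b b.2) }
  have hΦ := h.restrict V hVφ
  have hα := h.restrict P hPφ
  have key := fpf_centralize_abs r hr (restrictAut φ V hVφ) hΦ.1 hΦ.2 (restrictAut φ P hPφ)
    (fun i hi0 hir x hx => hα.pow_fpf hr i hi0 hir x hx)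
    ((MulAut.conjNormal : G →* MulAut V).comp P.subtype)
    (by
      intro g w
      apply Subtype.ext
      show φ ((g : G) * (w : G) * (g : G)⁻¹) = φ (g : G) * φ (w : G) * (φ (g : G))⁻¹
      rw [map_mul, map_mul, map_inv]) hcop
  intro x hx v hv
  have h1 := congrArg Subtype.val (key ⟨x, hx⟩ ⟨v, hv⟩)
  have h2 : x * v * x⁻¹ = v := h1
  calc x * v = x * v * x⁻¹ * x := by group
    _ = v * x := by rw [h2]

theorem nilp_sub {G : Type u} [Group G] [Finite G] {φ : G ≃* G} {r : ℕ} (h : FP r G φ)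
    (IH : ∀ (G' : Type u) [Group G'] [Finite G'] (φ' : G' ≃* G'), Nat.card G' < Nat.card G →
      FP r G' φ' → Group.IsNilpotent G')
    (M : Subgroup G) (hM : ∀ m ∈ M, φ m ∈ M) (hne : M ≠ ⊤) : Group.IsNilpotent M :=
  IH M (restrictAut φ M hM) (by
    have := Cfsg.Agent.Lib.lead.card_lt_of_lt (lt_top_iff_ne_top.mpr hne)
    rwa [Subgroup.card_top] at this) (h.restrict M hM)

theorem nilp_quot {G : Type u} [Group G] [Finite G] {φ : G ≃* G} {r : ℕ} (h : FP r G φ)
    (IH : ∀ (G' : Type u) [Group G'] [Finite G'] (φ' : G' ≃* G'), Nat.card G' < Nat.card G →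
      FP r G' φ' → Group.IsNilpotent G')
    (N : Subgroup G) [N.Normal] (hN : ∀ n ∈ N, φ n ∈ N) (hne : N ≠ ⊥) :
    Group.IsNilpotent (G ⧸ N) :=
  IH (G ⧸ N) (quotAut φ N hN) (by
    rw [Subgroup.card_eq_card_quotient_mul_card_subgroup N]
    have h1 : 1 < Nat.card N := (Subgroup.one_lt_card_iff_ne_bot N).mpr hne
    have h2 : 0 < Nat.card (G ⧸ N) := Nat.card_pos
    nlinarith) (h.quot N hN)

/-- A nontrivial group with a fixed-point-free automorphism of prime order has a nontrivial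
normal `q`-subgroup for some prime `q` (given the theorem for smaller groups). -/
theorem exists_normal_pgroup {G : Type u} [Group G] [Finite G] [Nontrivial G] {φ : G ≃* G}
    {r : ℕ} (h : FP r G φ)
    (IH : ∀ (G' : Type u) [Group G'] [Finite G'] (φ' : G' ≃* G'), Nat.card G' < Nat.card G →
      FP r G' φ' → Group.IsNilpotent G') :
    ∃ q : ℕ, q.Prime ∧ ∃ N : Subgroup G, N.Normal ∧ IsPGroup q N ∧ N ≠ ⊥ := by
  have htop : (⊤ : Subgroup G) ≠ ⊥ := by
    intro h0
    obtain ⟨x, hx⟩ := exists_ne (1 : G)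
    exact hx (Subgroup.mem_bot.mp (h0 ▸ Subgroup.mem_top x))
  by_cases hodd : ∃ p : ℕ, p.Prime ∧ p ∣ Nat.card G ∧ p ≠ 2
  swap
  · refine ⟨2, Nat.prime_two, ⊤, inferInstance, ?_, htop⟩
    have hcard : Nat.card G = 2 ^ (Nat.card G).primeFactorsList.length :=
      Nat.eq_prime_pow_of_unique_prime_dvd Nat.card_pos.ne' (fun {d} hd hdvd => by
        by_contra hne
        exact hodd ⟨d, hd, hdvd, hne⟩)
    apply IsPGroup.of_card (n := (Nat.card G).primeFactorsList.length)
    rw [Subgroup.card_top]; exact hcard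
  obtain ⟨p, hp, hpdvd, hp2⟩ := hodd
  haveI : Fact p.Prime := ⟨hp⟩
  obtain ⟨P, hP⟩ := Cfsg.Agent.S0031.result φ (fun g hg => h.1 g hg) p
  have hP1 : (P : Subgroup G) ≠ ⊥ := P.ne_bot_of_dvd_card hpdvd
  set J := (JJ p).W G (P : Subgroup G) with hJ
  set Z := (ZZ p).W G (P : Subgroup G) with hZ
  have hJ1 : J ≠ ⊥ := (JJ p).ne_bot G _ P.2 hP1
  have hZ1 : Z ≠ ⊥ := (ZZ p).ne_bot G _ P.2 hP1
  have hJp : IsPGroup p J := P.2.to_le ((JJ p).le G _)
  have hZp : IsPGroup p Z := P.2.to_le ((ZZ p).le G _)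
  by_cases hJn : normalizer (J : Set G) = ⊤
  · exact ⟨p, hp, J, Subgroup.normalizer_eq_top_iff.mp hJn, hJp, hJ1⟩
  by_cases hZn : centralizer (Z : Set G) = ⊤
  · refine ⟨p, hp, Z, Subgroup.normalizer_eq_top_iff.mp ?_, hZp, hZ1⟩
    rw [eq_top_iff, ← hZn]; exact Subgroup.centralizer_le_normalizer _
  have hJφ : J.map (φ : G →* G) = J := by
    rw [hJ, ← (JJ p).map G G (φ : G →* G) (P : Subgroup G)
      (inf_ker_eq_bot_of_injective _ φ.injective _), hP]
  have hZφ : Z.map (φ : G →* G) = Z := by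
    rw [hZ, ← (ZZ p).map G G (φ : G →* G) (P : Subgroup G)
      (inf_ker_eq_bot_of_injective _ φ.injective _), hP]
  have hM₁ : ∀ m ∈ normalizer (J : Set G), φ m ∈ normalizer (J : Set G) := by
    intro m hm
    have := Subgroup.le_normalizer_map (φ : G →* G) (H := J) ⟨m, hm, rfl⟩
    rwa [hJφ] at this
  have hM₂ : ∀ m ∈ centralizer (Z : Set G), φ m ∈ centralizer (Z : Set G) := by
    intro m hm
    have := map_centralizer_le (φ : G →* G) Z ⟨m, hm, rfl⟩
    rwa [hZφ] at this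
  have hn₁ := nilp_sub h IH _ hM₁ hJn
  have hn₂ := nilp_sub h IH _ hM₂ hZn
  have hnpc : Cfsg.HasNormalPComplement p G := thompson_npc p hp2 G P trivial
    ⟨Cfsg.Agent.Lib.lead.hasNPC_of_nilpotent p hn₁,
      Cfsg.Agent.Lib.lead.hasNPC_of_nilpotent p hn₂⟩
  rw [Cfsg.Agent.S0072.hasNormalPComplement_iff] at hnpc
  obtain ⟨K, hKn, hKc, a, hKi⟩ := hnpc
  haveI := hKn
  by_cases hK1 : K = ⊥
  · refine ⟨p, hp, ⊤, inferInstance, ?_, htop⟩
    rw [hK1, Subgroup.index_bot] at hKi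
    apply IsPGroup.of_card (n := a)
    rw [Subgroup.card_top]; exact hKi
  have hKφ : ∀ k ∈ K, φ k ∈ K := by
    intro k hk
    rw [Cfsg.Agent.Lib.lead.mem_iff_coprime K hKc hKi] at hk ⊢
    rwa [φ.orderOf_eq]
  have hKtop : K ≠ ⊤ := by
    intro htop
    rw [htop, Subgroup.card_top] at hKc
    exact (Nat.Prime.coprime_iff_not_dvd hp).mp hKc.symm hpdvd
  have hnK := nilp_sub h IH K hKφ hKtop
  have hKcard : Nat.card K ≠ 1 := fun hc => hK1 (Subgroup.eq_bot_of_card_eq K hc)
  obtain ⟨q, hq, hqdvd⟩ := Nat.exists_prime_and_dvd hKcard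
  haveI : Fact q.Prime := ⟨hq⟩
  obtain ⟨Q⟩ : Nonempty (Sylow q K) := inferInstance
  have hnormal : ∀ (q : ℕ) [Fact q.Prime] (S : Sylow q K), (S : Subgroup K).Normal :=
    ((Group.isNilpotent_of_finite_tfae (G := K)).out 0 3).mp hnK
  have hQn : (Q : Subgroup K).Normal := hnormal q Q
  haveI : (Q : Subgroup K).Characteristic := Q.characteristic_of_normal hQn
  refine ⟨q, hq, (Q : Subgroup K).map K.subtype, inferInstance, Q.2.map _, ?_⟩
  rw [Ne, Subgroup.map_eq_bot_iff_of_injective _ K.subtype_injective]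
  exact Q.ne_bot_of_dvd_card hqdvd

/-- If `G` has a nontrivial normal `q`-subgroup, the Sylow `p`-subgroups for `p ≠ q` are
normal (given the theorem for smaller groups). -/
theorem sylow_normal_of_normal_pgroup {G : Type u} [Group G] [Finite G] {φ : G ≃* G} {r : ℕ}
    (hr : r.Prime) (h : FP r G φ)
    (IH : ∀ (G' : Type u) [Group G'] [Finite G'] (φ' : G' ≃* G'), Nat.card G' < Nat.card G →
      FP r G' φ' → Group.IsNilpotent G')
    (q : ℕ) [Fact q.Prime] (N : Subgroup G) [N.Normal] (hNq : IsPGroup q N) (hN1 : N ≠ ⊥)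
    (p : ℕ) [Fact p.Prime] (hpq : p ≠ q) (P : Sylow p G) : (P : Subgroup G).Normal := by
  set O := Cfsg.pCore q G with hO
  haveI hOn : O.Normal := pCore_normal q G
  have hOq : IsPGroup q O := pCore_isPGroup q G
  have hO1 : O ≠ ⊥ := fun h0 => hN1 (le_bot_iff.mp (h0 ▸ le_pCore inferInstance hNq))
  have hOφ : ∀ x ∈ O, φ x ∈ O := by
    intro x hx
    have h1 : (O.map (φ : G →* G)).Normal := hOn.map _ φ.surjective
    exact le_pCore h1 (hOq.map _) ⟨x, hx, rfl⟩
  set V := (ZZ q).W G O with hV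
  have hV1 : V ≠ ⊥ := (ZZ q).ne_bot G O hOq hO1
  haveI hVn : V.Normal := by
    show (O ⊓ centralizer (O : Set G)).Normal
    infer_instance
  have hVq : IsPGroup q V := hOq.to_le ((ZZ q).le G O)
  have hVcomm : ∀ a ∈ V, ∀ b ∈ V, a * b = b * a := by
    intro a ha b hb
    have ha2 : a ∈ centralizer (O : Set G) := ha.2
    exact (Subgroup.mem_centralizer_iff.mp ha2 b hb.1).symm
  have hVφ : ∀ v ∈ V, φ v ∈ V := by
    intro v hv
    have h1 := (ZZ q).map G G (φ : G →* G) O (inf_ker_eq_bot_of_injective _ φ.injective _)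
    rw [map_eq_of_inv φ O hOφ] at h1
    have h2 : φ v ∈ ((ZZ q).W G O).map (φ : G →* G) := ⟨v, hv, rfl⟩
    rw [← h1] at h2
    exact h2
  have hnq := nilp_quot h IH V hVφ hV1
  obtain ⟨P₀, hP₀⟩ := Cfsg.Agent.S0031.result φ (fun g hg => h.1 g hg) p
  have hP₀φ : ∀ x ∈ (P₀ : Subgroup G), φ x ∈ (P₀ : Subgroup G) := fun x hx => by
    rw [← hP₀]; exact ⟨x, hx, rfl⟩
  have hcop : Nat.Coprime (Nat.card (P₀ : Subgroup G)) (Nat.card V) := by
    obtain ⟨a, ha⟩ := IsPGroup.iff_card.mp P₀.2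
    obtain ⟨b, hb⟩ := IsPGroup.iff_card.mp hVq
    rw [ha, hb]
    exact Nat.Coprime.pow _ _ ((Nat.coprime_primes Fact.out Fact.out).mpr hpq)
  have hcent := fpf_centralize hr h V hVcomm hVφ (P₀ : Subgroup G) hP₀φ hcop
  have hπ := QuotientGroup.mk'_surjective V
  have hnormal : ∀ (q : ℕ) [Fact q.Prime] (S : Sylow q (G ⧸ V)),
      (S : Subgroup (G ⧸ V)).Normal :=
    ((Group.isNilpotent_of_finite_tfae (G := G ⧸ V)).out 0 3).mp hnq
  have hPbn : ((P₀ : Subgroup G).map (QuotientGroup.mk' V)).Normal :=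
    hnormal p (P₀.mapSurjective hπ)
  have hP₀n : (P₀ : Subgroup G).Normal := by
    constructor
    intro x hx g
    have h1 : QuotientGroup.mk' V (g * x * g⁻¹) ∈ (P₀ : Subgroup G).map (QuotientGroup.mk' V) := by
      have := hPbn.conj_mem (QuotientGroup.mk' V x) ⟨x, hx, rfl⟩ (QuotientGroup.mk' V g)
      rwa [← map_inv, ← map_mul, ← map_mul] at this
    obtain ⟨y, hy, hy2⟩ := h1
    have hv : y⁻¹ * (g * x * g⁻¹) ∈ V := by
      rw [← QuotientGroup.eq_one_iff, ← QuotientGroup.mk'_apply, map_mul, map_inv, hy2,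
        inv_mul_cancel]
    set v := y⁻¹ * (g * x * g⁻¹) with hvdef
    have hyv : y * v = v * y := hcent y hy v hv
    have hl : g * x * g⁻¹ = y * v := by rw [hvdef]; group
    set Np := Nat.card (P₀ : Subgroup G) with hNp
    have hxN : x ^ Np = 1 := by
      have := pow_card_eq_one' (G := (P₀ : Subgroup G)) (x := ⟨x, hx⟩)
      exact congrArg Subtype.val this
    have hyN : y ^ Np = 1 := by
      have := pow_card_eq_one' (G := (P₀ : Subgroup G)) (x := ⟨y, hy⟩)
      exact congrArg Subtype.val this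
    have hlN : (g * x * g⁻¹) ^ Np = 1 := by rw [conj_pow, hxN]; group
    have hvN : v ^ Np = 1 := by
      have : (y * v) ^ Np = y ^ Np * v ^ Np := (show Commute y v from hyv).mul_pow Np
      rw [← hl, hlN, hyN, one_mul] at this
      exact this.symm
    have hvV : v ^ Nat.card V = 1 := by
      have := pow_card_eq_one' (G := V) (x := ⟨v, hv⟩)
      exact congrArg Subtype.val this
    have hv1 : v = 1 := eq_one_of_pow_coprime v _ _ hvN hvV hcop
    rw [hl, hv1, mul_one]; exact hy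
  obtain ⟨g, hg⟩ := MulAction.exists_smul_eq G P₀ P
  haveI := hP₀n
  rw [← hg, Sylow.smul_eq_of_normal]
  exact hP₀n

theorem fpf_nilpotent_aux (r : ℕ) (hr : r.Prime) : ∀ n : ℕ, ∀ (G : Type u) [Group G] [Finite G]
    (φ : G ≃* G), Nat.card G = n → FP r G φ → Group.IsNilpotent G := by
  intro n
  induction n using Nat.strong_induction_on with
  | _ n ih =>
    intro G _ _ φ hn h
    subst hn
    have IH : ∀ (G' : Type u) [Group G'] [Finite G'] (φ' : G' ≃* G'),
        Nat.card G' < Nat.card G → FP r G' φ' → Group.IsNilpotent G' :=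
      fun G' _ _ φ' hlt h' => ih _ hlt G' φ' rfl h'
    rcases subsingleton_or_nontrivial G with hs | hnt
    · infer_instance
    obtain ⟨q, hq, N, hNn, hNq, hN1⟩ := exists_normal_pgroup h IH
    haveI : Fact q.Prime := ⟨hq⟩
    haveI := hNn
    have hgoal : ∀ (p : ℕ) [Fact p.Prime] (P : Sylow p G), (P : Subgroup G).Normal := by
      intro p _ P
      by_cases hpq : p = q
      · subst hpq
        by_cases hother : ∃ p' : ℕ, p'.Prime ∧ p' ≠ p ∧ p' ∣ Nat.card G
        · obtain ⟨p', hp', hne, hdvd⟩ := hother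
          haveI : Fact p'.Prime := ⟨hp'⟩
          obtain ⟨P'⟩ : Nonempty (Sylow p' G) := inferInstance
          have hP'n : (P' : Subgroup G).Normal :=
            sylow_normal_of_normal_pgroup hr h IH p N hNq hN1 p' hne P'
          haveI := hP'n
          exact sylow_normal_of_normal_pgroup hr h IH p' (P' : Subgroup G) P'.2
            (P'.ne_bot_of_dvd_card hdvd) p (Ne.symm hne) P
        · have hcard : Nat.card G = p ^ (Nat.card G).primeFactorsList.length :=
            Nat.eq_prime_pow_of_unique_prime_dvd Nat.card_pos.ne' (fun {d} hd hdvd => by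
              by_contra hne
              exact hother ⟨d, hd, hne, hdvd⟩)
          have hG : IsPGroup p G := IsPGroup.of_card hcard
          have htop : (⊤ : Subgroup G) = P := P.is_maximal' (hG.to_subgroup ⊤) le_top
          rw [← htop]; infer_instance
      · exact sylow_normal_of_normal_pgroup hr h IH q N hNq hN1 p hpq P
    exact ((Group.isNilpotent_of_finite_tfae (G := G)).out 0 3).mpr hgoal

/-- **Thompson's theorem**: a finite group admitting a fixed-point-free automorphism `φ`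
with `φ ^ r = 1`, `r` prime, is nilpotent. -/
theorem fpf_nilpotent (r : ℕ) (hr : r.Prime) (G : Type u) [Group G] [Finite G] (φ : G ≃* G)
    (h : FP r G φ) : Group.IsNilpotent G :=
  fpf_nilpotent_aux r hr _ G φ rfl h

end Cfsg.Agent.Lib.helper1
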