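import Mathlib

set_option autoImplicit false
open Pointwise

namespace Cfsg.Agent.Lib.helper1

/-- If two subgroups permute as sets, their join is their set product. -/
theorem coe_sup_of_permute {G : Type*} [Group G] (H K : Subgroup G)
    (h : (H : Set G) * (K : Set G) = (K : Set G) * (H : Set G)) :
    ((H ⊔ K : Subgroup G) : Set G) = (H : Set G) * (K : Set G) := by
  let L : Subgroup G :=
    { carrier := (H : Set G) * (K : Set G)
      one_mem' := ⟨1, H.one_mem, 1, K.one_mem, by simp⟩
      mul_mem' := by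
        rintro _ _ ⟨a, ha, b, hb, rfl⟩ ⟨c, hc, d, hd, rfl⟩
        have : b * c ∈ (K : Set G) * (H : Set G) := ⟨b, hb, c, hc, rfl⟩
        rw [← h] at this
        obtain ⟨c', hc', b', hb', hcb⟩ := this
        refine ⟨a * c', H.mul_mem ha hc', b' * d, K.mul_mem hb' hd, ?_⟩
        have e : a * b * (c * d) = a * (b * c) * d := by group
        simp only
        rw [e, ← hcb]; group
      inv_mem' := by
        rintro _ ⟨a, ha, b, hb, rfl⟩
        have : b⁻¹ * a⁻¹ ∈ (K : Set G) * (H : Set G) := ⟨b⁻¹, K.inv_mem hb, a⁻¹, H.inv_mem ha, rfl⟩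
        rw [← h] at this
        rw [mul_inv_rev]
        exact this }
  have h1 : H ⊔ K ≤ L := by
    apply sup_le
    · intro x hx
      exact ⟨x, hx, 1, K.one_mem, by simp⟩
    · intro x hx
      exact ⟨1, H.one_mem, x, hx, by simp⟩
  apply Set.Subset.antisymm
  · exact h1
  · rintro _ ⟨a, ha, b, hb, rfl⟩
    exact (H ⊔ K).mul_mem (Subgroup.mem_sup_left ha) (Subgroup.mem_sup_right hb)

/-- If `A` permutes with `B` and `C`, and `B` with `C`, then `A` permutes with `B ⊔ C`. -/
theorem permute_sup {G : Type*} [Group G] (A B C : Subgroup G)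
    (hAB : (A : Set G) * (B : Set G) = (B : Set G) * (A : Set G))
    (hAC : (A : Set G) * (C : Set G) = (C : Set G) * (A : Set G))
    (hBC : (B : Set G) * (C : Set G) = (C : Set G) * (B : Set G)) :
    (A : Set G) * ((B ⊔ C : Subgroup G) : Set G) = ((B ⊔ C : Subgroup G) : Set G) * (A : Set G) := by
  rw [coe_sup_of_permute B C hBC, ← mul_assoc, hAB, mul_assoc, hAC, ← mul_assoc]

theorem permute_bot {G : Type*} [Group G] (A : Subgroup G) :
    (A : Set G) * ((⊥ : Subgroup G) : Set G) = ((⊥ : Subgroup G) : Set G) * (A : Set G) := by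
  rw [Subgroup.coe_bot, Set.mul_singleton, Set.singleton_mul]
  simp

/-- Order of the join of two permuting subgroups of coprime orders. -/
theorem card_sup_of_permute_coprime {G : Type*} [Group G] [Finite G] (H K : Subgroup G)
    (h : (H : Set G) * (K : Set G) = (K : Set G) * (H : Set G))
    (hcop : (Nat.card H).Coprime (Nat.card K)) :
    Nat.card (H ⊔ K : Subgroup G) = Nat.card H * Nat.card K := by
  apply le_antisymm
  · have h1 : Nat.card (((H ⊔ K : Subgroup G) : Set G)) = Nat.card (((H : Set G) * (K : Set G) : Set G)) := by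
      rw [coe_sup_of_permute H K h]
    have h2 : Nat.card (((H : Set G) * (K : Set G) : Set G)) ≤ Nat.card (H : Set G) * Nat.card (K : Set G) :=
      Set.natCard_mul_le
    calc Nat.card (H ⊔ K : Subgroup G) = Nat.card (((H ⊔ K : Subgroup G) : Set G)) := rfl
      _ = Nat.card (((H : Set G) * (K : Set G) : Set G)) := h1
      _ ≤ Nat.card (H : Set G) * Nat.card (K : Set G) := h2
      _ = Nat.card H * Nat.card K := rfl
  · apply Nat.le_of_dvd Nat.card_pos
    exact Nat.Coprime.mul_dvd_of_dvd_of_dvd hcop (Subgroup.card_dvd_of_le le_sup_left)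
      (Subgroup.card_dvd_of_le le_sup_right)

end Cfsg.Agent.Lib.helper1
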