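import Mathlib
import Cfsg.Agent.Lib.helper1.Fpf
import Cfsg.Agent.Lib.helper1.Quat
import Cfsg.Agent.S0023
import Cfsg.Agent.S0041
import Cfsg.Agent.S0056
import Cfsg.Agent.S0061
import Cfsg.Agent.S0040
import Cfsg.Agent.S0068
import Cfsg.Agent.Lib.helper1.Permute

set_option autoImplicit false

namespace Cfsg.Agent.Lib.helper1

open Subgroup
open scoped Pointwise

/-- A group of order `p q` acting fixed-point-freely on a nontrivial (not necessarily abelian)
group is cyclic. -/
theorem fpf_pq_cyclic {G : Type*} [Group G] [Finite G] (A K : Subgroup G) (hK : K ≠ ⊥)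
    (hAK : A ≤ normalizer (K : Set G))
    (hfpf : ∀ a ∈ A, a ≠ 1 → K ⊓ centralizer {a} = ⊥)
    (hA : ∃ p q : ℕ, p.Prime ∧ q.Prime ∧ Nat.card A = p * q) : IsCyclic A := by
  classical
  obtain ⟨p, q, hp, hq, hcard⟩ := hA
  have hsolv : Group.IsSolvable A :=
    Cfsg.Agent.S0061.result p q 1 hp hq (by rw [hcard, pow_one])
  have hcop := fpf_coprime (fpfHom hAK) (isFpf_fpfHom hAK hfpf)
  -- a prime dividing |K|
  have hK1 : Nat.card K ≠ 1 := fun h => hK (Subgroup.card_eq_one.mp h)
  obtain ⟨r, hr, hrK⟩ := Nat.exists_prime_and_dvd hK1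
  haveI := Fact.mk hr
  obtain ⟨P, hP⟩ := Cfsg.Agent.S0023.result A K hAK hcop (Or.inl hsolv) r
  set R : Subgroup G := (P : Subgroup K).map K.subtype with hR
  have hRK : R ≤ K := by
    rintro _ ⟨x, -, rfl⟩
    exact x.2
  have hRp : IsPGroup r R := P.isPGroup'.map K.subtype
  have hRne : R ≠ ⊥ := by
    intro h0
    have h1 : Nat.card R = Nat.card (P : Subgroup K) :=
      Subgroup.card_map_of_injective (Subgroup.subtype_injective K)
    rw [h0, Subgroup.card_bot] at h1
    have h2 : (P : Subgroup K) = ⊥ := Subgroup.card_eq_one.mp h1.symm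
    have h3 := P.ne_bot_of_dvd_card hrK
    exact h3 h2
  -- the centre of R as a subgroup of G
  set V : Subgroup G := R ⊓ centralizer (R : Set G) with hV
  have hVne : V ≠ ⊥ := by
    haveI : Nontrivial R := (Subgroup.nontrivial_iff_ne_bot R).mpr hRne
    haveI := hRp.center_nontrivial
    obtain ⟨z, hz⟩ := exists_ne (1 : Subgroup.center R)
    intro h0
    apply hz
    have hz' : ((z : R) : G) ∈ V := by
      refine Subgroup.mem_inf.mpr ⟨(z : R).2, ?_⟩
      rw [Subgroup.mem_centralizer_iff]
      intro y hy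
      have := (Subgroup.mem_center_iff.mp z.2) ⟨y, hy⟩
      exact congrArg Subtype.val this
    rw [h0, Subgroup.mem_bot] at hz'
    exact Subtype.ext (Subtype.ext hz')
  haveI hVc : IsMulCommutative V := by
    refine ⟨⟨fun a b => Subtype.ext ?_⟩⟩
    have ha := (Subgroup.mem_inf.mp a.2).2
    have hb := (Subgroup.mem_inf.mp b.2).1
    rw [Subgroup.mem_centralizer_iff] at ha
    exact (ha b hb).symm
  have hAV : A ≤ normalizer (V : Set G) := by
    intro a ha
    have haR := hP ha
    rw [Subgroup.mem_normalizer_iff] at haR ⊢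
    have key : ∀ (b : G), (∀ h, h ∈ R ↔ b * h * b⁻¹ ∈ R) → ∀ v ∈ V, b * v * b⁻¹ ∈ V := by
      intro b hb v hv
      obtain ⟨hv1, hv2⟩ := Subgroup.mem_inf.mp hv
      refine Subgroup.mem_inf.mpr ⟨(hb v).mp hv1, ?_⟩
      rw [Subgroup.mem_centralizer_iff] at hv2 ⊢
      intro y hy
      have hy' : b⁻¹ * y * b ∈ R := by
        rw [hb]
        have e : b * (b⁻¹ * y * b) * b⁻¹ = y := by group
        rw [e]; exact hy
      have h1 := hv2 _ hy'
      calc y * (b * v * b⁻¹) = b * ((b⁻¹ * y * b) * v) * b⁻¹ := by group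
        _ = b * (v * (b⁻¹ * y * b)) * b⁻¹ := by rw [h1]
        _ = b * v * b⁻¹ * y := by group
    intro v
    constructor
    · exact key a haR v
    · intro hv
      have hinv : ∀ h, h ∈ R ↔ a⁻¹ * h * a⁻¹⁻¹ ∈ R := by
        intro h
        rw [haR (a⁻¹ * h * a⁻¹⁻¹)]
        have e : a * (a⁻¹ * h * a⁻¹⁻¹) * a⁻¹ = h := by group
        rw [e]
      have := key a⁻¹ hinv _ hv
      have e : a⁻¹ * (a * v * a⁻¹) * a⁻¹⁻¹ = v := by group
      rwa [e] at this
  have hfpfV : ∀ a ∈ A, a ≠ 1 → V ⊓ centralizer {a} = ⊥ := by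
    intro a ha ha1
    rw [eq_bot_iff, ← hfpf a ha ha1]
    exact inf_le_inf_right _ (inf_le_left.trans hRK)
  exact Cfsg.Agent.S0041.result A V hVne hAV hfpfV (Or.inr ⟨p, q, hp, hq, hcard⟩)

/-- A subgroup containing a Sylow `q`-subgroup for every prime `q` is everything. -/
theorem eq_top_of_sylow_le {G : Type*} [Group G] [Finite G] (C : Subgroup G)
    (h : ∀ (q : ℕ) [Fact q.Prime], ∃ Q : Sylow q G, (Q : Subgroup G) ≤ C) : C = ⊤ := by
  apply Subgroup.eq_top_of_card_eq
  apply Nat.dvd_antisymm (Subgroup.card_subgroup_dvd_card C)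
  have hG : Nat.card G ≠ 0 := Nat.card_pos.ne'
  have hC : Nat.card C ≠ 0 := Nat.card_pos.ne'
  rw [← Nat.factorization_prime_le_iff_dvd hG hC]
  intro q hq
  haveI := Fact.mk hq
  obtain ⟨Q, hQ⟩ := h q
  have h1 : Nat.card Q = q ^ (Nat.card G).factorization q := Sylow.card_eq_multiplicity Q
  have h2 : Nat.card Q ∣ Nat.card C := Subgroup.card_dvd_of_le hQ
  rw [h1] at h2
  exact (hq.pow_dvd_iff_le_factorization hC).mp h2


/-- In a nontrivial finite Z-group all of whose subgroups of order `p q` are cyclic, the centre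
is nontrivial. -/
theorem center_ne_bot_of_zgroup_pq {L : Type*} [Group L] [Finite L] [Nontrivial L] [IsZGroup L]
    (hpq : ∀ A : Subgroup L, (∃ p q : ℕ, p.Prime ∧ q.Prime ∧ Nat.card A = p * q) → IsCyclic A) :
    Subgroup.center L ≠ ⊥ := by
  classical
  have hn : Nat.card L ≠ 1 := (Finite.one_lt_card).ne'
  obtain ⟨p, hp⟩ : ∃ p, (Nat.card L).minFac = p := ⟨_, rfl⟩
  have hpp : p.Prime := hp ▸ Nat.minFac_prime hn
  haveI := Fact.mk hpp
  obtain ⟨P⟩ : Nonempty (Sylow p L) := inferInstance
  have hPc : IsCyclic P := IsZGroup.isZGroup p hpp P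
  have hcompl := IsCyclic.isComplement' hp hPc
  set N : Subgroup L := (MonoidHom.transferSylow P (hPc.normalizer_le_centralizer hp)).ker with hN
  haveI : N.Normal := MonoidHom.normal_ker _
  have hNcard : ¬ p ∣ Nat.card N := by
    have h1 := hcompl.card_mul_card
    have h2 := (P : Subgroup L).card_mul_index
    have h3 : Nat.card N = (P : Subgroup L).index := by
      have h4 : Nat.card N * Nat.card P = (P : Subgroup L).index * Nat.card P := by
        rw [h1, mul_comm, h2]
      exact Nat.eq_of_mul_eq_mul_right Nat.card_pos h4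
    rw [h3]
    exact P.not_dvd_index
  have hpdvd : p ∣ Nat.card L := hp ▸ Nat.minFac_dvd _
  obtain ⟨x, hx⟩ := exists_prime_orderOf_dvd_card' (G := P) p (P.dvd_card_of_dvd_card hpdvd)
  have hxL : orderOf (x : L) = p := by rw [Subgroup.orderOf_coe, hx]
  set X : Subgroup L := zpowers (x : L) with hX
  have hXcard : Nat.card X = p := by rw [hX, Nat.card_zpowers, hxL]
  have hcopXN : (Nat.card X).Coprime (Nat.card N) := by
    rw [hXcard]; exact (Nat.Prime.coprime_iff_not_dvd hpp).mpr hNcard
  have hXN : X ≤ normalizer (N : Set L) := by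
    rw [Subgroup.normalizer_eq_top]; exact le_top
  have hXsolv : Group.IsSolvable X := by
    haveI : IsCyclic X := by rw [hX]; infer_instance
    infer_instance
  have hcent : ∀ n ∈ N, (x : L) * n = n * (x : L) := by
    have hC : (centralizer {(x : L)}).subgroupOf N = ⊤ := by
      apply eq_top_of_sylow_le
      intro q hqf
      have hq : q.Prime := hqf.out
      obtain ⟨Q, hQ⟩ := Cfsg.Agent.S0023.result X N hXN hcopXN (Or.inl hXsolv) q
      refine ⟨Q, ?_⟩
      set Q' : Subgroup L := (Q : Subgroup N).map N.subtype with hQ'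
      have hQc : IsCyclic (Q : Subgroup N) := IsZGroup.isZGroup q hq Q
      haveI hQ'c : IsCyclic Q' :=
        ((Q : Subgroup N).equivMapOfInjective N.subtype (subtype_injective N)).isCyclic.mp hQc
      haveI : IsMulCommutative Q' := inferInstance
      have hQ'p : IsPGroup q Q' := Q.isPGroup'.map N.subtype
      have hQ'N : Q' ≤ N := by
        rintro _ ⟨y, -, rfl⟩
        exact y.2
      have hcopXQ : (Nat.card X).Coprime (Nat.card Q') :=
        Nat.Coprime.coprime_dvd_right (Subgroup.card_dvd_of_le hQ'N) hcopXN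
      have hΩ : ∀ v ∈ Q', (orderOf v).Prime → ∀ a ∈ X, a * v = v * a := by
        intro v hv hvp a ha
        suffices hxv : (x : L) * v = v * (x : L) by
          obtain ⟨k, rfl⟩ := Subgroup.mem_zpowers_iff.mp ha
          exact ((Commute.zpow_left hxv k) : Commute ((x : L) ^ k) v).eq
        have hvq : orderOf v = q := by
          obtain ⟨k, hk⟩ := hQ'p ⟨v, hv⟩
          have h1 : v ^ q ^ k = 1 := congrArg Subtype.val hk
          have h2 : orderOf v ∣ q ^ k := orderOf_dvd_of_pow_eq_one h1
          exact (Nat.prime_dvd_prime_iff_eq hvp hq).mp (hvp.dvd_of_dvd_pow h2)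
        have hqp : q ≠ p := by
          intro hqp
          apply hNcard
          have h1 : orderOf (⟨v, hQ'N hv⟩ : N) = q := by
            rw [← hvq]; exact Subgroup.orderOf_mk v _
          rw [← hqp, ← h1]; exact orderOf_dvd_natCard _
        set V : Subgroup L := zpowers v with hVdef
        have hVcard : Nat.card V = q := by rw [hVdef, Nat.card_zpowers, hvq]
        have hxQ : (x : L) ∈ normalizer (Q' : Set L) := hQ (Subgroup.mem_zpowers _)
        have hconj : (x : L)⁻¹ * v * (x : L) ∈ V := by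
          have h1 : (x : L)⁻¹ * v * (x : L) ∈ Q' := by
            have := (Subgroup.mem_normalizer_iff.mp (Subgroup.inv_mem _ hxQ) v).mp hv
            simpa using this
          have ho : orderOf ((x : L)⁻¹ * v * (x : L)) = q := by
            rw [← hvq]
            have := MulEquiv.orderOf_eq (MulAut.conj (x : L)⁻¹) v
            simpa [MulAut.conj_apply] using this
          have ho1 : orderOf (⟨(x : L)⁻¹ * v * (x : L), h1⟩ : Q') = q :=
            (Subgroup.orderOf_mk _ h1).trans ho
          have ho2 : orderOf (⟨v, hv⟩ : Q') = q := (Subgroup.orderOf_mk _ hv).trans hvq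
          have hle := le_of_card_dvd_of_isCyclic
            (Subgroup.zpowers (⟨(x : L)⁻¹ * v * (x : L), h1⟩ : Q'))
            (Subgroup.zpowers (⟨v, hv⟩ : Q'))
            (by rw [Nat.card_zpowers, Nat.card_zpowers, ho1, ho2])
          obtain ⟨k, hk⟩ := Subgroup.mem_zpowers_iff.mp (hle (Subgroup.mem_zpowers _))
          refine Subgroup.mem_zpowers_iff.mpr ⟨k, ?_⟩
          have := congrArg Subtype.val hk
          simpa using this
        have hxV : (x : L) ∈ normalizer (V : Set L) := by
          rw [mem_normalizer_iff_conj_smul]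
          symm
          apply Subgroup.eq_of_le_of_card_ge
          · rw [hVdef, Subgroup.zpowers_le, mem_conj_smul]
            exact hconj
          · rw [card_conj_smul]
        have hXV : X ≤ normalizer (V : Set L) := by rw [hX, Subgroup.zpowers_le]; exact hxV
        have hperm : (V : Set L) * (X : Set L) = (X : Set L) * (V : Set L) := by
          rw [← Subgroup.coe_mul_of_left_le_normalizer_right X V hXV,
            ← Subgroup.coe_mul_of_right_le_normalizer_left V X hXV, sup_comm]
        have hAcard : Nat.card (V ⊔ X : Subgroup L) = q * p := by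
          rw [card_sup_of_permute_coprime V X hperm
            (by rw [hVcard, hXcard]; exact (Nat.coprime_primes hq hpp).mpr hqp), hVcard, hXcard]
        haveI hAc := hpq (V ⊔ X) ⟨q, p, hq, hpp, hAcard⟩
        haveI : IsMulCommutative (V ⊔ X : Subgroup L) := inferInstance
        have hxA : (x : L) ∈ V ⊔ X := (le_sup_right : X ≤ V ⊔ X) (Subgroup.mem_zpowers _)
        have hvA : v ∈ V ⊔ X := (le_sup_left : V ≤ V ⊔ X) (Subgroup.mem_zpowers _)
        have := mul_comm' (⟨(x : L), hxA⟩ : (V ⊔ X : Subgroup L)) ⟨v, hvA⟩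
        exact congrArg Subtype.val this
      have hXcent := Cfsg.Agent.S0056.result X Q' hQ hcopXQ hΩ
      intro n hn
      rw [Subgroup.mem_subgroupOf, Subgroup.mem_centralizer_singleton_iff]
      have h1 : (n : L) ∈ Q' := ⟨n, hn, rfl⟩
      have h2 := hXcent (Subgroup.mem_zpowers (x : L))
      rw [Subgroup.mem_centralizer_iff] at h2
      exact h2 _ h1
    intro n hn
    have : (⟨n, hn⟩ : N) ∈ (centralizer {(x : L)}).subgroupOf N := hC ▸ Subgroup.mem_top _
    rw [Subgroup.mem_subgroupOf, Subgroup.mem_centralizer_singleton_iff] at this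
    exact this.symm
  have hxc : (x : L) ∈ center L := by
    rw [Subgroup.mem_center_iff]
    intro l
    obtain ⟨⟨⟨n, hn⟩, ⟨y, hy⟩⟩, hny, -⟩ := hcompl.existsUnique l
    simp only at hny
    subst hny
    haveI : IsMulCommutative P := inferInstance
    have h1 : y * (x : L) = (x : L) * y := by
      have := mul_comm' (⟨y, hy⟩ : P) x
      exact congrArg Subtype.val this
    calc n * y * (x : L) = n * ((x : L) * y) := by rw [mul_assoc, h1]
      _ = (n * (x : L)) * y := by rw [mul_assoc]
      _ = ((x : L) * n) * y := by rw [hcent n hn]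
      _ = (x : L) * (n * y) := by rw [mul_assoc]
  intro h0
  rw [h0, Subgroup.mem_bot] at hxc
  rw [hxc, orderOf_one] at hxL
  exact hpp.one_lt.ne hxL


/-- A Frobenius complement of odd order is a Z-group. -/
theorem frob_complement_isZGroup {G : Type*} [Group G] [Finite G] (K H : Subgroup G) [K.Normal]
    (hc : Subgroup.IsComplement' K H) (hK : K ≠ ⊥)
    (hfpf : ∀ h ∈ H, h ≠ 1 → K ⊓ Subgroup.centralizer {h} = ⊥) (hodd : Odd (Nat.card H)) :
    IsZGroup H := by
  refine ⟨fun p hp P => ?_⟩
  haveI := Fact.mk hp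
  rcases Cfsg.Agent.S0040.result K H hc hK hfpf p P with h | ⟨n, ⟨e⟩⟩
  · exact h
  · exfalso
    haveI : NeZero (2 ^ n) := ⟨by positivity⟩
    have h1 : Nat.card P = 4 * 2 ^ n := by
      rw [Nat.card_congr e.toEquiv, Nat.card_eq_fintype_card, QuaternionGroup.card]
    have h2 : Nat.card P ∣ Nat.card H := Subgroup.card_subgroup_dvd_card _
    have h3 : 2 ∣ Nat.card H := dvd_trans (by rw [h1]; exact ⟨2 * 2 ^ n, by ring⟩) h2
    exact (Nat.not_even_iff_odd.mpr hodd) (even_iff_two_dvd.mpr h3)

/-- A Frobenius complement has nontrivial centre. -/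
theorem frob_center_ne_bot {G : Type*} [Group G] [Finite G] (K H : Subgroup G) [K.Normal]
    (hc : Subgroup.IsComplement' K H) (hK : K ≠ ⊥) (hH : H ≠ ⊥)
    (hfpf : ∀ h ∈ H, h ≠ 1 → K ⊓ Subgroup.centralizer {h} = ⊥) :
    Subgroup.center H ≠ ⊥ := by
  by_cases heven : 2 ∣ Nat.card H
  · obtain ⟨⟨s, hsH, hs2, hsu, -⟩, -⟩ := Cfsg.Agent.S0068.result K H hc hK hfpf heven
    have hs1 : s ≠ 1 := by
      rintro rfl; rw [orderOf_one] at hs2; omega
    intro h0
    have hsc : (⟨s, hsH⟩ : H) ∈ Subgroup.center H := by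
      rw [Subgroup.mem_center_iff]
      intro h
      have h1 : orderOf ((h : G) * s * (h : G)⁻¹) = 2 := by
        rw [← hs2]
        have := MulEquiv.orderOf_eq (MulAut.conj (h : G)) s
        simpa [MulAut.conj_apply] using this
      have h2 := hsu _ (H.mul_mem (H.mul_mem h.2 hsH) (H.inv_mem h.2)) h1
      apply Subtype.ext
      change (h : G) * s = s * (h : G)
      rw [mul_inv_eq_iff_eq_mul] at h2
      exact h2
    rw [h0, Subgroup.mem_bot] at hsc
    exact hs1 (congrArg Subtype.val hsc)
  · have hodd : Odd (Nat.card H) :=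
      Nat.not_even_iff_odd.mp (fun h => heven (even_iff_two_dvd.mp h))
    haveI := frob_complement_isZGroup K H hc hK hfpf hodd
    haveI : Nontrivial H := (Subgroup.nontrivial_iff_ne_bot H).mpr hH
    apply center_ne_bot_of_zgroup_pq
    intro A hA
    obtain ⟨p, q, hp, hq, hcard⟩ := hA
    have hmap : Nat.card (A.map H.subtype) = p * q := by
      rw [Subgroup.card_map_of_injective (Subgroup.subtype_injective H), hcard]
    have hle : A.map H.subtype ≤ H := by
      rintro _ ⟨x, -, rfl⟩
      exact x.2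
    have hHK : H ≤ Subgroup.normalizer (K : Set G) := by
      rw [Subgroup.normalizer_eq_top]; exact le_top
    have h1 := fpf_pq_cyclic (A.map H.subtype) K hK (hle.trans hHK)
      (fun a ha ha1 => hfpf a (hle ha) ha1) ⟨p, q, hp, hq, hmap⟩
    exact (A.equivMapOfInjective H.subtype (Subgroup.subtype_injective H)).isCyclic.mpr h1

end Cfsg.Agent.Lib.helper1
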