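import Cfsg.Agent.Lib.helper1.SZ

set_option autoImplicit false
open Pointwise

namespace Cfsg.Agent.Lib.helper1

universe u

theorem card_comap_mk {G : Type*} [Group G] (P : Subgroup G) [P.Normal] (S : Subgroup (G ⧸ P)) :
    Nat.card (S.comap (QuotientGroup.mk' P)) = Nat.card S * Nat.card P := by
  have hle : P ≤ S.comap (QuotientGroup.mk' P) := by
    intro x hx
    rw [Subgroup.mem_comap]
    have : QuotientGroup.mk' P x = 1 := (QuotientGroup.eq_one_iff x).mpr hx
    rw [this]
    exact S.one_mem
  have h := card_map_mk_mul_card_of_le P (S.comap (QuotientGroup.mk' P)) hle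
  rw [Subgroup.map_comap_eq_self_of_surjective (QuotientGroup.mk'_surjective P)] at h
  exact h.symm

theorem hall_exists_aux (k : ℕ) : ∀ {G : Type u} [Group G] [Finite G] [Group.IsSolvable G]
    (m n : ℕ), Nat.card G ≤ k → Nat.card G = m * n → m.Coprime n →
    ∃ H : Subgroup G, Nat.card H = m := by
  induction k with
  | zero =>
    intro G _ _ _ m n hG
    exact absurd hG (by have := Nat.card_pos (α := G); omega)
  | succ k ih =>
    intro G _ _ _ m n hG hmn hcop
    by_cases hnt : Nontrivial G
    · obtain ⟨p, hp, P, hPn, hPp, hPbot⟩ := exists_normal_pgroup_ne_bot G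
      haveI := hPn
      haveI : Fact p.Prime := ⟨hp⟩
      obtain ⟨a, ha⟩ := (IsPGroup.iff_card).mp hPp
      have hPdvd : Nat.card P ∣ m * n := hmn ▸ Subgroup.card_subgroup_dvd_card P
      have hcardQ : Nat.card (G ⧸ P) ≤ k := by
        have h1 : Nat.card P * P.index = Nat.card G := Subgroup.card_mul_index P
        have h2 : 1 < Nat.card P := (Subgroup.one_lt_card_iff_ne_bot P).mpr hPbot
        rw [← Subgroup.index_eq_card]
        have h3 : 0 < P.index := Nat.pos_of_ne_zero Subgroup.index_ne_zero_of_finite
        nlinarith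
      have hidx : Nat.card P * Nat.card (G ⧸ P) = m * n := by
        rw [← Subgroup.index_eq_card, Subgroup.card_mul_index, hmn]
      by_cases hpm : p ∣ m
      · have hpn : Nat.Coprime p n := Nat.Coprime.coprime_dvd_left hpm hcop
        have hPn' : Nat.Coprime (Nat.card P) n := by rw [ha]; exact Nat.Coprime.pow_left a hpn
        obtain ⟨m', hm'⟩ : Nat.card P ∣ m := hPn'.dvd_of_dvd_mul_right hPdvd
        have hQ : Nat.card (G ⧸ P) = m' * n := by
          rw [hm', mul_assoc] at hidx
          exact Nat.eq_of_mul_eq_mul_left Nat.card_pos hidx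
        have hcop' : m'.Coprime n := Nat.Coprime.coprime_dvd_left (Dvd.intro_left _ hm'.symm) hcop
        obtain ⟨S, hS⟩ := ih m' n hcardQ hQ hcop'
        refine ⟨S.comap (QuotientGroup.mk' P), ?_⟩
        rw [card_comap_mk, hS, hm', mul_comm]
      · have hpm' : Nat.Coprime p m := (Nat.Prime.coprime_iff_not_dvd hp).mpr hpm
        have hPm : Nat.Coprime (Nat.card P) m := by rw [ha]; exact Nat.Coprime.pow_left a hpm'
        obtain ⟨n', hn'⟩ : Nat.card P ∣ n := hPm.dvd_of_dvd_mul_left hPdvd
        have hQ : Nat.card (G ⧸ P) = m * n' := by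
          rw [hn', mul_left_comm] at hidx
          exact Nat.eq_of_mul_eq_mul_left Nat.card_pos hidx
        have hcop' : m.Coprime n' := Nat.Coprime.coprime_dvd_right (Dvd.intro_left _ hn'.symm) hcop
        obtain ⟨S, hS⟩ := ih m n' hcardQ hQ hcop'
        have hLcard : Nat.card (S.comap (QuotientGroup.mk' P)) = m * Nat.card P := by
          rw [card_comap_mk, hS]
        have hPL : P ≤ S.comap (QuotientGroup.mk' P) := by
          intro x hx
          rw [Subgroup.mem_comap]
          have : QuotientGroup.mk' P x = 1 := (QuotientGroup.eq_one_iff x).mpr hx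
          rw [this]
          exact S.one_mem
        generalize S.comap (QuotientGroup.mk' P) = L at hLcard hPL
        haveI : (P.subgroupOf L).Normal := Subgroup.normal_subgroupOf
        have hcardPL : Nat.card (P.subgroupOf L) = Nat.card P :=
          Nat.card_congr (Subgroup.subgroupOfEquivOfLe hPL).toEquiv
        have hidxPL : (P.subgroupOf L).index = m := by
          have h1 := Subgroup.card_mul_index (P.subgroupOf L)
          rw [hcardPL, hLcard, mul_comm] at h1
          exact Nat.eq_of_mul_eq_mul_right Nat.card_pos h1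
        have hcopL : (Nat.card (P.subgroupOf L)).Coprime (P.subgroupOf L).index := by
          rw [hcardPL, hidxPL]; exact hPm
        obtain ⟨H', hH'⟩ := Subgroup.exists_right_complement'_of_coprime hcopL
        refine ⟨H'.map L.subtype, ?_⟩
        rw [Subgroup.card_map_of_injective L.subtype_injective, ← hH'.symm.index_eq_card, hidxPL]
    · rw [not_nontrivial_iff_subsingleton] at hnt
      have h1 : Nat.card G = 1 := Nat.card_eq_one_iff_unique.mpr ⟨hnt, ⟨1⟩⟩
      rw [h1] at hmn
      have hm1 : m = 1 := Nat.eq_one_of_mul_eq_one_right hmn.symm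
      exact ⟨⊥, by rw [Subgroup.card_bot, hm1]⟩

theorem hall_exists {G : Type u} [Group G] [Finite G] [Group.IsSolvable G] (m n : ℕ)
    (hG : Nat.card G = m * n) (hmn : m.Coprime n) : ∃ H : Subgroup G, Nat.card H = m :=
  hall_exists_aux (Nat.card G) m n le_rfl hG hmn

theorem le_conj_smul_of_map_le {G : Type*} [Group G] (P H K : Subgroup G) [P.Normal]
    (h : ∃ q : G ⧸ P, K.map (QuotientGroup.mk' P) ≤ MulAut.conj q • H.map (QuotientGroup.mk' P)) :
    ∃ g : G, K ≤ MulAut.conj g • H ⊔ P := by
  obtain ⟨q, hq⟩ := h
  obtain ⟨g, rfl⟩ := QuotientGroup.mk'_surjective P q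
  refine ⟨g, ?_⟩
  rw [← map_conj_smul, Subgroup.map_le_iff_le_comap, Subgroup.comap_map_eq,
    QuotientGroup.ker_mk'] at hq
  exact hq

/-- In a finite solvable group of order `m * n` with `m`, `n` coprime, every subgroup of order
coprime to `n` lies in a conjugate of any given subgroup of order `m`. -/
theorem hall_dominance_aux (k : ℕ) : ∀ {G : Type u} [Group G] [Finite G] [Group.IsSolvable G]
    (m n : ℕ), Nat.card G ≤ k → Nat.card G = m * n → m.Coprime n →
    ∀ H K : Subgroup G, Nat.card H = m → (Nat.card K).Coprime n →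
    ∃ g : G, K ≤ MulAut.conj g • H := by
  induction k with
  | zero =>
    intro G _ _ _ m n hG
    exact absurd hG (by have := Nat.card_pos (α := G); omega)
  | succ k ih =>
    intro G _ _ _ m n hG hmn hcop H K hH hK
    by_cases hnt : Nontrivial G
    · obtain ⟨p, hp, P, hPn, hPp, hPbot⟩ := exists_normal_pgroup_ne_bot G
      haveI := hPn
      haveI : Fact p.Prime := ⟨hp⟩
      obtain ⟨a, ha⟩ := (IsPGroup.iff_card).mp hPp
      have hm0 : m ≠ 0 := by
        rintro rfl
        rw [zero_mul] at hmn
        exact Nat.card_pos.ne' hmn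
      have hn0 : n ≠ 0 := by
        rintro rfl
        rw [mul_zero] at hmn
        exact Nat.card_pos.ne' hmn
      have hPdvd : Nat.card P ∣ m * n := hmn ▸ Subgroup.card_subgroup_dvd_card P
      have hcardQ : Nat.card (G ⧸ P) ≤ k := by
        have h1 : Nat.card P * P.index = Nat.card G := Subgroup.card_mul_index P
        have h2 : 1 < Nat.card P := (Subgroup.one_lt_card_iff_ne_bot P).mpr hPbot
        rw [← Subgroup.index_eq_card]
        have h3 : 0 < P.index := Nat.pos_of_ne_zero Subgroup.index_ne_zero_of_finite
        nlinarith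
      have hidx : Nat.card P * Nat.card (G ⧸ P) = m * n := by
        rw [← Subgroup.index_eq_card, Subgroup.card_mul_index, hmn]
      have hKmap : (Nat.card (K.map (QuotientGroup.mk' P))).Coprime n :=
        Nat.Coprime.coprime_dvd_left (Subgroup.card_map_dvd K _) hK
      by_cases hpm : p ∣ m
      · have hpn : Nat.Coprime p n := Nat.Coprime.coprime_dvd_left hpm hcop
        have hpn' : ¬ p ∣ n := (Nat.Prime.coprime_iff_not_dvd hp).mp hpn
        -- P ≤ H
        have hPH : P ≤ H := by
          obtain ⟨S'⟩ : Nonempty (Sylow p H) := inferInstance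
          have hScard : Nat.card ((S' : Subgroup H).map H.subtype) = p ^ (Nat.card H).factorization p := by
            rw [Subgroup.card_map_of_injective H.subtype_injective]
            exact Sylow.card_eq_multiplicity S'
          obtain ⟨Q, hQ⟩ := (S'.isPGroup'.map H.subtype).exists_le_sylow
          have hQcard : Nat.card Q = p ^ (Nat.card G).factorization p := Sylow.card_eq_multiplicity Q
          have hfac : (Nat.card G).factorization p = (Nat.card H).factorization p := by
            rw [hmn, hH, Nat.factorization_mul hm0 hn0]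
            simp [Nat.factorization_eq_zero_of_not_dvd hpn']
          have hSQ : (S' : Subgroup H).map H.subtype = Q :=
            Subgroup.eq_of_le_of_card_ge hQ (by rw [hScard, hQcard, hfac])
          calc P ≤ Q := hPp.le_sylow_of_normal Q
            _ = (S' : Subgroup H).map H.subtype := hSQ.symm
            _ ≤ H := Subgroup.map_subtype_le _
        have hHmap := card_map_mk_mul_card_of_le P H hPH
        have hQ : Nat.card (G ⧸ P) = Nat.card (H.map (QuotientGroup.mk' P)) * n := by
          rw [← hH, ← hHmap, mul_comm (Nat.card (H.map (QuotientGroup.mk' P))), mul_assoc] at hidx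
          exact Nat.eq_of_mul_eq_mul_left Nat.card_pos hidx
        have hcop' : (Nat.card (H.map (QuotientGroup.mk' P))).Coprime n :=
          Nat.Coprime.coprime_dvd_left (hH ▸ Subgroup.card_map_dvd H _) hcop
        obtain ⟨g, hg⟩ := le_conj_smul_of_map_le P H K
          (ih _ n hcardQ hQ hcop' _ _ rfl hKmap)
        refine ⟨g, ?_⟩
        have h1 : P ≤ MulAut.conj g • H := by
          rw [← Subgroup.Normal.conj_smul_eq_self g P]
          exact Subgroup.pointwise_smul_le_pointwise_smul_iff.mpr hPH
        rwa [sup_eq_left.mpr h1] at hg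
      · have hpm' : Nat.Coprime p m := (Nat.Prime.coprime_iff_not_dvd hp).mpr hpm
        have hPm : Nat.Coprime (Nat.card P) m := by rw [ha]; exact Nat.Coprime.pow_left a hpm'
        obtain ⟨n', hn'⟩ : Nat.card P ∣ n := hPm.dvd_of_dvd_mul_left hPdvd
        have hHP : Disjoint H P :=
          Subgroup.disjoint_of_coprime_natCard (by rw [hH]; exact hPm.symm)
        have hHmap : Nat.card (H.map (QuotientGroup.mk' P)) = m := by
          rw [card_map_mk_of_disjoint P H hHP, hH]
        have hQ : Nat.card (G ⧸ P) = m * n' := by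
          rw [hn', mul_left_comm] at hidx
          exact Nat.eq_of_mul_eq_mul_left Nat.card_pos hidx
        have hcop' : m.Coprime n' := Nat.Coprime.coprime_dvd_right (Dvd.intro_left _ hn'.symm) hcop
        have hKmap' : (Nat.card (K.map (QuotientGroup.mk' P))).Coprime n' :=
          Nat.Coprime.coprime_dvd_right (Dvd.intro_left _ hn'.symm) hKmap
        obtain ⟨g, hg⟩ := le_conj_smul_of_map_le P H K
          (ih m n' hcardQ hQ hcop' _ _ hHmap hKmap')
        have hH₁card : Nat.card (MulAut.conj g • H : Subgroup G) = m := by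
          rw [card_conj_smul, hH]
        suffices hsuff : ∃ x : G, K ≤ MulAut.conj x • (MulAut.conj g • H) by
          obtain ⟨x, hx⟩ := hsuff
          exact ⟨x * g, by rw [conj_mul_smul]; exact hx⟩
        generalize MulAut.conj g • H = H₁ at hg hH₁card ⊢
        -- subgroup step
        have hKP : Disjoint K P := Subgroup.disjoint_of_coprime_natCard
          (Nat.Coprime.coprime_dvd_right (Dvd.intro _ hn'.symm) hK)
        have hH₁P : Disjoint (H₁ ⊓ (K ⊔ P)) P :=
          Subgroup.disjoint_of_coprime_natCard (Nat.Coprime.coprime_dvd_left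
            (Subgroup.card_dvd_of_le inf_le_left) (by rw [hH₁card]; exact hPm.symm))
        have hXsup : (H₁ ⊓ (K ⊔ P)) ⊔ P = K ⊔ P := by
          apply le_antisymm
          · exact sup_le inf_le_right le_sup_right
          · intro w hw
            obtain ⟨h, hh, q, hq, rfl⟩ := Subgroup.mem_sup_of_normal_right.mp
              ((sup_le hg le_sup_right : K ⊔ P ≤ H₁ ⊔ P) hw)
            have hhW : h ∈ K ⊔ P := by
              have : h = h * q * q⁻¹ := by group
              rw [this]
              exact (K ⊔ P).mul_mem hw ((K ⊔ P).inv_mem (Subgroup.mem_sup_right hq))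
            exact (H₁ ⊓ (K ⊔ P) ⊔ P).mul_mem (Subgroup.mem_sup_left ⟨hh, hhW⟩)
              (Subgroup.mem_sup_right hq)
        have hWcard : Nat.card (K ⊔ P : Subgroup G) = Nat.card P * Nat.card K :=
          card_sup_of_disjoint_normal K P hKP
        have hXcard : Nat.card (H₁ ⊓ (K ⊔ P) : Subgroup G) = Nat.card K := by
          have h1 := card_sup_of_disjoint_normal (H₁ ⊓ (K ⊔ P)) P hH₁P
          rw [hXsup, hWcard] at h1
          exact (Nat.eq_of_mul_eq_mul_left Nat.card_pos h1).symm
        have hKW : K ≤ K ⊔ P := le_sup_left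
        have hXW : H₁ ⊓ (K ⊔ P) ≤ K ⊔ P := inf_le_right
        have hPW : P ≤ K ⊔ P := le_sup_right
        have hXH₁ : H₁ ⊓ (K ⊔ P) ≤ H₁ := inf_le_left
        generalize H₁ ⊓ (K ⊔ P) = X at hXcard hXW hXH₁
        generalize K ⊔ P = W at hWcard hKW hXW hPW
        haveI : (P.subgroupOf W).Normal := Subgroup.normal_subgroupOf
        have hcardPW : Nat.card (P.subgroupOf W) = Nat.card P :=
          Nat.card_congr (Subgroup.subgroupOfEquivOfLe hPW).toEquiv
        have hidxPW : (P.subgroupOf W).index = Nat.card K := by
          have h1 := Subgroup.card_mul_index (P.subgroupOf W)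
          rw [hcardPW, hWcard] at h1
          exact Nat.eq_of_mul_eq_mul_left Nat.card_pos h1
        have hcopW : (Nat.card (P.subgroupOf W)).Coprime (P.subgroupOf W).index := by
          rw [hcardPW, hidxPW]
          exact (Nat.Coprime.coprime_dvd_right (Dvd.intro _ hn'.symm) hK).symm
        have hsolvW : Group.IsSolvable (P.subgroupOf W) := inferInstance
        obtain ⟨x, hx⟩ := sz_conj_of_solvable_normal (P.subgroupOf W) hcopW hsolvW
          (K.subgroupOf W) (X.subgroupOf W)
          (by rw [hidxPW, Nat.card_congr (Subgroup.subgroupOfEquivOfLe hKW).toEquiv])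
          (by rw [hidxPW, Nat.card_congr (Subgroup.subgroupOfEquivOfLe hXW).toEquiv, hXcard])
        have hx' := conj_of_conj_subgroupOf W K X hKW hXW x hx
        refine ⟨(x : G)⁻¹, ?_⟩
        intro y hy
        rw [mem_conj_smul, inv_inv]
        apply hXH₁
        rw [← hx', mem_conj_smul]
        have : (x : G)⁻¹ * ((x : G) * y * (x : G)⁻¹) * (x : G) = y := by group
        rw [this]
        exact hy
    · rw [not_nontrivial_iff_subsingleton] at hnt
      refine ⟨1, ?_⟩
      intro y _
      rw [Subsingleton.elim y 1]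
      exact Subgroup.one_mem _

theorem hall_dominance {G : Type u} [Group G] [Finite G] [Group.IsSolvable G] (m n : ℕ)
    (hG : Nat.card G = m * n) (hmn : m.Coprime n) (H K : Subgroup G) (hH : Nat.card H = m)
    (hK : (Nat.card K).Coprime n) : ∃ g : G, K ≤ MulAut.conj g • H :=
  hall_dominance_aux (Nat.card G) m n le_rfl hG hmn H K hH hK

theorem hall_conj {G : Type u} [Group G] [Finite G] [Group.IsSolvable G] (m n : ℕ)
    (hG : Nat.card G = m * n) (hmn : m.Coprime n) (H K : Subgroup G) (hH : Nat.card H = m)
    (hK : Nat.card K = m) : ∃ g : G, MulAut.conj g • H = K := by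
  obtain ⟨g, hg⟩ := hall_dominance m n hG hmn H K hH (by rw [hK]; exact hmn)
  refine ⟨g, ?_⟩
  exact (Subgroup.eq_of_le_of_card_ge hg (by rw [card_conj_smul, hH, hK])).symm

end Cfsg.Agent.Lib.helper1
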