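import Mathlib
import Cfsg.Agent.Lib.helper1.SZ
import Cfsg.Agent.Lib.lead.Frobenius
import Cfsg.Agent.Lib.lead.Tate
import Cfsg.Agent.Lib.lead.PNil
import Cfsg.Agent.S0001

set_option autoImplicit false

namespace Cfsg.Agent.Lib.helper1

open Subgroup
open scoped Pointwise commutatorElement

universe u

/-- A subgroup whose order is divisible by the full `q`-part of `|G|` for every prime `q`
is everything. -/
theorem eq_top_of_pow_dvd {G : Type*} [Group G] [Finite G] (C : Subgroup G)
    (h : ∀ q : ℕ, q.Prime → q ^ (Nat.card G).factorization q ∣ Nat.card C) : C = ⊤ := by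
  apply Subgroup.eq_top_of_card_eq
  apply Nat.dvd_antisymm (Subgroup.card_subgroup_dvd_card C)
  have hG : Nat.card G ≠ 0 := Nat.card_pos.ne'
  have hC : Nat.card C ≠ 0 := Nat.card_pos.ne'
  rw [← Nat.factorization_prime_le_iff_dvd hG hC]
  intro q hq
  exact (hq.pow_dvd_iff_le_factorization hC).mp (h q hq)

/-- For a Hall subgroup `H` and a prime `p` dividing `|H|`, the `p`-parts of `|G|` and `|H|`
agree. -/
theorem hall_factorization {G : Type*} [Group G] [Finite G] (H : Subgroup G)
    (hHall : Nat.Coprime (Nat.card H) H.index) {p : ℕ} (hp : p.Prime) (hpH : p ∣ Nat.card H) :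
    (Nat.card G).factorization p = (Nat.card H).factorization p := by
  have h1 := H.card_mul_index
  have hi : H.index ≠ 0 := Subgroup.index_ne_zero_of_finite
  have hc : Nat.card H ≠ 0 := Nat.card_pos.ne'
  have h2 : ¬ p ∣ H.index := by
    intro h3
    have := Nat.eq_one_of_dvd_coprimes hHall hpH h3
    exact hp.one_lt.ne' this
  rw [← h1, Nat.factorization_mul hc hi]
  simp [Nat.factorization_eq_zero_of_not_dvd h2]

/-- A Sylow `p`-subgroup of `G` inside a Hall subgroup `H` (for `p` dividing `|H|`), coming from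
a Sylow `p`-subgroup of `H`. -/
theorem exists_sylow_le_hall {G : Type*} [Group G] [Finite G] (H : Subgroup G)
    (hHall : Nat.Coprime (Nat.card H) H.index) {p : ℕ} [Fact p.Prime] (hpH : p ∣ Nat.card H)
    (Q : Sylow p H) :
    ∃ P : Sylow p G, (P : Subgroup G) = (Q : Subgroup H).map H.subtype := by
  have hp : p.Prime := Fact.out
  have hcard : Nat.card ((Q : Subgroup H).map H.subtype) = p ^ (Nat.card G).factorization p := by
    rw [Subgroup.card_map_of_injective (Subgroup.subtype_injective H),
      hall_factorization H hHall hp hpH]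
    exact Sylow.card_eq_multiplicity Q
  exact ⟨Sylow.ofCard _ hcard, rfl⟩

/-- If `G` has a normal `p`-complement for every prime `p` dividing the order of the Hall
subgroup `H`, then `H` has a normal complement. -/
theorem hall_complement_of_pcomplements {G : Type*} [Group G] [Finite G] (H : Subgroup G)
    (hHall : Nat.Coprime (Nat.card H) H.index)
    (h : ∀ p : ℕ, p.Prime → p ∣ Nat.card H → ∃ K : Subgroup G, K.Normal ∧
      (∀ g : G, Nat.Coprime (orderOf g) p → g ∈ K) ∧ Nat.Coprime (Nat.card K) p) :
    ∃ N : Subgroup G, N.Normal ∧ N.IsComplement' H := by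
  classical
  choose K hKn hKmem hKcop using h
  let N : Subgroup G := ⨅ p : {p : ℕ // p.Prime ∧ p ∣ Nat.card H}, K p.1 p.2.1 p.2.2
  have hNn : N.Normal := Subgroup.normal_iInf_normal (fun p => hKn p.1 p.2.1 p.2.2)
  have hNle : ∀ (p : ℕ) (hp : p.Prime) (hpH : p ∣ Nat.card H), N ≤ K p hp hpH :=
    fun p hp hpH => iInf_le (fun p : {p : ℕ // p.Prime ∧ p ∣ Nat.card H} => K p.1 p.2.1 p.2.2)
      ⟨p, hp, hpH⟩
  have hcop : (Nat.card N).Coprime (Nat.card H) := by
    apply Nat.Coprime.symm
    apply Nat.coprime_of_dvd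
    intro k hk hkH hkN
    have h1 : k ∣ Nat.card (K k hk hkH) := hkN.trans (Subgroup.card_dvd_of_le (hNle k hk hkH))
    have h2 := hKcop k hk hkH
    have := Nat.eq_one_of_dvd_coprimes h2 h1 (dvd_refl k)
    exact hk.one_lt.ne' this
  have hdisj : Disjoint H N := (Subgroup.disjoint_of_coprime_natCard hcop).symm
  have htop : H ⊔ N = ⊤ := by
    apply eq_top_of_pow_dvd
    intro q hq
    haveI := Fact.mk hq
    by_cases hqH : q ∣ Nat.card H
    · rw [hall_factorization H hHall hq hqH]
      exact (Nat.ordProj_dvd _ _).trans (Subgroup.card_dvd_of_le le_sup_left)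
    · obtain ⟨Q⟩ : Nonempty (Sylow q G) := inferInstance
      have hQN : (Q : Subgroup G) ≤ N := by
        intro x hx
        rw [Subgroup.mem_iInf]
        rintro ⟨p, hp, hpH⟩
        apply hKmem p hp hpH
        obtain ⟨k, hk⟩ := (IsPGroup.iff_orderOf.mp Q.2) ⟨x, hx⟩
        rw [Subgroup.orderOf_mk] at hk
        rw [hk]
        apply Nat.Coprime.pow_left
        rw [Nat.coprime_primes hq hp]
        rintro rfl
        exact hqH hpH
      rw [← Sylow.card_eq_multiplicity Q]
      exact (Subgroup.card_dvd_of_le hQN).trans (Subgroup.card_dvd_of_le le_sup_right)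
  refine ⟨N, hNn, ?_⟩
  apply Subgroup.isComplement'_of_card_mul_and_disjoint
  · haveI := hNn
    have h1 := card_sup_of_disjoint_normal H N hdisj
    rw [htop, Subgroup.card_top] at h1
    exact h1.symm
  · exact hdisj.symm

end Cfsg.Agent.Lib.helper1
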