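import Mathlib
import Cfsg.Agent.S0108
import Cfsg.Agent.Lib.helper1.FpfPrime
import Cfsg.Agent.Lib.lead.PNil

/-!
# Thompson: a finite group with a nilpotent maximal subgroup of odd order is solvable
-/

set_option autoImplicit false

namespace Cfsg.Agent.Lib.helper1

open Subgroup

universe u

/-- The derived series of a finite group stabilises. -/
theorem exists_derivedSeries_stable (G : Type*) [Group G] [Finite G] :
    ∃ n : ℕ, derivedSeries G (n + 1) = derivedSeries G n := by
  by_contra hcon
  push Not at hcon
  have h : ∀ n : ℕ, Nat.card (derivedSeries G n) + n ≤ Nat.card G := by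
    intro n
    induction n with
    | zero => simp [derivedSeries_zero]
    | succ n ih =>
      have hle : derivedSeries G (n + 1) ≤ derivedSeries G n :=
        derivedSeries_antitone G (Nat.le_succ n)
      have hlt : Nat.card (derivedSeries G (n + 1)) < Nat.card (derivedSeries G n) := by
        by_contra hge
        push Not at hge
        exact hcon n (Subgroup.eq_of_le_of_card_ge hle hge)
      omega
  have := h (Nat.card G + 1)
  omega

/-- A perfect subgroup lies in every normal subgroup with solvable quotient. -/
theorem perfect_le_of_solvable_quotient {G : Type*} [Group G] (D : Subgroup G)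
    (hD : ⁅D, D⁆ = D) (N : Subgroup G) [N.Normal] (hN : Group.IsSolvable (G ⧸ N)) : D ≤ N := by
  have h1 : ∀ m, D ≤ derivedSeries G m := by
    intro m
    induction m with
    | zero => simp
    | succ m ih =>
      rw [derivedSeries_succ]
      calc D = ⁅D, D⁆ := hD.symm
        _ ≤ _ := Subgroup.commutator_mono ih ih
  obtain ⟨m, hm⟩ := hN.solvable
  have h2 : (derivedSeries G m).map (QuotientGroup.mk' N) = ⊥ := by
    rw [map_derivedSeries_eq (QuotientGroup.mk'_surjective N), hm]
  have h3 : derivedSeries G m ≤ N := by
    have := (Subgroup.map_eq_bot_iff _).mp h2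
    rwa [QuotientGroup.ker_mk'] at this
  exact (h1 m).trans h3

/-- A Sylow subgroup of `M` whose normalizer in `G` is `M` is a Sylow subgroup of `G`. -/
theorem exists_sylow_eq_of_normalizer_eq {G : Type*} [Group G] [Finite G] {p : ℕ} [Fact p.Prime]
    (M : Subgroup G) (P₀ : Sylow p M)
    (h : normalizer ((((P₀ : Subgroup M).map M.subtype : Subgroup G)) : Set G) = M) :
    ∃ Q : Sylow p G, (Q : Subgroup G) = (P₀ : Subgroup M).map M.subtype := by
  have hPGp : IsPGroup p ((P₀ : Subgroup M).map M.subtype) := P₀.isPGroup'.map M.subtype
  obtain ⟨Q, hQ⟩ := hPGp.exists_le_sylow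
  refine ⟨Q, ?_⟩
  symm
  apply Subgroup.eq_of_le_of_card_ge hQ
  have hc1 : Nat.card ((P₀ : Subgroup M).map M.subtype) = Nat.card (P₀ : Subgroup M) :=
    Subgroup.card_map_of_injective M.subtype_injective
  have hc2 := P₀.card_eq_multiplicity
  have hc3 := Q.card_eq_multiplicity
  by_contra hlt
  push Not at hlt
  have hp : p.Prime := Fact.out
  have hlt' : (Nat.card M).factorization p < (Nat.card G).factorization p := by
    rw [hc1, hc2, hc3] at hlt
    exact (Nat.pow_lt_pow_iff_right hp.one_lt).mp hlt
  have hdvd : p ^ ((Nat.card M).factorization p + 1) ∣ Nat.card G :=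
    (pow_dvd_pow p hlt').trans (Nat.ordProj_dvd _ _)
  have h4 := Sylow.prime_pow_dvd_card_normalizer hdvd
    (H := (P₀ : Subgroup M).map M.subtype) (by rw [hc1, hc2])
  rw [h] at h4
  exact Nat.pow_succ_factorization_not_dvd (Nat.card_pos).ne' hp h4

theorem isCoatom_map_mk {G : Type*} [Group G] (N M : Subgroup G) [N.Normal] (hNM : N ≤ M)
    (hM : IsCoatom M) : IsCoatom (M.map (QuotientGroup.mk' N)) := by
  have h1 : (M.map (QuotientGroup.mk' N)).comap (QuotientGroup.mk' N) = M := by
    rw [Subgroup.comap_map_eq, QuotientGroup.ker_mk', sup_eq_left.mpr hNM]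
  constructor
  · intro h
    apply hM.1
    rw [← h1, h, Subgroup.comap_top]
  · intro H hH
    have h2 : M ≤ H.comap (QuotientGroup.mk' N) := by
      rw [← h1]; exact Subgroup.comap_mono hH.le
    have h3 : M ≠ H.comap (QuotientGroup.mk' N) := by
      intro heq
      apply hH.ne
      rw [heq, Subgroup.map_comap_eq_self_of_surjective (QuotientGroup.mk'_surjective N)]
    have h4 := hM.2 _ (lt_of_le_of_ne h2 h3)
    rw [← Subgroup.map_comap_eq_self_of_surjective (QuotientGroup.mk'_surjective N) H, h4,
      Subgroup.map_top_of_surjective _ (QuotientGroup.mk'_surjective N)]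

theorem nilp_max_odd_aux (n : ℕ) : ∀ (G : Type u) [Group G] [Finite G], Nat.card G ≤ n →
    ∀ M : Subgroup G, IsCoatom M → Group.IsNilpotent M → Odd (Nat.card M) → Group.IsSolvable G := by
  induction n with
  | zero =>
    intro G _ _ h
    exact absurd h (by have := Nat.card_pos (α := G); omega)
  | succ n ih =>
    intro G _ _ hn M hmax hnil hodd
    by_cases hcore : M.normalCore = ⊥
    swap
    · -- pass to the quotient by the core
      obtain ⟨N, hN⟩ : ∃ N : Subgroup G, N = M.normalCore := ⟨_, rfl⟩
      haveI : N.Normal := by rw [hN]; exact Subgroup.normalCore_normal M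
      have hNM : N ≤ M := by rw [hN]; exact Subgroup.normalCore_le M
      have hNne : N ≠ ⊥ := by rw [hN]; exact hcore
      have hlt : Nat.card (G ⧸ N) < Nat.card G := by
        have h1 : Nat.card G = Nat.card (G ⧸ N) * Nat.card N :=
          Subgroup.card_eq_card_quotient_mul_card_subgroup N
        have h2 : 1 < Nat.card N := (Subgroup.one_lt_card_iff_ne_bot N).mpr hNne
        have h3 : 0 < Nat.card (G ⧸ N) := Nat.card_pos
        nlinarith
      have hQ : Group.IsSolvable (G ⧸ N) := by
        apply ih (G ⧸ N) (by omega) (M.map (QuotientGroup.mk' N))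
        · exact isCoatom_map_mk N M hNM hmax
        · haveI := hnil
          exact nilpotent_of_surjective ((QuotientGroup.mk' N).subgroupMap M)
            ((QuotientGroup.mk' N).subgroupMap_surjective M)
        · exact Odd.of_dvd_nat hodd (Subgroup.card_map_dvd _ _)
      haveI : Group.IsSolvable N := by
        haveI := hnil
        exact solvable_of_solvable_injective (f := Subgroup.inclusion hNM)
          (Subgroup.inclusion_injective hNM)
      exact solvable_of_ker_le_range N.subtype (QuotientGroup.mk' N)
        (by rw [QuotientGroup.ker_mk', Subgroup.range_subtype])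
    · by_cases hMbot : M = ⊥
      · subst hMbot
        by_cases hg : ∃ g : G, g ≠ 1
        · obtain ⟨g, hg⟩ := hg
          have h1 : zpowers g = ⊤ :=
            hmax.2 _ (bot_lt_iff_ne_bot.mpr (by simpa using hg))
          apply isSolvable_of_comm
          intro a b
          have ha : a ∈ zpowers g := by rw [h1]; trivial
          have hb : b ∈ zpowers g := by rw [h1]; trivial
          obtain ⟨i, rfl⟩ := mem_zpowers_iff.mp ha
          obtain ⟨j, rfl⟩ := mem_zpowers_iff.mp hb
          exact (Commute.zpow_zpow_self g i j).eq
        · push Not at hg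
          haveI : Subsingleton G := ⟨fun a b => by rw [hg a, hg b]⟩
          infer_instance
      -- main case
      have hnorm : ∀ W : Subgroup G, W ≤ M → W ≠ ⊥ → M ≤ normalizer (W : Set G) →
          normalizer (W : Set G) = M := by
        intro W hWM hW hMW
        rcases eq_or_lt_of_le hMW with h | h
        · exact h.symm
        · exfalso
          have htop := hmax.2 _ h
          haveI : W.Normal := Subgroup.normalizer_eq_top_iff.mp htop
          have : W ≤ M.normalCore := Subgroup.normal_le_normalCore.mpr hWM
          rw [hcore] at this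
          exact hW (le_bot_iff.mp this)
      have hA : ∀ p : ℕ, p.Prime → p ∣ Nat.card M →
          ∃ K : Subgroup G, K.Normal ∧ Nat.Coprime (Nat.card K) p ∧
            ∀ D : Subgroup G, ⁅D, D⁆ = D → D ≤ K := by
        intro p hp hpM
        haveI : Fact p.Prime := ⟨hp⟩
        have hp2 : p ≠ 2 := by
          rintro rfl
          exact (Nat.not_even_iff_odd.mpr hodd) (even_iff_two_dvd.mpr hpM)
        have hnormal : ∀ (q : ℕ) [Fact q.Prime] (S : Sylow q M), (S : Subgroup M).Normal :=
          ((Group.isNilpotent_of_finite_tfae (G := M)).out 0 3).mp hnil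
        obtain ⟨P₀⟩ : Nonempty (Sylow p M) := inferInstance
        haveI := hnormal p P₀
        have hPGM : (P₀ : Subgroup M).map M.subtype ≤ M := Subgroup.map_subtype_le _
        have hPGne : (P₀ : Subgroup M).map M.subtype ≠ ⊥ := by
          rw [Ne, Subgroup.map_eq_bot_iff_of_injective _ M.subtype_injective]
          exact P₀.ne_bot_of_dvd_card hpM
        have hMPG : M ≤ normalizer (((P₀ : Subgroup M).map M.subtype : Subgroup G) : Set G) := by
          have h1 := Subgroup.le_normalizer_map (H := (P₀ : Subgroup M)) M.subtype
          rw [Subgroup.normalizer_eq_top_iff.mpr inferInstance, ← MonoidHom.range_eq_map,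
            Subgroup.range_subtype] at h1
          exact h1
        have hNPG := hnorm _ hPGM hPGne hMPG
        obtain ⟨Q, hQ⟩ := exists_sylow_eq_of_normalizer_eq M P₀ hNPG
        have hQM : (Q : Subgroup G) ≤ M := by rw [hQ]; exact hPGM
        have hQne : (Q : Subgroup G) ≠ ⊥ := by rw [hQ]; exact hPGne
        have hMQ : M ≤ normalizer ((Q : Subgroup G) : Set G) := by rw [hQ]; exact hMPG
        have hJ1 : normalizer (Cfsg.thompsonSubgroupOf p (Q : Subgroup G) : Set G) = M := by
          apply hnorm
          · exact ((JJ p).le G (Q : Subgroup G)).trans hQM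
          · exact (JJ p).ne_bot G (Q : Subgroup G) Q.isPGroup' hQne
          · exact hMQ.trans ((JJ p).normalizer_le G (Q : Subgroup G))
        have hZ1 : normalizer ((((Q : Subgroup G) ⊓ centralizer ((Q : Subgroup G) : Set G)) :
            Subgroup G) : Set G) = M := by
          apply hnorm
          · exact inf_le_left.trans hQM
          · exact (ZZ p).ne_bot G (Q : Subgroup G) Q.isPGroup' hQne
          · exact hMQ.trans ((ZZ p).normalizer_le G (Q : Subgroup G))
        have hMnpc : Cfsg.HasNormalPComplement p M :=
          Cfsg.Agent.Lib.lead.hasNPC_of_nilpotent p hnil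
        have hG : Cfsg.HasNormalPComplement p G := by
          rw [Cfsg.Agent.S0108.result hp2 Q]
          constructor
          · rw [hJ1]; exact hMnpc
          · refine npc_of_le ?_ hMnpc
            rw [← hZ1]; exact Subgroup.centralizer_le_normalizer _
        rw [Cfsg.Agent.S0072.hasNormalPComplement_iff] at hG
        obtain ⟨K, hKn, hKc, a, ha⟩ := hG
        refine ⟨K, hKn, hKc, ?_⟩
        haveI := hKn
        have hpg : IsPGroup p (G ⧸ K) := IsPGroup.of_card (n := a) (by rw [← ha]; rfl)
        haveI := hpg.isNilpotent
        intro D hD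
        exact perfect_le_of_solvable_quotient D hD K inferInstance
      -- the perfect core
      obtain ⟨k, hk⟩ := exists_derivedSeries_stable G
      obtain ⟨D, hD⟩ : ∃ D : Subgroup G, D = derivedSeries G k := ⟨_, rfl⟩
      haveI hDn : D.Normal := by rw [hD]; exact derivedSeries_normal G k
      have hDperf : ⁅D, D⁆ = D := by rw [hD, ← derivedSeries_succ]; exact hk
      have hDM : D ⊓ M = ⊥ := by
        by_contra hne
        obtain ⟨p, hp, hpd⟩ := Nat.exists_prime_and_dvd
          (show Nat.card (D ⊓ M : Subgroup G) ≠ 1 from
            fun h => hne (Subgroup.eq_bot_of_card_eq _ h))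
        have hpM : p ∣ Nat.card M := hpd.trans (Subgroup.card_dvd_of_le inf_le_right)
        obtain ⟨K, hKn, hKc, hKs⟩ := hA p hp hpM
        have hDK : D ≤ K := hKs D hDperf
        have hpK : p ∣ Nat.card K :=
          hpd.trans (Subgroup.card_dvd_of_le (inf_le_left.trans hDK))
        exact hp.one_lt.ne' (Nat.Coprime.eq_one_of_dvd hKc.symm hpK)
      -- a central element of prime order
      haveI : Nontrivial M := (Subgroup.nontrivial_iff_ne_bot M).mpr hMbot
      haveI := hnil
      have hZ : center M ≠ ⊥ := Group.IsNilpotent.center_ne_bot M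
      obtain ⟨p, hp, hpd⟩ := Nat.exists_prime_and_dvd
        (show Nat.card (center M) ≠ 1 from fun h => hZ (Subgroup.eq_bot_of_card_eq _ h))
      haveI : Fact p.Prime := ⟨hp⟩
      obtain ⟨z, hz⟩ := exists_prime_orderOf_dvd_card' p hpd
      have hzne : ((z : M) : G) ≠ 1 := by
        intro h1
        have h2 : z = 1 := Subtype.ext (Subtype.ext h1)
        rw [h2, orderOf_one] at hz
        exact hp.one_lt.ne hz
      have hzpow : ((z : M) : G) ^ p = 1 := by
        have h1 : z ^ p = 1 := by rw [← hz]; exact pow_orderOf_eq_one z
        have h2 : (((z ^ p : center M) : M) : G) = 1 := by rw [h1]; rfl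
        simpa using h2
      have hzM : ∀ m ∈ M, m * ((z : M) : G) = ((z : M) : G) * m := by
        intro m hm
        have h1 := (Subgroup.mem_center_iff.mp z.2) ⟨m, hm⟩
        exact congrArg Subtype.val h1
      have hCz : centralizer ({((z : M) : G)} : Set G) = M := by
        have hle : M ≤ centralizer ({((z : M) : G)} : Set G) := fun m hm => by
          rw [Subgroup.mem_centralizer_iff]
          intro x hx
          rw [Set.mem_singleton_iff.mp hx]
          exact (hzM m hm).symm
        rcases eq_or_lt_of_le hle with h | h
        · exact h.symm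
        · exfalso
          have htop := hmax.2 _ h
          have hzc : ∀ g : G, g * ((z : M) : G) = ((z : M) : G) * g := by
            intro g
            have h1 : g ∈ centralizer ({((z : M) : G)} : Set G) := by rw [htop]; trivial
            exact ((Subgroup.mem_centralizer_iff.mp h1) _ rfl).symm
          haveI hn : (zpowers ((z : M) : G)).Normal := by
            refine ⟨fun x hx g => ?_⟩
            obtain ⟨i, rfl⟩ := mem_zpowers_iff.mp hx
            have h2 : g * ((z : M) : G) ^ i * g⁻¹ = ((z : M) : G) ^ i := by
              have h3 : Commute g (((z : M) : G) ^ i) := (show Commute g ((z : M) : G) from hzc g).zpow_right i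
              rw [h3.eq]; group
            rw [h2]; exact hx
          have h4 : zpowers ((z : M) : G) ≤ M.normalCore :=
            Subgroup.normal_le_normalCore.mpr (by
              rw [zpowers_le]; exact (z : M).2)
          rw [hcore] at h4
          exact hzne (by simpa using h4 (mem_zpowers _))
      -- fixed-point-free action on D
      have hφ : ∀ d : D, (((MulAut.conjNormal ((z : M) : G) : MulAut D) d : D) : G)
          = ((z : M) : G) * d * ((z : M) : G)⁻¹ := fun d => by simp
      have hFP : FP p D (MulAut.conjNormal ((z : M) : G) : MulAut D) := by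
        constructor
        · intro d hd
          have h1 : ((z : M) : G) * (d : G) * ((z : M) : G)⁻¹ = d := by rw [← hφ, hd]
          have h2 : (d : G) ∈ centralizer ({((z : M) : G)} : Set G) := by
            rw [Subgroup.mem_centralizer_iff]
            intro x hx
            rw [Set.mem_singleton_iff.mp hx]
            calc ((z : M) : G) * d = ((z : M) : G) * d * ((z : M) : G)⁻¹ * ((z : M) : G) := by
                  group
              _ = d * ((z : M) : G) := by rw [h1]
          rw [hCz] at h2
          have h3 : (d : G) ∈ D ⊓ M := ⟨d.2, h2⟩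
          rw [hDM] at h3
          exact Subtype.ext (by simpa using h3)
        · have h1 : (MulAut.conjNormal ((z : M) : G) : MulAut D) ^ p
              = MulAut.conjNormal (((z : M) : G) ^ p) := (map_pow MulAut.conjNormal _ p).symm
          rw [h1, hzpow, map_one]
      have hDnil : Group.IsNilpotent D := fpf_nilpotent p hp D _ hFP
      haveI : Group.IsSolvable D := by haveI := hDnil; infer_instance
      haveI : Group.IsSolvable (G ⧸ D) := ⟨⟨k, by
        rw [← map_derivedSeries_eq (QuotientGroup.mk'_surjective D) k]
        exact (Subgroup.map_eq_bot_iff _).mpr (by rw [QuotientGroup.ker_mk', hD])⟩⟩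
      exact solvable_of_ker_le_range D.subtype (QuotientGroup.mk' D)
        (by rw [QuotientGroup.ker_mk', Subgroup.range_subtype])

/-- **Thompson**: a finite group with a nilpotent maximal subgroup of odd order is solvable. -/
theorem nilp_max_odd_solvable {G : Type u} [Group G] [Finite G] (M : Subgroup G)
    (hmax : IsCoatom M) (hnil : Group.IsNilpotent M) (hodd : Odd (Nat.card M)) :
    Group.IsSolvable G :=
  nilp_max_odd_aux (Nat.card G) G le_rfl M hmax hnil hodd

end Cfsg.Agent.Lib.helper1
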