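import Mathlib
import Cfsg.Prelude.Def_CaseTheorems
import Cfsg.Prelude.Def_Transfer
import Cfsg.Prelude.Def_PLocal
import Cfsg.Agent.S0065
import Cfsg.Agent.Lib.helper1.Dihedral
import Cfsg.Agent.Lib.helper1.Quat
import Cfsg.Agent.Lib.helper1.NormAb
import Cfsg.Agent.Lib.helper1.MaxClass
import Cfsg.Agent.Lib.helper1.MaxClass2
import Cfsg.Agent.Lib.helper1.NormEA
import Cfsg.Agent.Lib.helper2.Idx2

set_option autoImplicit false

namespace Cfsg.Agent.Lib.helper1

open Subgroup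

open scoped commutatorElement

universe u

/-- A self-centralizing cyclic normal proper subgroup `⟨a⟩` of a `p`-group has order at least
`p ^ 2`. -/
theorem cyclic_self_centralizing_order {P : Type*} [Group P] [Finite P] (p : ℕ) [Fact p.Prime]
    (hP : IsPGroup p P) (a : P) (hAn : (zpowers a).Normal)
    (hCA : Subgroup.centralizer (zpowers a : Set P) = zpowers a) (hPA : ∃ y, y ∉ zpowers a) :
    ∃ k : ℕ, 2 ≤ k ∧ orderOf a = p ^ k ∧ (∀ g : P, g * a = a * g → g ∈ zpowers a) := by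
  have hpp : p.Prime := Fact.out
  obtain ⟨k, hk⟩ : ∃ k, orderOf a = p ^ k := by
    obtain ⟨k, hk⟩ := hP a
    obtain ⟨j, -, hj⟩ := (Nat.dvd_prime_pow hpp).mp (orderOf_dvd_of_pow_eq_one hk)
    exact ⟨j, hj⟩
  have hmemA : ∀ g : P, g * a = a * g → g ∈ zpowers a := by
    intro g hg
    rw [← hCA, Subgroup.mem_centralizer_iff]
    intro c hc
    rw [SetLike.mem_coe] at hc
    obtain ⟨i, rfl⟩ := Subgroup.mem_zpowers_iff.mp hc
    have h : Commute g a := hg
    exact (h.zpow_right i).eq.symm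
  have hk2 : 2 ≤ k := by
    by_contra hk2
    haveI : Group.IsNilpotent P := hP.isNilpotent
    have hcard : Nat.card (zpowers a) = p ^ k := by rw [Nat.card_zpowers, hk]
    have hAcenter : zpowers a ≤ center P := by
      rcases Nat.lt_or_ge k 1 with h0 | h1
      · have hk0 : k = 0 := by omega
        rw [hk0, pow_zero] at hcard
        rw [Subgroup.card_eq_one.mp hcard]
        exact bot_le
      · have hk1 : k = 1 := by omega
        rw [hk1, pow_one] at hcard
        have hne : zpowers a ≠ ⊥ := by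
          intro h
          rw [h, Subgroup.card_bot] at hcard
          exact hpp.one_lt.ne hcard
        have h1 := Cfsg.Agent.S0065.normal_inf_center_ne_bot (zpowers a) hne
        have h2 : 1 < Nat.card (zpowers a ⊓ center P : Subgroup P) :=
          (Subgroup.one_lt_card_iff_ne_bot _).mpr h1
        have h3 : Nat.card (zpowers a ⊓ center P : Subgroup P) ∣ p := by
          rw [← hcard]; exact Subgroup.card_dvd_of_le inf_le_left
        have h4 : Nat.card (zpowers a ⊓ center P : Subgroup P) = p := by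
          rcases (Nat.dvd_prime hpp).mp h3 with h | h
          · omega
          · exact h
        have h5 : (zpowers a ⊓ center P : Subgroup P) = zpowers a :=
          Subgroup.eq_of_le_of_card_ge inf_le_left (by rw [h4, hcard])
        rw [← h5]; exact inf_le_right
    have htop : Subgroup.centralizer (zpowers a : Set P) = ⊤ :=
      Subgroup.centralizer_eq_top_iff_subset.mpr hAcenter
    obtain ⟨y, hy⟩ := hPA
    apply hy
    rw [← hCA, htop]; trivial
  exact ⟨k, hk2, hk, hmemA⟩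

/-- A `2`-group with a self-centralizing cyclic normal proper subgroup `⟨a⟩`: either some
involution outside `⟨a⟩` acts as `a ↦ a ^ (1 + 2 ^ (k - 1))`, or `⟨a⟩` has index `2` and the
group is of dihedral, quaternion or semidihedral type. -/
theorem two_group_cyclic_self_centralizing {P : Type*} [Group P] [Finite P] (hP : IsPGroup 2 P)
    (a : P) (k : ℕ) (hk2 : 2 ≤ k) (hk : orderOf a = 2 ^ k) (hAn : (zpowers a).Normal)
    (hmemA : ∀ g : P, g * a = a * g → g ∈ zpowers a) (hPA : ∃ y, y ∉ zpowers a) :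
    (∃ b : P, b ^ 2 = 1 ∧ b ∉ zpowers a ∧ 3 ≤ k ∧ b * a * b⁻¹ = a ^ (1 + 2 ^ (k - 1))) ∨
    ((zpowers a).index = 2 ∧ ∃ b : P, b ∉ zpowers a ∧
      ((b * a * b⁻¹ = a⁻¹ ∧ b ^ 2 = 1) ∨ (b * a * b⁻¹ = a⁻¹ ∧ b ^ 2 = a ^ (2 ^ (k - 1))) ∨
       (3 ≤ k ∧ b * a * b⁻¹ = a ^ (2 ^ (k - 1) - 1) ∧ b ^ 2 = 1))) := by
  classical
  by_cases hex : ∃ b : P, b ^ 2 = 1 ∧ b ∉ zpowers a ∧ 3 ≤ k ∧
      b * a * b⁻¹ = a ^ (1 + 2 ^ (k - 1))
  · exact Or.inl hex
  right
  have hcase3 : ∀ b : P, b ^ 2 = 1 → b ∉ zpowers a → 3 ≤ k →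
      b * a * b⁻¹ = a ^ (1 + 2 ^ (k - 1)) → False :=
    fun b h1 h2 h3 h4 => hex ⟨b, h1, h2, h3, h4⟩
  have haA : a ∈ zpowers a := Subgroup.mem_zpowers a
  have hexp : ∀ g : P, ∃ r : ℤ, a ^ r = g * a * g⁻¹ :=
    fun g => Subgroup.mem_zpowers_iff.mp (hAn.conj_mem a haA g)
  have hpowa : ∀ i j : ℤ, (2:ℤ) ^ k ∣ i - j → a ^ i = a ^ j := by
    intro i j hij
    have h : a ^ (i - j) = 1 := by
      rw [← orderOf_dvd_iff_zpow_eq_one, hk]; exact_mod_cast hij
    rw [zpow_sub, mul_inv_eq_one] at h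
    exact h
  have hana : ∀ y : P, y ∉ zpowers a → y * y ∈ zpowers a → ∀ r : ℤ, a ^ r = y * a * y⁻¹ →
      ∃ t : ℤ, (y * a ^ t) * a * (y * a ^ t)⁻¹ = a ^ r ∧
      (((2:ℤ) ^ k ∣ r + 1 ∧ (y * a ^ t) ^ 2 = 1) ∨
       ((2:ℤ) ^ k ∣ r + 1 ∧ (y * a ^ t) ^ 2 = a ^ (2 ^ (k - 1))) ∨
       (3 ≤ k ∧ (2:ℤ) ^ k ∣ r + 1 - 2 ^ (k - 1) ∧ (y * a ^ t) ^ 2 = 1)) := by
    intro y hy hyy r hr
    obtain ⟨s, hs⟩ := Subgroup.mem_zpowers_iff.mp hyy
    obtain ⟨t, hF2, hc⟩ := two_core a y k hk2 hk r s hr hs (fun h => hy (hmemA y h))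
    refine ⟨t, hF2, ?_⟩
    rcases hc with h | h | ⟨h3, h4, h5⟩ | h
    · exact Or.inl h
    · exact Or.inr (Or.inl h)
    · exfalso
      have hbA : y * a ^ t ∉ zpowers a := by
        intro h
        apply hy
        have h' := (zpowers a).mul_mem h ((zpowers a).inv_mem ((zpowers a).zpow_mem haA t))
        rwa [mul_inv_cancel_right] at h'
      apply hcase3 (y * a ^ t) h5 hbA h3
      rw [hF2]
      have e : r - ((1 + 2 ^ (k - 1) : ℕ) : ℤ) = r - 1 - 2 ^ (k - 1) := by push_cast; ring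
      have := hpowa r ((1 + 2 ^ (k - 1) : ℕ) : ℤ) (by rw [e]; exact h4)
      rw [this, zpow_natCast]
    · exact Or.inr (Or.inr h)
  have h4k : (4:ℤ) ∣ (2:ℤ) ^ k := by
    have : (2:ℤ) ^ 2 ∣ (2:ℤ) ^ k := pow_dvd_pow 2 hk2
    simpa using this
  have hA3 : ∀ y : P, y ∉ zpowers a → y * y ∈ zpowers a → ∀ r : ℤ, a ^ r = y * a * y⁻¹ →
      (4:ℤ) ∣ r + 1 := by
    intro y hy hyy r hr
    obtain ⟨t, -, hc⟩ := hana y hy hyy r hr
    rcases hc with ⟨h, -⟩ | ⟨h, -⟩ | ⟨h3, h, -⟩
    · exact dvd_trans h4k h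
    · exact dvd_trans h4k h
    · have h4' : (4:ℤ) ∣ (2:ℤ) ^ (k - 1) := by
        have : (2:ℤ) ^ 2 ∣ (2:ℤ) ^ (k - 1) := pow_dvd_pow 2 (by omega)
        simpa using this
      have := dvd_add (dvd_trans h4k h) h4'
      rwa [sub_add_cancel] at this
  have hsq : ∀ y : P, y ∉ zpowers a → y * y ∈ zpowers a := by
    intro y hy
    by_contra hyy
    obtain ⟨N, hN⟩ := hP y
    have hex : ∃ j, y ^ 2 ^ j ∈ zpowers a := ⟨N, by rw [hN]; exact one_mem _⟩
    have hj : y ^ 2 ^ (Nat.find hex) ∈ zpowers a := Nat.find_spec hex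
    have hj0 : Nat.find hex ≠ 0 := by
      intro h0; rw [h0, pow_zero, pow_one] at hj; exact hy hj
    have hj1 : Nat.find hex ≠ 1 := by
      intro h1; rw [h1, pow_one, pow_two] at hj; exact hyy hj
    obtain ⟨j', hj'⟩ : ∃ j', Nat.find hex = j' + 2 := ⟨Nat.find hex - 2, by omega⟩
    have hz : y ^ 2 ^ (j' + 1) ∉ zpowers a := Nat.find_min hex (by omega)
    rw [hj'] at hj
    obtain ⟨w, hw⟩ : ∃ w, w = y ^ 2 ^ j' := ⟨_, rfl⟩
    have hz' : w * w ∉ zpowers a := by
      rw [hw, ← pow_two, ← pow_mul, ← pow_succ]; exact hz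
    have hzz : (w * w) * (w * w) ∈ zpowers a := by
      have e : (w * w) * (w * w) = y ^ 2 ^ (j' + 2) := by
        rw [hw, ← pow_two, ← pow_two, ← pow_mul, ← pow_mul]; congr 1; ring
      rw [e]; exact hj
    obtain ⟨rw_, hrw⟩ := hexp w
    have hconj : a ^ (rw_ * rw_) = (w * w) * a * (w * w)⁻¹ := by
      have e : (w * w) * a * (w * w)⁻¹ = w * (w * a * w⁻¹) * w⁻¹ := by group
      rw [e, ← hrw, ← conj_zpow, ← hrw, ← zpow_mul]
    have h4 := hA3 (w * w) hz' hzz (rw_ * rw_) hconj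
    rcases Int.even_or_odd' rw_ with ⟨c, hc | hc⟩
    · rw [hc] at h4
      have e : 2 * c * (2 * c) + 1 = 4 * (c * c) + 1 := by ring
      rw [e] at h4; omega
    · rw [hc] at h4
      have e : (2 * c + 1) * (2 * c + 1) + 1 = 4 * (c * c + c) + 2 := by ring
      rw [e] at h4; omega
  have hprod : ∀ y y' : P, y ∉ zpowers a → y' ∉ zpowers a → y * y' ∈ zpowers a := by
    intro y y' hy hy'
    by_contra hyy
    obtain ⟨r₁, hr₁⟩ := hexp y
    obtain ⟨r₂, hr₂⟩ := hexp y'
    have hconj : a ^ (r₁ * r₂) = (y * y') * a * (y * y')⁻¹ := by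
      have e : (y * y') * a * (y * y')⁻¹ = y * (y' * a * y'⁻¹) * y⁻¹ := by group
      rw [e, ← hr₂, ← conj_zpow, ← hr₁, ← zpow_mul]
    obtain ⟨u, hu⟩ := hA3 y hy (hsq y hy) r₁ hr₁
    obtain ⟨v, hv⟩ := hA3 y' hy' (hsq y' hy') r₂ hr₂
    obtain ⟨w, hw⟩ := hA3 (y * y') hyy (hsq _ hyy) (r₁ * r₂) hconj
    have e1 : r₁ = 4 * u - 1 := by linarith
    have e2 : r₂ = 4 * v - 1 := by linarith
    rw [e1, e2] at hw
    have e : (4 * u - 1) * (4 * v - 1) + 1 = 4 * (4 * (u * v) - u - v) + 2 := by ring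
    rw [e] at hw; omega
  obtain ⟨y₀, hy₀⟩ := hPA
  have hAi : (zpowers a).index = 2 := by
    rw [Subgroup.index_eq_two_iff]
    refine ⟨y₀, fun b => ?_⟩
    by_cases hb : b ∈ zpowers a
    · exact Or.inr ⟨hb, fun h => hy₀ (((zpowers a).mul_mem_cancel_left hb).mp h)⟩
    · exact Or.inl ⟨hprod b y₀ hb hy₀, hb⟩
  obtain ⟨r₀, hr₀⟩ := hexp y₀
  obtain ⟨t, hF2, hc⟩ := hana y₀ hy₀ (hsq y₀ hy₀) r₀ hr₀
  have hbA : y₀ * a ^ t ∉ zpowers a := by
    intro h
    apply hy₀
    have h' := (zpowers a).mul_mem h ((zpowers a).inv_mem ((zpowers a).zpow_mem haA t))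
    rwa [mul_inv_cancel_right] at h'
  obtain ⟨b, hb⟩ : ∃ b, b = y₀ * a ^ t := ⟨_, rfl⟩
  rw [← hb] at hF2 hc hbA
  have hinv : (2:ℤ) ^ k ∣ r₀ + 1 → b * a * b⁻¹ = a⁻¹ := by
    intro h
    rw [hF2]
    have := hpowa r₀ (-1) (by rw [sub_neg_eq_add]; exact h)
    rwa [zpow_neg, zpow_one] at this
  refine ⟨hAi, b, hbA, ?_⟩
  rcases hc with ⟨h1, h2⟩ | ⟨h1, h2⟩ | ⟨h3, h1, h2⟩
  · exact Or.inl ⟨hinv h1, h2⟩
  · exact Or.inr (Or.inl ⟨hinv h1, h2⟩)
  · refine Or.inr (Or.inr ⟨h3, ?_, h2⟩)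
    rw [hF2]
    have hle : 1 ≤ 2 ^ (k - 1) := Nat.one_le_two_pow
    have e : r₀ - ((2 ^ (k - 1) - 1 : ℕ) : ℤ) = r₀ + 1 - 2 ^ (k - 1) := by
      rw [Nat.cast_sub hle]; push_cast; ring
    have := hpowa r₀ ((2 ^ (k - 1) - 1 : ℕ) : ℤ) (by rw [e]; exact h1)
    rw [this, zpow_natCast]

/-- Identification of the three index-two types. -/
theorem two_group_types_of_index_two {P : Type*} [Group P] [Finite P] (a b : P) (k : ℕ)
    (hk2 : 2 ≤ k) (hk : orderOf a = 2 ^ k) (hAi : (zpowers a).index = 2) (hbA : b ∉ zpowers a)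
    (h : (b * a * b⁻¹ = a⁻¹ ∧ b ^ 2 = 1) ∨ (b * a * b⁻¹ = a⁻¹ ∧ b ^ 2 = a ^ (2 ^ (k - 1))) ∨
       (3 ≤ k ∧ b * a * b⁻¹ = a ^ (2 ^ (k - 1) - 1) ∧ b ^ 2 = 1)) :
    Nat.card P = 2 ^ (k + 1) ∧ ((∃ m : ℕ, Nonempty (P ≃* DihedralGroup m)) ∨
      (∃ m : ℕ, Nonempty (P ≃* QuaternionGroup m)) ∨ Cfsg.IsQuasiDihedral P) := by
  have hcard : Nat.card P = 2 ^ (k + 1) := by
    have := Subgroup.card_mul_index (zpowers a)
    rw [hAi, Nat.card_zpowers, hk] at this
    rw [← this, pow_succ]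
  refine ⟨hcard, ?_⟩
  rcases h with ⟨hconj, h2⟩ | ⟨hconj, h2⟩ | ⟨h3, hconj, h2⟩
  · left
    have hx : b * b = 1 := by rw [← pow_two]; exact h2
    have hinj := dihHom_injective b a hx hconj hbA
    have hbij : Function.Bijective (dihHom b a hx hconj) := by
      apply hinj.bijective_of_nat_card_le
      rw [DihedralGroup.nat_card, hk, hcard, pow_succ]; omega
    exact ⟨orderOf a, ⟨(MulEquiv.ofBijective _ hbij).symm⟩⟩
  · right; left
    have hρ : a ^ (2 * 2 ^ (k - 1)) = 1 := by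
      have e : 2 * 2 ^ (k - 1) = 2 ^ k := by rw [← pow_succ']; congr 1; omega
      rw [e, ← hk]; exact pow_orderOf_eq_one a
    have hx : b * b = a ^ (2 ^ (k - 1)) := by rw [← pow_two]; exact h2
    have ho : orderOf a = 2 * 2 ^ (k - 1) := by
      rw [hk, ← pow_succ']; congr 1; omega
    have hinj := quatHom_injective b a (2 ^ (k - 1)) hρ hx hconj ho hbA
    haveI : NeZero (2 ^ (k - 1)) := ⟨by positivity⟩
    have hbij : Function.Bijective (quatHom b a (2 ^ (k - 1)) hρ hx hconj) := by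
      apply hinj.bijective_of_nat_card_le
      rw [hcard, Nat.card_eq_fintype_card, QuaternionGroup.card]
      have e : 2 ^ (k + 1) = 4 * 2 ^ (k - 1) := by
        have : k + 1 = (k - 1) + 2 := by omega
        rw [this, pow_add]; ring
      omega
    exact ⟨2 ^ (k - 1), ⟨(MulEquiv.ofBijective _ hbij).symm⟩⟩
  · right; right
    exact ⟨k, h3, hcard, a, b, hk,
      orderOf_eq_prime h2 (by rintro rfl; exact hbA (one_mem _)), hconj⟩

/-- The three index-two types have maximal class. -/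
theorem maxclass_of_index_two_types {P : Type u} [Group P] [Finite P] (a b : P) (k : ℕ)
    (hk2 : 2 ≤ k) (hk : orderOf a = 2 ^ k) (hAi : (zpowers a).index = 2) (hbA : b ∉ zpowers a)
    (h : (b * a * b⁻¹ = a⁻¹ ∧ b ^ 2 = 1) ∨ (b * a * b⁻¹ = a⁻¹ ∧ b ^ 2 = a ^ (2 ^ (k - 1))) ∨
       (3 ≤ k ∧ b * a * b⁻¹ = a ^ (2 ^ (k - 1) - 1) ∧ b ^ 2 = 1)) :
    Nat.card P = 2 ^ (k + 1) ∧ Group.nilpotencyClass P = k := by
  have hcard : Nat.card P = 2 ^ (k + 1) := by
    have := Subgroup.card_mul_index (zpowers a)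
    rw [hAi, Nat.card_zpowers, hk] at this
    rw [← this, pow_succ]
  refine ⟨hcard, ?_⟩
  have haA : a ∈ zpowers a := Subgroup.mem_zpowers a
  have hapow : a ^ (2 ^ k) = 1 := by rw [← hk]; exact pow_orderOf_eq_one a
  obtain ⟨k', rfl⟩ : ∃ k', k = k' + 2 := ⟨k - 2, by omega⟩
  have hωA2 : a ^ (2 ^ (k' + 2 - 1)) ∈ zpowers (a ^ 2) := by
    have e : 2 ^ (k' + 2 - 1) = 2 * 2 ^ k' := by
      have : k' + 2 - 1 = k' + 1 := by omega
      rw [this, pow_succ]; ring
    rw [e, pow_mul]; exact Subgroup.npow_mem_zpowers _ _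
  -- the conjugation exponent
  have F1 : ∃ ρ m : ℤ, b * a * b⁻¹ = a ^ ρ ∧ ρ + 1 = 2 * m := by
    rcases h with ⟨hconj, -⟩ | ⟨hconj, -⟩ | ⟨-, hconj, -⟩
    · exact ⟨-1, 0, by rw [hconj, zpow_neg, zpow_one], by ring⟩
    · exact ⟨-1, 0, by rw [hconj, zpow_neg, zpow_one], by ring⟩
    · refine ⟨((2 ^ (k' + 2 - 1) - 1 : ℕ) : ℤ), 2 ^ k', by rw [hconj, zpow_natCast], ?_⟩
      have hle : 1 ≤ 2 ^ (k' + 2 - 1) := Nat.one_le_two_pow
      rw [Nat.cast_sub hle]
      have : k' + 2 - 1 = k' + 1 := by omega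
      rw [this]; push_cast; ring
  have F2 : b ^ 2 ∈ zpowers (a ^ 2) := by
    rcases h with ⟨-, h2⟩ | ⟨-, h2⟩ | ⟨-, -, h2⟩
    · rw [h2]; exact one_mem _
    · rw [h2]; exact hωA2
    · rw [h2]; exact one_mem _
  have F3 : a ^ 2 ∈ commutator P := by
    have hc : b * a * b⁻¹ * a⁻¹ ∈ commutator P := by
      rw [_root_.commutator_def, ← commutatorElement_def]
      exact Subgroup.commutator_mem_commutator (Subgroup.mem_top b) (Subgroup.mem_top a)
    rcases h with ⟨hconj, -⟩ | ⟨hconj, -⟩ | ⟨h3, hconj, -⟩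
    · rw [hconj] at hc
      have e : a ^ 2 = (a⁻¹ * a⁻¹)⁻¹ := by group
      rw [e]; exact inv_mem hc
    · rw [hconj] at hc
      have e : a ^ 2 = (a⁻¹ * a⁻¹)⁻¹ := by group
      rw [e]; exact inv_mem hc
    · obtain ⟨j, rfl⟩ : ∃ j, k' = j + 1 := ⟨k' - 1, by omega⟩
      rw [hconj] at hc
      have e1 : j + 1 + 2 - 1 = j + 2 := by omega
      rw [e1] at hc
      -- c = a ^ (2 ^ (j+2) - 2)
      have hge : 2 ≤ 2 ^ (j + 2) := by
        calc 2 = 2 ^ 1 := by norm_num
          _ ≤ 2 ^ (j + 2) := Nat.pow_le_pow_right (by norm_num) (by omega)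
      have hc' : a ^ (2 ^ (j + 2) - 2) ∈ commutator P := by
        have e : a ^ (2 ^ (j + 2) - 1) * a⁻¹ = a ^ (2 ^ (j + 2) - 2) := by
          have : 2 ^ (j + 2) - 1 = (2 ^ (j + 2) - 2) + 1 := by omega
          rw [this, pow_succ, mul_inv_cancel_right]
        rw [e] at hc; exact hc
      -- ω ∈ commutator
      have hω : a ^ (2 ^ (j + 2)) ∈ commutator P := by
        have h1 : (a ^ (2 ^ (j + 2) - 2)) ^ (2 ^ (j + 1)) * a ^ (2 ^ (j + 2)) = 1 := by
          rw [← pow_mul, ← pow_add]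
          have : (2 ^ (j + 2) - 2) * 2 ^ (j + 1) + 2 ^ (j + 2) = 2 ^ (j + 1 + 2) * 2 ^ j := by
            have h2 : (2 ^ (j + 2) - 2) * 2 ^ (j + 1) + 2 * 2 ^ (j + 1) =
                2 ^ (j + 2) * 2 ^ (j + 1) := by
              rw [← Nat.add_mul, Nat.sub_add_cancel hge]
            have h3 : 2 * 2 ^ (j + 1) = 2 ^ (j + 2) := by rw [← pow_succ']
            have h4 : 2 ^ (j + 2) * 2 ^ (j + 1) = 2 ^ (j + 1 + 2) * 2 ^ j := by
              rw [← pow_add, ← pow_add]; congr 1; omega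
            omega
          rw [this, pow_mul, hapow, one_pow]
        have h2 : a ^ (2 ^ (j + 2)) = ((a ^ (2 ^ (j + 2) - 2)) ^ (2 ^ (j + 1)))⁻¹ :=
          (eq_inv_of_mul_eq_one_right h1)
        rw [h2]; exact inv_mem (pow_mem hc' _)
      have e : a ^ 2 = (a ^ (2 ^ (j + 2) - 2))⁻¹ * a ^ (2 ^ (j + 2)) := by
        rw [eq_inv_mul_iff_mul_eq, ← pow_add, Nat.sub_add_cancel hge]
      rw [e]; exact mul_mem (inv_mem hc') hω
  obtain ⟨ρ, m, hρ, hm⟩ := F1
  have hsq : ∀ x : P, x ^ 2 ∈ zpowers (a ^ 2) := by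
    intro x
    by_cases hx : x ∈ zpowers a
    · obtain ⟨i, rfl⟩ := Subgroup.mem_zpowers_iff.mp hx
      have e : (a ^ i) ^ 2 = (a ^ 2) ^ i := by
        rw [← zpow_natCast (a ^ i) 2, ← zpow_mul, ← zpow_natCast a 2, ← zpow_mul, mul_comm]
      rw [e]; exact Subgroup.zpow_mem_zpowers _ _
    · have hu : x * b⁻¹ ∈ zpowers a := by
        rw [Subgroup.mul_mem_iff_of_index_two hAi, inv_mem_iff]
        exact ⟨fun h => absurd h hx, fun h => absurd h hbA⟩
      obtain ⟨i, hi⟩ := Subgroup.mem_zpowers_iff.mp hu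
      have hxe : x = a ^ i * b := by rw [hi]; group
      have hconj : b * a ^ i * b⁻¹ = a ^ (ρ * i) := by
        rw [← conj_zpow, hρ, ← zpow_mul]
      have e : x ^ 2 = (a ^ 2) ^ (m * i) * b ^ 2 := by
        rw [hxe, pow_two]
        calc a ^ i * b * (a ^ i * b) = a ^ i * (b * a ^ i * b⁻¹) * (b * b) := by group
          _ = a ^ i * a ^ (ρ * i) * (b * b) := by rw [hconj]
          _ = (a ^ 2) ^ (m * i) * b ^ 2 := by
              rw [← zpow_add, ← zpow_natCast a 2, ← zpow_mul, pow_two]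
              congr 2
              have : ρ = 2 * m - 1 := by linarith
              rw [this]; push_cast; ring
      rw [e]; exact mul_mem (Subgroup.zpow_mem_zpowers _ _) F2
  have hCle : commutator P ≤ zpowers (a ^ 2) := by
    rw [commutator_eq_closure, Subgroup.closure_le]
    rintro _ ⟨g, h, rfl⟩
    have e : ⁅g, h⁆ = g ^ 2 * (g⁻¹ * h) ^ 2 * (h ^ 2)⁻¹ := by
      rw [commutatorElement_def, pow_two, pow_two, pow_two]; group
    rw [SetLike.mem_coe, e]
    exact mul_mem (mul_mem (hsq g) (hsq _)) (inv_mem (hsq h))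
  have hCeq : commutator P = zpowers (a ^ 2) :=
    le_antisymm hCle (by rw [Subgroup.zpowers_le]; exact F3)
  have hidx : (zpowers (a ^ 2)).index = 4 := by
    have ho : orderOf (a ^ 2) = 2 ^ (k' + 1) := by
      rw [orderOf_pow_of_dvd (by norm_num) (by rw [hk]; exact dvd_pow_self 2 (by omega)), hk]
      rw [pow_succ, Nat.mul_div_cancel _ (by norm_num : 0 < 2)]
    have h1 := Subgroup.card_mul_index (zpowers (a ^ 2))
    rw [Nat.card_zpowers, ho, hcard] at h1
    have h2 : 2 ^ (k' + 2 + 1) = 2 ^ (k' + 1) * 4 := by rw [pow_succ, pow_succ]; ring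
    rw [h2] at h1
    exact Nat.eq_of_mul_eq_mul_left (by positivity) h1
  have hK : K4Quot P := ⟨by rw [hCeq]; exact hidx, fun x => by rw [hCeq]; exact hsq x⟩
  have := maxclass_of_k4 (k' + 2 + 1) P (by omega) hcard hK
  rw [this]; omega

/-- A non-cyclic abelian normal subgroup of a `p`-group contains a normal elementary abelian
subgroup of order `p ^ 2`. -/
theorem exists_normal_ea_sq_of_abelian {R : Type u} [Group R] [Finite R] {p : ℕ} [Fact p.Prime]
    (hR : IsPGroup p R) (S : Subgroup R) (hSn : S.Normal)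
    (hScomm : ∀ u ∈ S, ∀ v ∈ S, u * v = v * u) (hSnc : ¬ IsCyclic S) :
    ∃ A : Subgroup R, A ≤ S ∧ A.Normal ∧ (∀ a ∈ A, ∀ b ∈ A, a * b = b * a) ∧
      (∀ a ∈ A, a ^ p = 1) ∧ Nat.card A = p ^ 2 := by
  have hpp : p.Prime := Fact.out
  let Ω : Subgroup R :=
    { carrier := {x | x ∈ S ∧ x ^ p = 1}
      mul_mem' := by
        rintro x y ⟨hx, hxp⟩ ⟨hy, hyp⟩
        refine ⟨S.mul_mem hx hy, ?_⟩
        have hc : Commute x y := hScomm x hx y hy
        rw [hc.mul_pow, hxp, hyp, one_mul]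
      one_mem' := ⟨S.one_mem, one_pow p⟩
      inv_mem' := by
        rintro x ⟨hx, hxp⟩
        exact ⟨S.inv_mem hx, by rw [inv_pow, hxp, inv_one]⟩ }
  have hΩmem : ∀ x, x ∈ Ω ↔ x ∈ S ∧ x ^ p = 1 := fun x => Iff.rfl
  have hΩn : Ω.Normal := ⟨fun x hx g => by
    rw [hΩmem] at hx ⊢
    exact ⟨hSn.conj_mem x hx.1 g, by rw [conj_pow, hx.2, mul_one, mul_inv_cancel]⟩⟩
  haveI : IsMulCommutative S := ⟨⟨fun a b => Subtype.ext (hScomm a a.2 b b.2)⟩⟩
  have hnc' : ¬ ∃ a ∈ S, (⊥ : Subgroup R) ⊔ zpowers a = S := by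
    rintro ⟨a, -, ha⟩
    rw [bot_sup_eq] at ha
    exact hSnc (S.isCyclic_iff_exists_zpowers_eq_top.mpr ⟨a, ha⟩)
  obtain ⟨r, hr, x, hxS, y, hyS, hxr, hyr, hx1, hyx⟩ :=
    Cfsg.Agent.Lib.helper9.exists_rank_two S ⊥ bot_le hnc'
  rw [Subgroup.mem_bot] at hxr hyr hx1
  rw [bot_sup_eq] at hyx
  have hrp : r = p := by
    haveI := Fact.mk hr
    have ho : orderOf x = r := orderOf_eq_prime hxr hx1
    obtain ⟨k, hk⟩ := hR x
    have : r ∣ p ^ k := by rw [← ho]; exact orderOf_dvd_of_pow_eq_one hk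
    exact (Nat.prime_dvd_prime_iff_eq hr hpp).mp (hr.dvd_of_dvd_pow this)
  rw [hrp] at hxr hyr
  have hxΩ : x ∈ Ω := ⟨hxS, hxr⟩
  have hyΩ : y ∈ Ω := ⟨hyS, hyr⟩
  obtain ⟨b, hb⟩ := IsPGroup.iff_card.mp (hR.to_subgroup Ω)
  have hxo : orderOf x = p := orderOf_eq_prime hxr hx1
  have hb2 : 2 ≤ b := by
    by_contra h
    have hb1 : b ≤ 1 := by omega
    have hle : Nat.card Ω ≤ Nat.card (zpowers x) := by
      rw [hb, Nat.card_zpowers, hxo]
      calc p ^ b ≤ p ^ 1 := Nat.pow_le_pow_right hpp.pos hb1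
        _ = p := pow_one p
    have heq : zpowers x = Ω :=
      Subgroup.eq_of_le_of_card_ge (by rw [Subgroup.zpowers_le]; exact hxΩ) hle
    exact hyx (by rw [heq]; exact hyΩ)
  obtain ⟨d, hd⟩ : ∃ d, b = 2 + d := ⟨b - 2, by omega⟩
  obtain ⟨V, hVΩ, hVn, hVc⟩ :=
    Cfsg.Agent.S0100.exists_normal_le_card hR 2 d Ω hΩn (by rw [hb, hd])
  exact ⟨V, fun x hx => (hVΩ hx).1, hVn,
    fun a ha b hb => hScomm a (hVΩ ha).1 b (hVΩ hb).1, fun a ha => (hVΩ ha).2, hVc⟩

/-- A non-abelian `2`-group of order `2 ^ n` has self-centralizing non-cyclic subgroups iff it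
has maximal class. -/
theorem two_group_self_centralizing_iff {G : Type u} [Group G] [Finite G]
    (hna : ¬ IsMulCommutative G) (n : ℕ) (hG : Nat.card G = 2 ^ n) :
    (∀ H : Subgroup G, ¬ IsCyclic ↥H → Subgroup.centralizer (H : Set G) ≤ H) ↔
      (⊤ : Subgroup G).lowerCentralSeries (n - 2) ≠ ⊥ := by
  haveI : Fact (Nat.Prime 2) := ⟨Nat.prime_two⟩
  have hP : IsPGroup 2 G := IsPGroup.of_card hG
  haveI : Group.IsNilpotent G := hP.isNilpotent
  have hcyccomm : IsCyclic G → False := by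
    intro hc
    apply hna
    obtain ⟨g, hg⟩ := IsCyclic.exists_generator (α := G)
    refine ⟨⟨fun a b => ?_⟩⟩
    obtain ⟨i, rfl⟩ := Subgroup.mem_zpowers_iff.mp (hg a)
    obtain ⟨j, rfl⟩ := Subgroup.mem_zpowers_iff.mp (hg b)
    exact zpow_mul_comm g i j
  have hn3 : 3 ≤ n := by
    by_contra h
    rcases (by omega : n = 0 ∨ n = 1 ∨ n = 2) with rfl | rfl | rfl
    · rw [pow_zero] at hG
      haveI : Subsingleton G := (Nat.card_eq_one_iff_unique.mp hG).1
      exact hcyccomm isCyclic_of_subsingleton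
    · rw [pow_one] at hG
      exact hcyccomm (isCyclic_of_prime_card hG)
    · exact hna (IsPGroup.isMulCommutative_of_card_eq_prime_sq hG)
  have hclass_le : Group.nilpotencyClass G ≤ n - 1 := class_le_of_card 2 n G (by omega) hG
  have hiff : (⊤ : Subgroup G).lowerCentralSeries (n - 2) ≠ ⊥ ↔
      Group.nilpotencyClass G = n - 1 := by
    rw [Ne, Subgroup.lowerCentralSeries_eq_bot_iff_nilpotencyClass_le]
    omega
  rw [hiff]
  constructor
  · intro h
    by_cases hV : ∃ V : Subgroup G, V.Normal ∧ Nat.card V = 2 ^ 2 ∧ ¬ IsCyclic V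
    · obtain ⟨V, hVn, hVcard, hVnc⟩ := hV
      haveI := hVn
      have hle := card_le_of_normal_sq hP V hVcard
      have hle2 : Nat.card (Subgroup.centralizer (V : Set G)) ≤ 2 ^ 2 := by
        rw [← hVcard]; exact Subgroup.card_le_of_le (h V hVnc)
      have h3 : 2 ^ n ≤ 2 ^ 3 := by
        rw [← hG]
        calc Nat.card G ≤ 2 * Nat.card (Subgroup.centralizer (V : Set G)) := hle
          _ ≤ 2 * 2 ^ 2 := Nat.mul_le_mul_left _ hle2
          _ = 2 ^ 3 := by norm_num
      have hn3' : n ≤ 3 := (Nat.pow_le_pow_iff_right (by norm_num)).mp h3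
      by_contra hne
      have h1 : Group.nilpotencyClass G ≤ 1 := by omega
      have hcen := center_eq_top_of_class_le_one h1
      apply hna
      refine ⟨⟨fun a b => ?_⟩⟩
      have ha : a ∈ center G := by rw [hcen]; trivial
      exact (Subgroup.mem_center_iff.mp ha b).symm
    · have hn' : ∀ A : Subgroup G, A.Normal → (∀ u ∈ A, ∀ v ∈ A, u * v = v * u) →
          IsCyclic A := by
        intro A hAn hAc
        by_contra hAnc
        obtain ⟨V, -, hVn, -, hVe, hVcard⟩ := exists_normal_ea_sq_of_abelian hP A hAn hAc hAnc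
        apply hV
        refine ⟨V, hVn, hVcard, ?_⟩
        intro hc
        obtain ⟨g, hg⟩ := V.isCyclic_iff_exists_zpowers_eq_top.mp hc
        have hgV : g ∈ V := by rw [← hg]; exact Subgroup.mem_zpowers g
        have h1 : orderOf g ∣ 2 := orderOf_dvd_of_pow_eq_one (hVe g hgV)
        have h2 : Nat.card V = orderOf g := by rw [← hg, Nat.card_zpowers]
        rw [hVcard] at h2
        have h3 := Nat.le_of_dvd (by norm_num) h1
        omega
      obtain ⟨A, hAn, hAab, hCA⟩ := exists_self_centralizing_normal hP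
      have hAcyc := hn' A hAn hAab
      obtain ⟨a, ha⟩ := A.isCyclic_iff_exists_zpowers_eq_top.mp hAcyc
      subst ha
      have hPA : ∃ y, y ∉ zpowers a := by
        by_contra hcon; push Not at hcon
        apply hcyccomm
        rw [isCyclic_iff_exists_zpowers_eq_top]
        exact ⟨a, (Subgroup.eq_top_iff' _).mpr hcon⟩
      obtain ⟨k, hk2, hk, hmemA⟩ := cyclic_self_centralizing_order 2 hP a hAn hCA hPA
      rcases two_group_cyclic_self_centralizing hP a k hk2 hk hAn hmemA hPA with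
        ⟨b, hb2, hbA, hk3, hba⟩ | ⟨hAi, b, hbA, hcases⟩
      · exfalso
        obtain ⟨k', rfl⟩ : ∃ k', k = k' + 1 := ⟨k - 1, by omega⟩
        rw [Nat.add_sub_cancel] at hba
        have hb1 : b ≠ 1 := by rintro rfl; exact hbA (one_mem _)
        have hbo : orderOf b = 2 := orderOf_eq_prime hb2 hb1
        have hωp : (a ^ (2 ^ k')) ^ 2 = 1 := by
          rw [← pow_mul, ← pow_succ, ← hk]; exact pow_orderOf_eq_one a
        have hω1 : a ^ (2 ^ k') ≠ 1 := by
          intro h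
          have h' := orderOf_dvd_of_pow_eq_one h
          rw [hk] at h'
          have := (Nat.pow_dvd_pow_iff_le_right (by norm_num : 1 < 2)).mp h'
          omega
        have hωo : orderOf (a ^ (2 ^ k')) = 2 := orderOf_eq_prime hωp hω1
        have hωA : zpowers (a ^ (2 ^ k')) ≤ zpowers a :=
          Subgroup.zpowers_le.mpr (Subgroup.npow_mem_zpowers a _)
        have hbω := modular_conj_omega 2 a b k' (by omega) hk hba
        have hEnc := sup_zpowers_not_cyclic b (a ^ (2 ^ k')) 2 hbo hωo (fun h => hbA (hωA h))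
        have hEc := sup_zpowers_comm b (a ^ (2 ^ k')) hbω
        have hCE := h _ hEnc
        have ha2 : a ^ 2 ∈ Subgroup.centralizer
            ((zpowers b ⊔ zpowers (a ^ (2 ^ k')) : Subgroup G) : Set G) := by
          have hle : zpowers b ⊔ zpowers (a ^ (2 ^ k')) ≤ Subgroup.centralizer {a ^ 2} := by
            refine sup_le ?_ ?_
            · rw [Subgroup.zpowers_le, Subgroup.mem_centralizer_iff]
              rintro y rfl
              have e : b * a ^ 2 * b⁻¹ = a ^ 2 := by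
                rw [← conj_pow, hba, ← pow_mul]
                have : (1 + 2 ^ k') * 2 = 2 + 2 ^ (k' + 1) := by ring
                rw [this, pow_add, ← hk, pow_orderOf_eq_one, mul_one]
              calc a ^ 2 * b = (b * a ^ 2 * b⁻¹) * b := by rw [e]
                _ = b * a ^ 2 := by group
            · rw [Subgroup.zpowers_le, Subgroup.mem_centralizer_iff]
              rintro y rfl
              rw [← pow_add, ← pow_add, add_comm]
          rw [Subgroup.mem_centralizer_iff]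
          intro x hx
          exact (Subgroup.mem_centralizer_iff.mp (hle hx) (a ^ 2) rfl).symm
        have ha2E := hCE ha2
        have hEsq : ∀ x ∈ zpowers b ⊔ zpowers (a ^ (2 ^ k')), x ^ 2 = 1 := by
          let E2 : Subgroup G :=
            { carrier := {x | x ∈ zpowers b ⊔ zpowers (a ^ (2 ^ k')) ∧ x ^ 2 = 1}
              mul_mem' := by
                rintro x y ⟨hx, hxp⟩ ⟨hy, hyp⟩
                refine ⟨mul_mem hx hy, ?_⟩
                have hc : Commute x y := hEc x hx y hy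
                rw [hc.mul_pow, hxp, hyp, one_mul]
              one_mem' := ⟨one_mem _, one_pow 2⟩
              inv_mem' := by
                rintro x ⟨hx, hxp⟩
                exact ⟨inv_mem hx, by rw [inv_pow, hxp, inv_one]⟩ }
          have hle : zpowers b ⊔ zpowers (a ^ (2 ^ k')) ≤ E2 := by
            refine sup_le ?_ ?_
            · rw [Subgroup.zpowers_le]
              exact ⟨Subgroup.mem_sup_left (Subgroup.mem_zpowers b), hb2⟩
            · rw [Subgroup.zpowers_le]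
              exact ⟨Subgroup.mem_sup_right (Subgroup.mem_zpowers _), hωp⟩
          intro x hx
          exact (hle hx).2
        have h4 : (a ^ 2) ^ 2 = 1 := hEsq _ ha2E
        rw [← pow_mul] at h4
        have h5 := orderOf_dvd_of_pow_eq_one h4
        rw [hk] at h5
        have h6 : 2 ^ (k' + 1) ≤ 2 * 2 := Nat.le_of_dvd (by norm_num) h5
        have h7 : 2 ^ 3 ≤ 2 ^ (k' + 1) := Nat.pow_le_pow_right (by norm_num) hk3
        omega
      · obtain ⟨hcard, hclass⟩ := maxclass_of_index_two_types a b k hk2 hk hAi hbA hcases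
        rw [hG] at hcard
        have hnk : n = k + 1 := Nat.pow_right_injective (le_refl 2) hcard
        rw [hclass, hnk]; omega
  · intro hc H hH c hcH
    obtain ⟨C, hCcyc, hCi⟩ := maxclass_two_cyclic n G hn3 hG hc
    obtain ⟨hZ2, -, -⟩ := maxclass_center 2 n hn3 hG hc
    haveI hCn : C.Normal := Subgroup.normal_of_index_eq_two hCi
    obtain ⟨a, ha⟩ := C.isCyclic_iff_exists_zpowers_eq_top.mp hCcyc
    have hCcomm : ∀ u ∈ C, ∀ v ∈ C, u * v = v * u := by
      intro u hu v hv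
      rw [← ha] at hu hv
      obtain ⟨i, rfl⟩ := Subgroup.mem_zpowers_iff.mp hu
      obtain ⟨j, rfl⟩ := Subgroup.mem_zpowers_iff.mp hv
      exact zpow_mul_comm a i j
    have hHC : ¬ H ≤ C := by
      intro hle
      apply hH
      haveI := hCcyc
      exact isCyclic_of_injective (Subgroup.inclusion hle) (Subgroup.inclusion_injective hle)
    obtain ⟨h, hhH, hhC⟩ : ∃ h, h ∈ H ∧ h ∉ C := by
      by_contra hcon; push Not at hcon; exact hHC hcon
    have hHC1 : H ⊓ C ≠ ⊥ := by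
      intro hbot
      apply hH
      have hall : ∀ x ∈ H, x ∈ zpowers h := by
        intro x hx
        by_cases hxC : x ∈ C
        · have : x ∈ H ⊓ C := ⟨hx, hxC⟩
          rw [hbot, Subgroup.mem_bot] at this
          rw [this]; exact one_mem _
        · have h1 : x * h⁻¹ ∈ C := by
            rw [Subgroup.mul_mem_iff_of_index_two hCi, inv_mem_iff]
            exact ⟨fun h' => absurd h' hxC, fun h' => absurd h' hhC⟩
          have h2 : x * h⁻¹ ∈ H ⊓ C := ⟨H.mul_mem hx (H.inv_mem hhH), h1⟩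
          rw [hbot, Subgroup.mem_bot] at h2
          have : x = h := by rw [mul_inv_eq_one] at h2; exact h2
          rw [this]; exact Subgroup.mem_zpowers h
      have heq : zpowers h = H := le_antisymm (by rw [Subgroup.zpowers_le]; exact hhH) hall
      exact H.isCyclic_iff_exists_zpowers_eq_top.mpr ⟨h, heq⟩
    have hC1 : C ≠ ⊥ := by
      rintro rfl
      rw [Subgroup.index_bot, hG] at hCi
      have : 2 ^ 3 ≤ 2 ^ n := Nat.pow_le_pow_right (by norm_num) hn3
      omega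
    have hZC : center G ≤ C := le_of_inf_ne_bot_of_card_two C (center G) hZ2
      (Cfsg.Agent.S0065.normal_inf_center_ne_bot C hC1)
    obtain ⟨z, hz⟩ := exists_prime_orderOf_dvd_card' (G := center G) 2 (by rw [hZ2])
    have hzo : orderOf (z : G) = 2 := by rw [Subgroup.orderOf_coe]; exact hz
    have hZeq : zpowers (z : G) = center G := by
      apply Subgroup.eq_of_le_of_card_ge (by rw [Subgroup.zpowers_le]; exact z.2)
      rw [Nat.card_zpowers, hzo, hZ2]
    have h1 : 1 < Nat.card (H ⊓ C : Subgroup G) := (Subgroup.one_lt_card_iff_ne_bot _).mpr hHC1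
    obtain ⟨b, hb⟩ := IsPGroup.iff_card.mp (hP.to_subgroup (H ⊓ C))
    have hb0 : b ≠ 0 := by rintro rfl; rw [pow_zero] at hb; omega
    have hdvd : 2 ∣ Nat.card (H ⊓ C : Subgroup G) := by rw [hb]; exact dvd_pow_self 2 hb0
    obtain ⟨w, hw⟩ := exists_prime_orderOf_dvd_card' 2 hdvd
    have hwo : orderOf (w : G) = 2 := by rw [Subgroup.orderOf_coe]; exact hw
    have hwz : (w : G) = z :=
      Cfsg.Agent.Lib.helper2.Idx2.invol_unique_sub C hCcyc w.2.2 (hZC z.2) hwo hzo
    have hzH : (z : G) ∈ H := by rw [← hwz]; exact w.2.1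
    have hZH : center G ≤ H := by rw [← hZeq, Subgroup.zpowers_le]; exact hzH
    have hch : h * c = c * h := Subgroup.mem_centralizer_iff.mp hcH h hhH
    by_cases hcC : c ∈ C
    · exact hZH (mem_center_of_index_two C hCi hCcomm h hhC c hcC hch.symm)
    · have h1 : c * h⁻¹ ∈ C := by
        rw [Subgroup.mul_mem_iff_of_index_two hCi, inv_mem_iff]
        exact ⟨fun h' => absurd h' hcC, fun h' => absurd h' hhC⟩
      have h2 : (c * h⁻¹) * h = h * (c * h⁻¹) := by
        rw [inv_mul_cancel_right, ← mul_assoc, hch, mul_inv_cancel_right]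
      have h3 := hZH (mem_center_of_index_two C hCi hCcomm h hhC (c * h⁻¹) h1 h2)
      have : c = (c * h⁻¹) * h := by group
      rw [this]; exact H.mul_mem h3 hhH

/-- The modular configuration: `Ω₁(C(⟨a ^ p⟩))` is a characteristic elementary abelian
subgroup of order `p ^ 2`. -/
theorem modular_config_omega {G : Type u} [Group G] [Finite G] {p : ℕ} [Fact p.Prime]
    (hG : IsPGroup p G) (a b : G) (n : ℕ) (hn : 2 ≤ n) (horda : orderOf a = p ^ n)
    (hAn : (zpowers a).Normal) (hmemA : ∀ g : G, g * a = a * g → g ∈ zpowers a)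
    (hbp : b ^ p = 1) (hbA : b ∉ zpowers a) (hba : b * a * b⁻¹ = a ^ (1 + p ^ (n - 1)))
    (hkc : ∀ c ∈ zpowers a, ∀ i : ℕ, (c * b ^ i) ^ p = 1 → c ∈ zpowers (a ^ (p ^ (n - 1)))) :
    (zpowers a).relIndex (Subgroup.centralizer (zpowers (a ^ p) : Set G)) = p ∧
    Cfsg.IsElementaryAbelian p
      (Cfsg.omegaOne p (Subgroup.centralizer (zpowers (a ^ p) : Set G))) ∧
    Nat.card (Cfsg.omegaOne p (Subgroup.centralizer (zpowers (a ^ p) : Set G))) = p ^ 2 ∧
    (Cfsg.omegaOne p (Subgroup.centralizer (zpowers (a ^ p) : Set G))).Characteristic := by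
  have hpp : p.Prime := Fact.out
  haveI := hAn
  obtain ⟨n', rfl⟩ : ∃ n', n = n' + 1 := ⟨n - 1, by omega⟩
  rw [Nat.add_sub_cancel] at hba hkc
  obtain ⟨ω, hωdef⟩ : ∃ ω : G, ω = a ^ (p ^ n') := ⟨_, rfl⟩
  rw [← hωdef] at hkc
  obtain ⟨M, hMdef⟩ : ∃ M : Subgroup G, M = Subgroup.centralizer (zpowers (a ^ p) : Set G) :=
    ⟨_, rfl⟩
  rw [← hMdef]
  have haA : a ∈ zpowers a := Subgroup.mem_zpowers a
  have hapow : a ^ (p ^ (n' + 1)) = 1 := by rw [← horda]; exact pow_orderOf_eq_one a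
  have hMmem : ∀ g : G, g ∈ M ↔ g * a ^ p = a ^ p * g := by
    intro g
    rw [hMdef, Subgroup.mem_centralizer_iff]
    constructor
    · intro h; exact (h (a ^ p) (Subgroup.mem_zpowers _)).symm
    · intro h x hx
      obtain ⟨i, rfl⟩ := Subgroup.mem_zpowers_iff.mp hx
      have hc : Commute g (a ^ p) := h
      exact (hc.zpow_right i).eq.symm
  have hUM : zpowers a ≤ M := by
    rw [Subgroup.zpowers_le, hMmem, ← pow_succ, ← pow_succ']
  have hbM : b ∈ M := by
    rw [hMmem]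
    have e : b * a ^ p * b⁻¹ = a ^ p := by
      rw [← conj_pow, hba, ← pow_mul]
      have : (1 + p ^ n') * p = p + p ^ (n' + 1) := by ring
      rw [this, pow_add, hapow, mul_one]
    calc b * a ^ p = (b * a ^ p * b⁻¹) * b := by group
      _ = a ^ p * b := by rw [e]
  have hωp : ω ^ p = 1 := by rw [hωdef, ← pow_mul, ← pow_succ]; exact hapow
  have hω1 : ω ≠ 1 := by
    intro h
    rw [hωdef] at h
    have h' := orderOf_dvd_of_pow_eq_one h
    rw [horda] at h'
    have := (Nat.pow_dvd_pow_iff_le_right hpp.one_lt).mp h'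
    omega
  have hωo : orderOf ω = p := orderOf_eq_prime hωp hω1
  have hωU : ω ∈ zpowers a := by rw [hωdef]; exact Subgroup.npow_mem_zpowers a _
  have hωle : zpowers ω ≤ zpowers a := Subgroup.zpowers_le.mpr hωU
  have hωap : ω ∈ zpowers (a ^ p) := by
    obtain ⟨j, rfl⟩ : ∃ j, n' = j + 1 := ⟨n' - 1, by omega⟩
    rw [hωdef, pow_succ', pow_mul]; exact Subgroup.npow_mem_zpowers _ _
  have hbω : b * ω = ω * b := by
    rw [hωdef]; exact modular_conj_omega p a b n' (by omega) horda hba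
  have hUc : Nat.card (zpowers a) = p ^ (n' + 1) := by rw [Nat.card_zpowers, horda]
  have hcardM : Nat.card M = p * Nat.card (zpowers a) := by
    apply le_antisymm
    · have hle := Cfsg.Agent.S0100.card_le_of_comm_hom M (zpowers ω) a
        (fun u hu v hv => by
          obtain ⟨i, rfl⟩ := Subgroup.mem_zpowers_iff.mp hu
          obtain ⟨j, rfl⟩ := Subgroup.mem_zpowers_iff.mp hv
          exact zpow_mul_comm ω i j)
        (fun e he u hu => by
          have hu' : u ∈ zpowers (a ^ p) := (Subgroup.zpowers_le.mpr hωap) hu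
          rw [hMdef] at he
          exact (Subgroup.mem_centralizer_iff.mp he u hu').symm)
        (fun e he => by
          obtain ⟨r, hr⟩ := Subgroup.mem_zpowers_iff.mp (hAn.conj_mem a haA e)
          have h1 : a ^ (r * p) = a ^ (p : ℤ) := by
            rw [zpow_mul, hr, zpow_natCast, conj_pow]
            have := (hMmem e).mp he
            rw [this, mul_inv_cancel_right, zpow_natCast]
          have h2 : a ^ (r * p - p) = 1 := by rw [zpow_sub, h1, mul_inv_cancel]
          have h3 : (p : ℤ) ^ (n' + 1) ∣ r * p - p := by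
            have := orderOf_dvd_iff_zpow_eq_one.mpr h2
            rw [horda] at this
            exact_mod_cast this
          have h4 : (p : ℤ) ^ n' ∣ r - 1 := by
            have e : r * p - p = (r - 1) * p := by ring
            rw [e, pow_succ] at h3
            exact Int.dvd_of_mul_dvd_mul_right (by exact_mod_cast hpp.pos.ne') h3
          obtain ⟨m, hm⟩ := h4
          rw [← hr]
          have e1 : r = ((p ^ n' : ℕ) : ℤ) * m + 1 := by push_cast; linarith
          have e : a ^ r * a⁻¹ = ω ^ m := by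
            rw [e1, zpow_add, zpow_one, mul_inv_cancel_right, zpow_mul, zpow_natCast, hωdef]
          rw [e]; exact Subgroup.zpow_mem_zpowers _ _)
      rw [Nat.card_zpowers ω, hωo] at hle
      refine le_trans hle (Nat.mul_le_mul_left _ (Subgroup.card_le_of_le ?_))
      intro g hg
      exact hmemA g (Subgroup.mem_centralizer_iff.mp hg.2 a rfl).symm
    · have hlt : zpowers a < M := lt_of_le_of_ne hUM (fun h => hbA (by rw [h]; exact hbM))
      obtain ⟨j, hj⟩ := IsPGroup.iff_card.mp (hG.to_subgroup M)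
      have hjn : n' + 1 < j := by
        by_contra hle; push Not at hle
        have : Nat.card M ≤ Nat.card (zpowers a) := by
          rw [hj, hUc]; exact Nat.pow_le_pow_right hpp.pos hle
        exact hlt.ne (Subgroup.eq_of_le_of_card_ge hUM this)
      rw [hj, hUc, ← pow_succ']
      exact Nat.pow_le_pow_right hpp.pos hjn
  have hrel : (zpowers a).relIndex M = p := by
    have h1 : (zpowers a).relIndex M * Nat.card (zpowers a) = Nat.card M := by
      have h2 := Subgroup.card_mul_index ((zpowers a).subgroupOf M)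
      rw [Nat.card_congr (Subgroup.subgroupOfEquivOfLe hUM).toEquiv] at h2
      rw [Subgroup.relIndex, mul_comm]; exact h2
    rw [hcardM] at h1
    exact Nat.eq_of_mul_eq_mul_right Nat.card_pos h1
  have hMsup : M = zpowers a ⊔ zpowers b := by
    symm
    apply Subgroup.eq_of_le_of_card_ge (sup_le hUM (by rw [Subgroup.zpowers_le]; exact hbM))
    obtain ⟨j, hj⟩ := IsPGroup.iff_card.mp (hG.to_subgroup (zpowers a ⊔ zpowers b))
    have hjn : n' + 1 < j := by
      by_contra hle; push Not at hle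
      have : Nat.card (zpowers a ⊔ zpowers b : Subgroup G) ≤ Nat.card (zpowers a) := by
        rw [hj, hUc]; exact Nat.pow_le_pow_right hpp.pos hle
      have heq : zpowers a = zpowers a ⊔ zpowers b :=
        Subgroup.eq_of_le_of_card_ge le_sup_left this
      exact hbA (by rw [heq]; exact Subgroup.mem_sup_right (Subgroup.mem_zpowers b))
    rw [hcardM, hj, hUc, ← pow_succ']
    exact Nat.pow_le_pow_right hpp.pos hjn
  have hdecomp : ∀ x ∈ M, ∃ c ∈ zpowers a, ∃ i : ℕ, x = c * b ^ i := by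
    intro x hx
    rw [hMsup] at hx
    have hx' : x ∈ ((zpowers a ⊔ zpowers b : Subgroup G) : Set G) := hx
    rw [Subgroup.normal_mul] at hx'
    obtain ⟨c, hc, d, hd, rfl⟩ := Set.mem_mul.mp hx'
    have hd' : d ∈ Submonoid.powers b := by
      rw [mem_powers_iff_mem_zpowers]; exact hd
    obtain ⟨i, rfl⟩ := (Submonoid.mem_powers_iff _ _).mp hd'
    exact ⟨c, hc, i, rfl⟩
  have hE : ∀ x ∈ M, x ^ p = 1 → x ∈ zpowers b ⊔ zpowers ω := by
    intro x hx hxp
    obtain ⟨c, hc, i, rfl⟩ := hdecomp x hx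
    have := hkc c hc i hxp
    exact mul_mem (Subgroup.mem_sup_right this)
      (Subgroup.mem_sup_left (Subgroup.npow_mem_zpowers b i))
  have hEM : zpowers b ⊔ zpowers ω ≤ M :=
    sup_le (Subgroup.zpowers_le.mpr hbM) (Subgroup.zpowers_le.mpr (hUM hωU))
  have hΩeq : Cfsg.omegaOne p M = zpowers b ⊔ zpowers ω := by
    apply le_antisymm
    · unfold Cfsg.omegaOne
      rw [Subgroup.closure_le]
      rintro x ⟨hx, hxp⟩
      exact hE x hx hxp
    · refine sup_le ?_ ?_
      · rw [Subgroup.zpowers_le]; exact Subgroup.subset_closure ⟨hbM, hbp⟩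
      · rw [Subgroup.zpowers_le]; exact Subgroup.subset_closure ⟨hUM hωU, hωp⟩
  have hEc := sup_zpowers_comm b ω hbω
  have hEp : ∀ x ∈ zpowers b ⊔ zpowers ω, x ^ p = 1 := by
    let E2 : Subgroup G :=
      { carrier := {x | x ∈ zpowers b ⊔ zpowers ω ∧ x ^ p = 1}
        mul_mem' := by
          rintro x y ⟨hx, hxp⟩ ⟨hy, hyp⟩
          refine ⟨mul_mem hx hy, ?_⟩
          have hc : Commute x y := hEc x hx y hy
          rw [hc.mul_pow, hxp, hyp, one_mul]
        one_mem' := ⟨one_mem _, one_pow p⟩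
        inv_mem' := by
          rintro x ⟨hx, hxp⟩
          exact ⟨inv_mem hx, by rw [inv_pow, hxp, inv_one]⟩ }
    have hle : zpowers b ⊔ zpowers ω ≤ E2 := by
      refine sup_le ?_ ?_
      · rw [Subgroup.zpowers_le]
        exact ⟨Subgroup.mem_sup_left (Subgroup.mem_zpowers b), hbp⟩
      · rw [Subgroup.zpowers_le]
        exact ⟨Subgroup.mem_sup_right (Subgroup.mem_zpowers _), hωp⟩
    intro x hx
    exact (hle hx).2
  have hEcard : Nat.card (zpowers b ⊔ zpowers ω : Subgroup G) = p ^ 2 := by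
    obtain ⟨E, hEdef⟩ : ∃ E : Subgroup G, E = zpowers b ⊔ zpowers ω := ⟨_, rfl⟩
    rw [← hEdef] at hEM hEp ⊢
    obtain ⟨j, hj⟩ := IsPGroup.iff_card.mp (hG.to_subgroup E)
    have hj2 : 2 ≤ j := by
      by_contra h
      have hj1 : j ≤ 1 := by omega
      have hle : Nat.card E ≤ Nat.card (zpowers ω) := by
        rw [hj, Nat.card_zpowers, hωo]
        calc p ^ j ≤ p ^ 1 := Nat.pow_le_pow_right hpp.pos hj1
          _ = p := pow_one p
      have heq : zpowers ω = E :=
        Subgroup.eq_of_le_of_card_ge (by rw [hEdef]; exact le_sup_right) hle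
      exact hbA (hωle (by
        rw [heq, hEdef]; exact Subgroup.mem_sup_left (Subgroup.mem_zpowers b)))
    have hEU : E ⊓ zpowers a ≤ zpowers ω := by
      intro x hx
      exact hkc x hx.2 0 (by rw [pow_zero, mul_one]; exact hEp x hx.1)
    have h1 : (E ⊓ zpowers a).relIndex E * Nat.card (E ⊓ zpowers a : Subgroup G) =
        Nat.card E := by
      have h2 := Subgroup.card_mul_index ((E ⊓ zpowers a).subgroupOf E)
      rw [Nat.card_congr
        (Subgroup.subgroupOfEquivOfLe (inf_le_left : E ⊓ zpowers a ≤ E)).toEquiv] at h2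
      rw [Subgroup.relIndex, mul_comm]; exact h2
    have h3 : (E ⊓ zpowers a).relIndex E ≤ p := by
      rw [Subgroup.inf_relIndex_left, ← hrel]
      exact Subgroup.relIndex_le_of_le_right hEM (by rw [hrel]; exact hpp.pos.ne')
    have h4 : Nat.card (E ⊓ zpowers a : Subgroup G) ≤ p := by
      have := Subgroup.card_le_of_le hEU
      rwa [Nat.card_zpowers, hωo] at this
    have h5 : Nat.card E ≤ p ^ 2 := by
      rw [← h1, pow_two]; exact Nat.mul_le_mul h3 h4
    apply le_antisymm h5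
    rw [hj]; exact Nat.pow_le_pow_right hpp.pos hj2
  have hEn : (zpowers b ⊔ zpowers ω).Normal := by
    constructor
    intro x hx g
    apply hE
    · rw [hMmem]
      have hxM := (hMmem x).mp (hEM hx)
      obtain ⟨r, hr⟩ := Subgroup.mem_zpowers_iff.mp (hAn.conj_mem a haA g⁻¹)
      have hq : g⁻¹ * a ^ p * g = (a ^ p) ^ r := by
        have : g⁻¹ * a ^ p * g = (g⁻¹ * a * g⁻¹⁻¹) ^ p := by rw [conj_pow, inv_inv]
        rw [this, ← hr, ← zpow_natCast (a ^ r) p, ← zpow_mul, mul_comm, zpow_mul, zpow_natCast]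
      have hxq : x * (a ^ p) ^ r = (a ^ p) ^ r * x := by
        have hc : Commute x (a ^ p) := hxM
        exact (hc.zpow_right r).eq
      calc g * x * g⁻¹ * a ^ p = g * (x * (g⁻¹ * a ^ p * g)) * g⁻¹ := by group
        _ = g * (x * (a ^ p) ^ r) * g⁻¹ := by rw [hq]
        _ = g * ((a ^ p) ^ r * x) * g⁻¹ := by rw [hxq]
        _ = g * ((g⁻¹ * a ^ p * g) * x) * g⁻¹ := by rw [hq]
        _ = a ^ p * (g * x * g⁻¹) := by group
    · rw [conj_pow, hEp x hx, mul_one, mul_inv_cancel]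
  have hchar : (zpowers b ⊔ zpowers ω).Characteristic := by
    rw [Subgroup.characteristic_iff_map_le]
    intro φ x hx
    obtain ⟨y, hy, hyx⟩ := Subgroup.mem_map.mp hx
    obtain ⟨v, hv⟩ : ∃ v, v = φ y := ⟨_, rfl⟩
    have hvx : x = v := by rw [hv, ← hyx]; rfl
    rw [hvx]
    have hφE : ∀ y' ∈ zpowers b ⊔ zpowers ω, ∀ g : G, ∃ y'' ∈ zpowers b ⊔ zpowers ω,
        g * φ y' * g⁻¹ = φ y'' := by
      intro y' hy' g
      refine ⟨φ.symm g * y' * (φ.symm g)⁻¹, hEn.conj_mem y' hy' _, ?_⟩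
      rw [map_mul, map_mul, map_inv, MulEquiv.apply_symm_apply]
    obtain ⟨y₁, hy₁, hy₁e⟩ := hφE y⁻¹ (inv_mem hy) a
    have hcp : (v * a * v⁻¹ * a⁻¹) ^ p = 1 := by
      have e : v * a * v⁻¹ * a⁻¹ = φ (y * y₁) := by
        rw [map_mul, ← hy₁e, map_inv, ← hv]; group
      rw [e, ← map_pow, hEp _ (mul_mem hy hy₁), map_one]
    have hcU : v * a * v⁻¹ * a⁻¹ ∈ zpowers a := mul_mem (hAn.conj_mem a haA v) (inv_mem haA)
    have hcω := hkc _ hcU 0 (by rw [pow_zero, mul_one]; exact hcp)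
    apply hE
    · rw [hMmem]
      obtain ⟨j, hj⟩ := Subgroup.mem_zpowers_iff.mp hcω
      have h1 : v * a * v⁻¹ = ω ^ j * a := by rw [hj]; group
      have h2 : v * a ^ p * v⁻¹ = a ^ p := by
        rw [← conj_pow, h1]
        have hc : Commute (ω ^ j) a := by
          have : Commute ω a := by
            rw [hωdef]; exact (Commute.refl a).pow_left _
          exact this.zpow_left j
        rw [hc.mul_pow, ← zpow_natCast (ω ^ j) p, ← zpow_mul, mul_comm, zpow_mul, zpow_natCast,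
          hωp, one_zpow, one_mul]
      calc v * a ^ p = (v * a ^ p * v⁻¹) * v := by group
        _ = a ^ p * v := by rw [h2]
    · rw [hv, ← map_pow, hEp y hy, map_one]
  rw [hΩeq]
  exact ⟨hrel, ⟨⟨⟨fun x y => Subtype.ext (hEc x x.2 y y.2)⟩⟩, hEp⟩, hEcard, hchar⟩

/-- A non-abelian `p`-group with a self-centralizing cyclic normal subgroup. -/
theorem pgroup_cyclic_self_centralizing {G : Type u} [Group G] [Finite G] {p : ℕ}
    [Fact p.Prime] (hG : IsPGroup p G) (hna : ¬ IsMulCommutative G) (U : Subgroup G)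
    [hUn : U.Normal] (hU : IsCyclic U) (n : ℕ) (hUn' : Nat.card U = p ^ n)
    (hC : Subgroup.centralizer (U : Set G) = U) :
    (p = 2 ∧ Nat.card G = 2 ^ (n + 1) ∧ ((∃ m : ℕ, Nonempty (G ≃* DihedralGroup m)) ∨
        (∃ m : ℕ, Nonempty (G ≃* QuaternionGroup m)) ∨ Cfsg.IsQuasiDihedral G)) ∨
      (U.relIndex (Subgroup.centralizer (Cfsg.powerClosure p 1 U : Set G)) = p ∧
        Cfsg.IsElementaryAbelian p
          (Cfsg.omegaOne p (Subgroup.centralizer (Cfsg.powerClosure p 1 U : Set G))) ∧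
        Nat.card ↥(Cfsg.omegaOne p (Subgroup.centralizer (Cfsg.powerClosure p 1 U : Set G))) =
          p ^ 2 ∧
        (Cfsg.omegaOne p
          (Subgroup.centralizer (Cfsg.powerClosure p 1 U : Set G))).Characteristic) := by
  classical
  have hpp : p.Prime := Fact.out
  obtain ⟨a, ha⟩ := U.isCyclic_iff_exists_zpowers_eq_top.mp hU
  subst ha
  have hPA : ∃ y, y ∉ zpowers a := by
    by_contra hcon; push Not at hcon
    apply hna
    refine ⟨⟨fun x y => ?_⟩⟩
    obtain ⟨i, rfl⟩ := Subgroup.mem_zpowers_iff.mp (hcon x)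
    obtain ⟨j, rfl⟩ := Subgroup.mem_zpowers_iff.mp (hcon y)
    exact zpow_mul_comm a i j
  obtain ⟨k, hk2, hk, hmemA⟩ := cyclic_self_centralizing_order p hG a hUn hC hPA
  have hkn : k = n := by
    rw [Nat.card_zpowers, hk] at hUn'
    exact Nat.pow_right_injective hpp.two_le hUn'
  subst hkn
  have hpc : Cfsg.powerClosure p 1 (zpowers a) = zpowers (a ^ p) := by
    unfold Cfsg.powerClosure
    apply le_antisymm
    · rw [Subgroup.closure_le]
      rintro y ⟨x, hx, rfl⟩
      obtain ⟨i, rfl⟩ := Subgroup.mem_zpowers_iff.mp hx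
      rw [pow_one, SetLike.mem_coe, ← zpow_natCast (a ^ i) p, ← zpow_mul, mul_comm, zpow_mul,
        zpow_natCast]
      exact Subgroup.zpow_mem_zpowers _ _
    · rw [Subgroup.zpowers_le]
      exact Subgroup.subset_closure ⟨a, Subgroup.mem_zpowers a, by rw [pow_one]⟩
  rw [hpc]
  by_cases hp2 : p = 2
  · subst hp2
    rcases two_group_cyclic_self_centralizing hG a k hk2 hk hUn hmemA hPA with
      ⟨b, hb2, hbA, hk3, hba⟩ | ⟨hAi, b, hbA, hcases⟩
    · right
      apply modular_config_omega hG a b k hk2 hk hUn hmemA hb2 hbA hba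
      intro c hc i hci
      obtain ⟨k', rfl⟩ : ∃ k', k = k' + 1 := ⟨k - 1, by omega⟩
      rw [Nat.add_sub_cancel] at hba ⊢
      have hkc := kc_two a b k' (by omega) hk hb2 hba c hc
      rcases Nat.even_or_odd' i with ⟨m, rfl | rfl⟩
      · rw [pow_mul, hb2, one_pow, mul_one] at hci
        exact hkc.1 hci
      · have e : b ^ (2 * m + 1) = b := by rw [pow_succ, pow_mul, hb2, one_pow, one_mul]
        rw [e] at hci
        exact hkc.2 hci
    · left
      obtain ⟨hcard, hiso⟩ := two_group_types_of_index_two a b k hk2 hk hAi hbA hcases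
      exact ⟨rfl, hcard, hiso⟩
  · right
    obtain ⟨y, hy⟩ := hPA
    obtain ⟨N, hN⟩ := hG y
    have hex : ∃ j, y ^ p ^ j ∈ zpowers a := ⟨N, by rw [hN]; exact one_mem _⟩
    have hj : y ^ p ^ (Nat.find hex) ∈ zpowers a := Nat.find_spec hex
    have hj0 : Nat.find hex ≠ 0 := by
      intro h0; rw [h0, pow_zero, pow_one] at hj; exact hy hj
    obtain ⟨j', hj'⟩ : ∃ j', Nat.find hex = j' + 1 := ⟨Nat.find hex - 1, by omega⟩
    have hb₀A : y ^ p ^ j' ∉ zpowers a := Nat.find_min hex (by omega)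
    rw [hj'] at hj
    obtain ⟨b₀, hb₀⟩ : ∃ b₀, b₀ = y ^ p ^ j' := ⟨_, rfl⟩
    rw [← hb₀] at hb₀A
    have hb₀p : b₀ ^ p ∈ zpowers a := by rw [hb₀, ← pow_mul, ← pow_succ]; exact hj
    obtain ⟨r, hr⟩ := Subgroup.mem_zpowers_iff.mp (hUn.conj_mem a (Subgroup.mem_zpowers a) b₀)
    obtain ⟨s, hs⟩ := Subgroup.mem_zpowers_iff.mp hb₀p
    obtain ⟨k', rfl⟩ : ∃ k', k = k' + 2 := ⟨k - 2, by omega⟩
    obtain ⟨b, hbp, hbA, hba⟩ := exists_order_p_modular hp2 a b₀ k' hk r s hr hs
      (fun h => hb₀A (hmemA b₀ h)) hb₀A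
    have e1 : k' + 2 - 1 = k' + 1 := by omega
    apply modular_config_omega hG a b (k' + 2) hk2 hk hUn hmemA hbp hbA
    · rw [e1]; exact hba
    · intro c hc i hci
      rw [e1]
      exact kc_odd p hp2 a b (k' + 1) (by omega) hk hbp hba c hc i hci

end Cfsg.Agent.Lib.helper1
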