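import Mathlib
import Cfsg.Prelude.Def_PLocal

/-!
# Uniserial actions of `p`-groups (seat helper1)

`G` and `N` are `p`-subgroups of an ambient finite group `L`, `G` normalizing `N`, `|N| = p^n`.
`UChain p N G n` : the iterated commutator chain `N_i = [N, G; i]` has `|N_i| = p^(n-i)` for
`i ≤ n`.  Then all `N_i` are normal in `N`, and they are the only `G`-invariant subgroups of `N`.
-/

set_option autoImplicit false

namespace Cfsg.Agent.Lib.helper1

open Subgroup
open scoped commutatorElement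

section basic

variable {L : Type*} [Group L]

theorem conj_mem_of_normalizer_uni {H : Subgroup L} {g x : L}
    (hg : g ∈ normalizer (H : Set L)) (hx : x ∈ H) : g * x * g⁻¹ ∈ H :=
  (Subgroup.mem_normalizer_iff.1 hg x).1 hx

theorem conj_mem_of_normalizer_uni' {H : Subgroup L} {g x : L}
    (hg : g ∈ normalizer (H : Set L)) (hx : x ∈ H) : g⁻¹ * x * g ∈ H := by
  have h1 := (Subgroup.mem_normalizer_iff.1 (Subgroup.inv_mem _ hg) x).1 hx
  simpa using h1

theorem le_normalizer_of_conj_uni {A H : Subgroup L}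
    (h : ∀ g ∈ A, ∀ x ∈ H, g * x * g⁻¹ ∈ H) : A ≤ normalizer (H : Set L) := by
  intro g hg
  rw [Subgroup.mem_normalizer_iff]
  intro x
  refine ⟨h g hg x, fun hx => ?_⟩
  have h1 := h g⁻¹ (A.inv_mem hg) _ hx
  simpa [mul_assoc] using h1

theorem le_normalizer_commutator_uni {A B P : Subgroup L}
    (hA : P ≤ normalizer (A : Set L)) (hB : P ≤ normalizer (B : Set L)) :
    P ≤ normalizer ((⁅A, B⁆ : Subgroup L) : Set L) := by
  apply le_normalizer_of_conj_uni
  intro g hg x hx
  have h1 : (MulAut.conj g).toMonoidHom x ∈ (⁅A, B⁆).map (MulAut.conj g).toMonoidHom :=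
    Subgroup.mem_map_of_mem _ hx
  rw [Subgroup.map_commutator] at h1
  have h2 : A.map (MulAut.conj g).toMonoidHom ≤ A := by
    rintro _ ⟨a, ha, rfl⟩
    exact conj_mem_of_normalizer_uni (hA hg) ha
  have h3 : B.map (MulAut.conj g).toMonoidHom ≤ B := by
    rintro _ ⟨a, ha, rfl⟩
    exact conj_mem_of_normalizer_uni (hB hg) ha
  have h4 := Subgroup.commutator_mono h2 h3 h1
  simpa [MulAut.conj_apply] using h4

theorem commutator_le_of_normalizer_uni {H G : Subgroup L}
    (hGH : G ≤ normalizer (H : Set L)) : ⁅H, G⁆ ≤ H := by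
  rw [Subgroup.commutator_le]
  intro h hh g hg
  rw [commutatorElement_def]
  have h1 := conj_mem_of_normalizer_uni (hGH hg) (H.inv_mem hh)
  have e : h * g * h⁻¹ * g⁻¹ = h * (g * h⁻¹ * g⁻¹) := by group
  rw [e]; exact H.mul_mem hh h1

theorem le_lcs_of_comm_eq_uni {H G K : Subgroup L} (hHK : H ≤ K) (hGK : G ≤ K)
    (h : ⁅H, G⁆ = H) (i : ℕ) : H ≤ K.lowerCentralSeries i := by
  induction i with
  | zero => exact hHK
  | succ i ih =>
    calc H = ⁅H, G⁆ := h.symm
      _ ≤ ⁅K.lowerCentralSeries i, K⁆ := Subgroup.commutator_mono ih hGK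
      _ = K.lowerCentralSeries (i + 1) := rfl

theorem mem_sup_of_le_normalizer_uni {A B : Subgroup L} (h : A ≤ normalizer (B : Set L))
    {y : L} (hy : y ∈ A ⊔ B) : ∃ a ∈ A, ∃ b ∈ B, y = a * b := by
  let T : Subgroup L :=
    { carrier := {y | ∃ a ∈ A, ∃ b ∈ B, y = a * b}
      one_mem' := ⟨1, A.one_mem, 1, B.one_mem, by simp⟩
      mul_mem' := by
        rintro _ _ ⟨a, ha, b, hb, rfl⟩ ⟨a', ha', b', hb', rfl⟩
        exact ⟨a * a', A.mul_mem ha ha', (a'⁻¹ * b * a') * b',
          B.mul_mem (conj_mem_of_normalizer_uni' (h ha') hb) hb', by group⟩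
      inv_mem' := by
        rintro _ ⟨a, ha, b, hb, rfl⟩
        exact ⟨a⁻¹, A.inv_mem ha, a * b⁻¹ * a⁻¹,
          conj_mem_of_normalizer_uni (h ha) (B.inv_mem hb), by group⟩ }
  have hle : A ⊔ B ≤ T :=
    sup_le (fun a ha => ⟨a, ha, 1, B.one_mem, by simp⟩) (fun b hb => ⟨1, A.one_mem, b, hb, by simp⟩)
  exact hle hy

theorem card_lt_of_lt_uni [Finite L] {A B : Subgroup L} (h : A < B) : Nat.card A < Nat.card B :=
  lt_of_not_ge (fun hge => h.ne (Subgroup.eq_of_le_of_card_ge h.le hge))

theorem card_mul_relIndex_uni {A B : Subgroup L} (h : A ≤ B) :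
    Nat.card A * A.relIndex B = Nat.card B := by
  have h1 := Subgroup.relIndex_mul_relIndex ⊥ A B bot_le h
  rwa [Subgroup.relIndex_bot_left, Subgroup.relIndex_bot_left] at h1

theorem eq_of_lt_of_le_of_card_uni [Finite L] {p : ℕ} (hp : p.Prime) {A X B : Subgroup L}
    (hAX : A < X) (hXB : X ≤ B) (hcard : Nat.card B = p * Nat.card A) : X = B := by
  apply Subgroup.eq_of_le_of_card_ge hXB
  obtain ⟨m, hm⟩ := Subgroup.card_dvd_of_le hAX.le
  have hA0 : 0 < Nat.card A := Nat.card_pos
  have hXB' := Subgroup.card_dvd_of_le hXB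
  rw [hm, hcard, mul_comm p] at hXB'
  have hmp : m ∣ p := (Nat.mul_dvd_mul_iff_left hA0).1 hXB'
  rcases (Nat.dvd_prime hp).1 hmp with h1 | h1
  · exfalso
    rw [h1, mul_one] at hm
    exact hAX.ne (Subgroup.eq_of_le_of_card_ge hAX.le hm.le)
  · rw [hcard, hm, h1, mul_comm]

end basic

section main

variable {L : Type*} [Group L] [Finite L] {p : ℕ} [hp : Fact p.Prime]

theorem commutator_lt_of_pgroups_uni {H G : Subgroup L} (hH : IsPGroup p H) (hG : IsPGroup p G)
    (hGH : G ≤ normalizer (H : Set L)) (hne : H ≠ ⊥) : ⁅H, G⁆ < H := by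
  refine lt_of_le_of_ne (commutator_le_of_normalizer_uni hGH) ?_
  intro heq
  have hK : IsPGroup p (H ⊔ G : Subgroup L) := IsPGroup.to_sup_of_normal_left' hH hG hGH
  haveI : Group.IsNilpotent (H ⊔ G : Subgroup L) := hK.isNilpotent
  obtain ⟨c, hc⟩ := (Subgroup.isNilpotent_iff_lowerCentralSeries (H ⊔ G)).1 inferInstance
  have h1 := le_lcs_of_comm_eq_uni (K := H ⊔ G) le_sup_left le_sup_right heq c
  rw [hc] at h1
  exact hne (le_bot_iff.1 h1)

theorem iter_norm_uni (N G : Subgroup L) (hGN : G ≤ normalizer (N : Set L)) (i : ℕ) :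
    G ≤ normalizer ((Cfsg.iterCommutator N G i : Subgroup L) : Set L) := by
  induction i with
  | zero => exact hGN
  | succ i ih => exact le_normalizer_commutator_uni ih Subgroup.le_normalizer

theorem iter_succ_le_uni (N G : Subgroup L) (hGN : G ≤ normalizer (N : Set L)) (i : ℕ) :
    Cfsg.iterCommutator N G (i + 1) ≤ Cfsg.iterCommutator N G i :=
  commutator_le_of_normalizer_uni (iter_norm_uni N G hGN i)

theorem iter_antitone_uni (N G : Subgroup L) (hGN : G ≤ normalizer (N : Set L)) {i j : ℕ}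
    (hij : i ≤ j) : Cfsg.iterCommutator N G j ≤ Cfsg.iterCommutator N G i := by
  induction hij with
  | refl => exact le_rfl
  | step _ ih => exact (iter_succ_le_uni N G hGN _).trans ih

theorem iter_le_uni (N G : Subgroup L) (hGN : G ≤ normalizer (N : Set L)) (i : ℕ) :
    Cfsg.iterCommutator N G i ≤ N :=
  iter_antitone_uni N G hGN (Nat.zero_le i)

/-- The chain condition. -/
def UChain (p : ℕ) (N G : Subgroup L) (n : ℕ) : Prop :=
  ∀ i ≤ n, Nat.card (Cfsg.iterCommutator N G i) = p ^ (n - i)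

theorem UChain.ne_bot {N G : Subgroup L} {n : ℕ} (hch : UChain p N G n) {i : ℕ} (hi : i < n) :
    Cfsg.iterCommutator N G i ≠ ⊥ := by
  intro h
  have h1 := hch i hi.le
  rw [h, Subgroup.card_bot] at h1
  have h2 : 1 < p ^ (n - i) := Nat.one_lt_pow (by omega) hp.out.one_lt
  omega

theorem UChain.eq_bot {N G : Subgroup L} {n : ℕ} (hch : UChain p N G n) :
    Cfsg.iterCommutator N G n = ⊥ := by
  have h1 := hch n le_rfl
  rw [Nat.sub_self, pow_zero] at h1
  exact Subgroup.eq_bot_of_card_eq _ h1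

theorem UChain.card_succ {N G : Subgroup L} {n : ℕ} (hch : UChain p N G n) {i : ℕ} (hi : i < n) :
    Nat.card (Cfsg.iterCommutator N G i) = p * Nat.card (Cfsg.iterCommutator N G (i + 1)) := by
  rw [hch i hi.le, hch (i + 1) hi]
  have h4 : n - i = (n - (i + 1)) + 1 := by omega
  rw [h4, pow_succ, mul_comm]

theorem chain_of_unis_uni (N G : Subgroup L) (hGN : G ≤ normalizer (N : Set L)) (n : ℕ)
    (hn : Nat.card N = p ^ n)
    (hU : ∀ H : Subgroup L, H ≤ N → G ≤ normalizer (H : Set L) → H ≠ ⊥ →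
      (⁅H, G⁆).relIndex H = p) : UChain p N G n := by
  intro i
  induction i with
  | zero => intro _; simpa [Cfsg.iterCommutator] using hn
  | succ i ih =>
    intro hi
    have h1 := ih (by omega)
    have hne : Cfsg.iterCommutator N G i ≠ ⊥ := by
      intro h
      rw [h, Subgroup.card_bot] at h1
      have h2 : 1 < p ^ (n - i) := Nat.one_lt_pow (by omega) hp.out.one_lt
      omega
    have h2 := hU _ (iter_le_uni N G hGN i) (iter_norm_uni N G hGN i) hne
    have h3 := card_mul_relIndex_uni (iter_succ_le_uni N G hGN i)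
    have h3' : Nat.card (Cfsg.iterCommutator N G (i + 1)) * p =
        Nat.card (Cfsg.iterCommutator N G i) := by
      rw [← h2]; exact h3
    rw [h1] at h3'
    have h4 : n - i = (n - (i + 1)) + 1 := by omega
    rw [h4, pow_succ] at h3'
    exact Nat.eq_of_mul_eq_mul_right hp.out.pos h3'

theorem chain_of_ne_bot_uni (N G : Subgroup L) (hN : IsPGroup p N) (hG : IsPGroup p G)
    (hGN : G ≤ normalizer (N : Set L)) (n : ℕ) (hn : Nat.card N = p ^ n)
    (h : Cfsg.iterCommutator N G (n - 1) ≠ ⊥ ∨ n = 0) : UChain p N G n := by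
  have hzero : n = 0 → UChain p N G n := by
    intro h0 i hi
    have hi0 : i = 0 := by omega
    subst hi0
    simpa [Cfsg.iterCommutator] using hn
  rcases h with h | h
  swap
  · exact hzero h
  by_cases hn0 : n = 0
  · exact hzero hn0
  have hpg : ∀ i, IsPGroup p (Cfsg.iterCommutator N G i) :=
    fun i => hN.to_le (iter_le_uni N G hGN i)
  have hneb : ∀ i, i ≤ n - 1 → Cfsg.iterCommutator N G i ≠ ⊥ := by
    intro i hi hb
    apply h
    have h1 := iter_antitone_uni N G hGN hi
    rw [hb] at h1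
    exact le_bot_iff.1 h1
  have hlt : ∀ i, i ≤ n - 1 → Nat.card (Cfsg.iterCommutator N G (i + 1)) <
      Nat.card (Cfsg.iterCommutator N G i) := by
    intro i hi
    exact card_lt_of_lt_uni
      (commutator_lt_of_pgroups_uni (hpg i) hG (iter_norm_uni N G hGN i) (hneb i hi))
  have c1 : ∀ i, i ≤ n → Nat.card (Cfsg.iterCommutator N G i) ≤ p ^ (n - i) := by
    intro i
    induction i with
    | zero => intro _; exact le_of_eq (by simpa [Cfsg.iterCommutator] using hn)
    | succ i ih =>
      intro hi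
      have h1 := ih (by omega)
      have h2 := hlt i (by omega)
      obtain ⟨b, hb⟩ := IsPGroup.iff_card.1 (hpg (i + 1))
      rw [hb] at h2 ⊢
      have h3 : p ^ b < p ^ (n - i) := lt_of_lt_of_le h2 h1
      have h4 : b < n - i := (Nat.pow_lt_pow_iff_right hp.out.one_lt).1 h3
      exact Nat.pow_le_pow_right hp.out.pos (by omega)
  have c2 : ∀ k, k ≤ n → p ^ k ≤ Nat.card (Cfsg.iterCommutator N G (n - k)) := by
    intro k
    induction k with
    | zero => intro _; rw [pow_zero]; exact Nat.card_pos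
    | succ k ih =>
      intro hk
      have h1 := ih (by omega)
      have h2 := hlt (n - (k + 1)) (by omega)
      have e : n - (k + 1) + 1 = n - k := by omega
      rw [e] at h2
      obtain ⟨b, hb⟩ := IsPGroup.iff_card.1 (hpg (n - (k + 1)))
      rw [hb] at h2 ⊢
      have h3 : p ^ k < p ^ b := lt_of_le_of_lt h1 h2
      have h4 : k < b := (Nat.pow_lt_pow_iff_right hp.out.one_lt).1 h3
      exact Nat.pow_le_pow_right hp.out.pos (by omega)
  intro i hi
  have h1 := c1 i hi
  have h2 := c2 (n - i) (by omega)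
  rw [Nat.sub_sub_self hi] at h2
  exact le_antisymm h1 h2

theorem chain_normal_uni (N G : Subgroup L) (hN : IsPGroup p N) (hG : IsPGroup p G)
    (hGN : G ≤ normalizer (N : Set L)) (n : ℕ) (hch : UChain p N G n) :
    ∀ i, N ≤ normalizer ((Cfsg.iterCommutator N G i : Subgroup L) : Set L) := by
  intro i
  induction i with
  | zero => exact Subgroup.le_normalizer
  | succ i ih =>
    by_cases hi : i < n
    · have hGi := iter_norm_uni N G hGN i
      have hPi : N ⊔ G ≤ normalizer ((Cfsg.iterCommutator N G i : Subgroup L) : Set L) :=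
        sup_le ih hGi
      have hPp : IsPGroup p (N ⊔ G : Subgroup L) := IsPGroup.to_sup_of_normal_left' hN hG hGN
      have hne := hch.ne_bot hi
      have hlt := commutator_lt_of_pgroups_uni (hN.to_le (iter_le_uni N G hGN i)) hPp hPi hne
      have hle : Cfsg.iterCommutator N G (i + 1) ≤ ⁅Cfsg.iterCommutator N G i, N ⊔ G⁆ :=
        Subgroup.commutator_mono le_rfl le_sup_right
      have heq : Cfsg.iterCommutator N G (i + 1) = ⁅Cfsg.iterCommutator N G i, N ⊔ G⁆ := by
        by_contra hne'
        have hlt' : Cfsg.iterCommutator N G (i + 1) < ⁅Cfsg.iterCommutator N G i, N ⊔ G⁆ :=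
          lt_of_le_of_ne hle hne'
        exact hlt.ne (eq_of_lt_of_le_of_card_uni hp.out hlt' hlt.le (hch.card_succ hi))
      rw [heq]
      exact le_sup_left.trans (le_normalizer_commutator_uni hPi Subgroup.le_normalizer)
    · have hb : Cfsg.iterCommutator N G (i + 1) = ⊥ := by
        have h1 := iter_antitone_uni N G hGN (show n ≤ i + 1 by omega)
        rw [hch.eq_bot] at h1
        exact le_bot_iff.1 h1
      rw [hb]
      apply le_normalizer_of_conj_uni
      intro g _ x hx
      rw [Subgroup.mem_bot] at hx ⊢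
      rw [hx]; group

theorem chain_invariant_uni (N G : Subgroup L) (hN : IsPGroup p N) (hG : IsPGroup p G)
    (hGN : G ≤ normalizer (N : Set L)) (n : ℕ) (hch : UChain p N G n) (H : Subgroup L)
    (hHN : H ≤ N) (hGH : G ≤ normalizer (H : Set L)) :
    ∃ i ≤ n, H = Cfsg.iterCommutator N G i := by
  have hbot := hch.eq_bot
  by_cases hH : H = ⊥
  · exact ⟨n, le_rfl, by rw [hH, hbot]⟩
  have hex : ∃ j, ¬ H ≤ Cfsg.iterCommutator N G j :=
    ⟨n, fun h => hH (le_bot_iff.1 (hbot ▸ h))⟩
  classical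
  obtain ⟨j, hj1, hjmin⟩ : ∃ j, ¬ H ≤ Cfsg.iterCommutator N G j ∧
      ∀ k < j, H ≤ Cfsg.iterCommutator N G k :=
    ⟨Nat.find hex, Nat.find_spec hex, fun k hk => by_contra (fun h => Nat.find_min hex hk h)⟩
  have hj0 : j ≠ 0 := by
    intro h0; rw [h0] at hj1; exact hj1 hHN
  have hjn : j ≤ n := by
    by_contra hcon
    have h1 := hjmin n (by omega)
    rw [hbot] at h1
    exact hH (le_bot_iff.1 h1)
  obtain ⟨i, hi⟩ : ∃ i, j = i + 1 := Nat.exists_eq_succ_of_ne_zero hj0
  subst hi
  have hi1 : H ≤ Cfsg.iterCommutator N G i := hjmin i (by omega)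
  have hnorm := chain_normal_uni N G hN hG hGN n hch
  have hQ : ∀ k, ∀ y ∈ Cfsg.iterCommutator N G (i + k),
      ∃ h ∈ H ⊓ Cfsg.iterCommutator N G (i + k),
        ∃ x ∈ Cfsg.iterCommutator N G (i + k + 1), y = h * x := by
    intro k
    induction k with
    | zero =>
      intro y hy
      have hsup : H ⊔ Cfsg.iterCommutator N G (i + 1) = Cfsg.iterCommutator N G i := by
        apply eq_of_lt_of_le_of_card_uni hp.out (A := Cfsg.iterCommutator N G (i + 1))
        · refine lt_of_le_of_ne le_sup_right ?_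
          intro h
          apply hj1
          rw [h]; exact le_sup_left
        · exact sup_le hi1 (iter_succ_le_uni N G hGN i)
        · exact hch.card_succ (by omega)
      have hy' : y ∈ H ⊔ Cfsg.iterCommutator N G (i + 1) := by rw [hsup]; exact hy
      obtain ⟨h, hh, x, hx, rfl⟩ :=
        mem_sup_of_le_normalizer_uni (hHN.trans (hnorm (i + 1))) hy'
      exact ⟨h, ⟨hh, hi1 hh⟩, x, hx, rfl⟩
    | succ k ih =>
      intro y hy
      have hle : Cfsg.iterCommutator N G (i + (k + 1)) ≤
          (H ⊓ Cfsg.iterCommutator N G (i + (k + 1))) ⊔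
            Cfsg.iterCommutator N G (i + (k + 1) + 1) := by
        show ⁅Cfsg.iterCommutator N G (i + k), G⁆ ≤ _
        rw [Subgroup.commutator_le]
        intro y' hy' g hg
        obtain ⟨h, ⟨hh, hhN⟩, x, hx, rfl⟩ := ih y' hy'
        have e : ⁅h * x, g⁆ = (h * ⁅x, g⁆ * h⁻¹) * ⁅h, g⁆ := by
          simp only [commutatorElement_def]; group
        rw [e]
        apply Subgroup.mul_mem
        · apply (le_sup_right : Cfsg.iterCommutator N G (i + (k + 1) + 1) ≤ _)
          have h1 : ⁅x, g⁆ ∈ Cfsg.iterCommutator N G (i + (k + 1) + 1) :=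
            Subgroup.commutator_mem_commutator hx hg
          exact conj_mem_of_normalizer_uni (hnorm _ (hHN hh)) h1
        · apply (le_sup_left : H ⊓ Cfsg.iterCommutator N G (i + (k + 1)) ≤ _)
          refine ⟨?_, ?_⟩
          · exact commutator_le_of_normalizer_uni hGH
              (Subgroup.commutator_mem_commutator hh hg)
          · exact Subgroup.commutator_mem_commutator hhN hg
      obtain ⟨h, hh, x, hx, rfl⟩ :=
        mem_sup_of_le_normalizer_uni ((inf_le_left.trans hHN).trans (hnorm _)) (hle hy)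
      exact ⟨h, hh, x, hx, rfl⟩
  have hdown : ∀ d m, i ≤ m → m + d = n → Cfsg.iterCommutator N G m ≤ H := by
    intro d
    induction d with
    | zero =>
      intro m _ hm
      have : m = n := by omega
      rw [this, hbot]; exact bot_le
    | succ d ih =>
      intro m him hm
      have h1 := ih (m + 1) (by omega) (by omega)
      intro y hy
      have e : i + (m - i) = m := by omega
      have hy' : y ∈ Cfsg.iterCommutator N G (i + (m - i)) := by rw [e]; exact hy
      obtain ⟨h, hh, x, hx, rfl⟩ := hQ (m - i) y hy'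
      rw [e] at hx
      exact H.mul_mem hh.1 (h1 hx)
  exact ⟨i, by omega, le_antisymm hi1 (hdown (n - i) i le_rfl (by omega))⟩

theorem unis_of_chain_uni (N G : Subgroup L) (hN : IsPGroup p N) (hG : IsPGroup p G)
    (hGN : G ≤ normalizer (N : Set L)) (n : ℕ) (hch : UChain p N G n) (H : Subgroup L)
    (hHN : H ≤ N) (hGH : G ≤ normalizer (H : Set L)) (hH : H ≠ ⊥) :
    (⁅H, G⁆).relIndex H = p := by
  obtain ⟨i, hi, rfl⟩ := chain_invariant_uni N G hN hG hGN n hch H hHN hGH
  have hin : i < n := by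
    rcases Nat.lt_or_ge i n with h | h
    · exact h
    · exfalso
      have : i = n := by omega
      rw [this] at hH
      exact hH hch.eq_bot
  have h3 := card_mul_relIndex_uni (iter_succ_le_uni N G hGN i)
  rw [hch.card_succ hin, mul_comm] at h3
  exact Nat.eq_of_mul_eq_mul_right Nat.card_pos h3

theorem chain_ne_bot_uni (N G : Subgroup L) (n : ℕ) (hch : UChain p N G n) :
    Cfsg.iterCommutator N G (n - 1) ≠ ⊥ ∨ n = 0 := by
  by_cases hn : n = 0
  · exact Or.inr hn
  · exact Or.inl (hch.ne_bot (by omega))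

end main

end Cfsg.Agent.Lib.helper1
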