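import Mathlib
import Cfsg.Agent.Lib.helper1.Uniserial
import Cfsg.Agent.Lib.helper10.ConjBasic

set_option autoImplicit false

open Subgroup
open scoped commutatorElement
open Cfsg.Agent.Lib.helper10

namespace Cfsg.Agent.Lib.helper1

variable {P : Type*} [Group P]

/-- relative centralizer: elements of `K` normalizing `Z` which commute with `S` modulo `Z` -/
def cms (Z K : Subgroup P) (S : Set P) : Subgroup P where
  carrier := {g | g ∈ K ∧ g ∈ normalizer (Z : Set P) ∧ ∀ s ∈ S, g * s * g⁻¹ * s⁻¹ ∈ Z}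
  one_mem' := ⟨K.one_mem, Subgroup.one_mem _, fun s _ => by simp⟩
  mul_mem' := by
    rintro g h ⟨hgK, hgN, hg⟩ ⟨hhK, hhN, hh⟩
    refine ⟨K.mul_mem hgK hhK, Subgroup.mul_mem _ hgN hhN, fun s hs => ?_⟩
    have e : g * h * s * (g * h)⁻¹ * s⁻¹ = g * (h * s * h⁻¹ * s⁻¹) * g⁻¹ * (g * s * g⁻¹ * s⁻¹) := by
      group
    rw [e]
    exact Z.mul_mem (conj_mem_of_normalizer_uni hgN (hh s hs)) (hg s hs)
  inv_mem' := by
    rintro g ⟨hgK, hgN, hg⟩
    refine ⟨K.inv_mem hgK, Subgroup.inv_mem _ hgN, fun s hs => ?_⟩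
    have e : g⁻¹ * s * g⁻¹⁻¹ * s⁻¹ = g⁻¹ * (g * s * g⁻¹ * s⁻¹)⁻¹ * g := by group
    rw [e]
    exact conj_mem_of_normalizer_uni' hgN (Z.inv_mem (hg s hs))

theorem mem_cms {Z K : Subgroup P} {S : Set P} {g : P} :
    g ∈ cms Z K S ↔ g ∈ K ∧ g ∈ normalizer (Z : Set P) ∧ ∀ s ∈ S, g * s * g⁻¹ * s⁻¹ ∈ Z :=
  Iff.rfl

theorem cms_le (Z K : Subgroup P) (S : Set P) : cms Z K S ≤ K := fun _ h => h.1

theorem comm_symm_sft {Z : Subgroup P} {g s : P} (h : g * s * g⁻¹ * s⁻¹ ∈ Z) :
    s * g * s⁻¹ * g⁻¹ ∈ Z := by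
  have e : s * g * s⁻¹ * g⁻¹ = (g * s * g⁻¹ * s⁻¹)⁻¹ := by group
  rw [e]; exact Z.inv_mem h

theorem cms_conj_mem {Z K : Subgroup P} {t x : P} (htK : t ∈ normalizer (K : Set P))
    (htZ : t ∈ normalizer (Z : Set P)) (hx : x ∈ cms Z K (K : Set P)) :
    t * x * t⁻¹ ∈ cms Z K (K : Set P) := by
  obtain ⟨hxK, hxN, hx⟩ := hx
  refine ⟨conj_mem_of_normalizer_uni htK hxK, ?_, ?_⟩
  · exact Subgroup.mul_mem _ (Subgroup.mul_mem _ htZ hxN) (Subgroup.inv_mem _ htZ)
  · intro s hs
    have hs' : t⁻¹ * s * t ∈ K := conj_mem_of_normalizer_uni' htK hs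
    have h1 := hx _ hs'
    have e : t * x * t⁻¹ * s * (t * x * t⁻¹)⁻¹ * s⁻¹ =
        t * (x * (t⁻¹ * s * t) * x⁻¹ * (t⁻¹ * s * t)⁻¹) * t⁻¹ := by group
    rw [e]
    exact conj_mem_of_normalizer_uni htZ h1

theorem le_cms_self {Z K : Subgroup P} (hZK : Z ≤ K) (hKZ : K ≤ normalizer (Z : Set P)) :
    Z ≤ cms Z K (K : Set P) := by
  intro z hz
  refine ⟨hZK hz, Subgroup.le_normalizer hz, fun s hs => ?_⟩
  have h1 := conj_mem_of_normalizer_uni (hKZ hs) (Z.inv_mem hz)
  have e : z * s * z⁻¹ * s⁻¹ = z * (s * z⁻¹ * s⁻¹) := by group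
  rw [e]; exact Z.mul_mem hz h1

theorem exists_central_mod [Finite P] {p : ℕ} [Fact p.Prime] (hP : IsPGroup p P) {Z K : Subgroup P}
    (hZK : Z ≤ K) (hKZ : K ≤ normalizer (Z : Set P)) (hne : Z ≠ K) :
    ∃ g ∈ K, g ∉ Z ∧ ∀ k ∈ K, g * k * g⁻¹ * k⁻¹ ∈ Z := by
  haveI : (Z.subgroupOf K).Normal := Subgroup.normal_subgroupOf_of_le_normalizer hKZ
  have hQ : IsPGroup p (↥K ⧸ Z.subgroupOf K) := (hP.to_subgroup K).to_quotient _
  obtain ⟨x, hxK, hxZ⟩ := SetLike.exists_of_lt (lt_of_le_of_ne hZK hne)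
  haveI : Nontrivial (↥K ⧸ Z.subgroupOf K) := by
    refine ⟨⟨((⟨x, hxK⟩ : ↥K) : ↥K ⧸ Z.subgroupOf K), 1, ?_⟩⟩
    intro h
    rw [QuotientGroup.eq_one_iff] at h
    exact hxZ (Subgroup.mem_subgroupOf.mp h)
  haveI := hQ.center_nontrivial
  obtain ⟨c, hc⟩ := exists_ne (1 : Subgroup.center (↥K ⧸ Z.subgroupOf K))
  obtain ⟨⟨g, hg⟩, hgc⟩ := QuotientGroup.mk_surjective (c : ↥K ⧸ Z.subgroupOf K)
  refine ⟨g, hg, ?_, ?_⟩
  · intro hgZ
    apply hc
    apply Subtype.ext
    rw [← hgc]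
    exact (QuotientGroup.eq_one_iff _).mpr (Subgroup.mem_subgroupOf.mpr hgZ)
  · intro k hk
    have h1 : ((⟨g, hg⟩ * ⟨k, hk⟩ * ⟨g, hg⟩⁻¹ * ⟨k, hk⟩⁻¹ : ↥K) : ↥K ⧸ Z.subgroupOf K) = 1 := by
      rw [QuotientGroup.mk_mul, QuotientGroup.mk_mul, QuotientGroup.mk_mul, QuotientGroup.mk_inv,
        QuotientGroup.mk_inv, hgc]
      have h2 := Subgroup.mem_center_iff.mp c.2 ((⟨k, hk⟩ : ↥K) : ↥K ⧸ Z.subgroupOf K)
      rw [← h2]; group
    rw [QuotientGroup.eq_one_iff] at h1
    exact Subgroup.mem_subgroupOf.mp h1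

theorem comm_mem_of_card_sft [Finite P] {p : ℕ} [hp : Fact p.Prime] (hP : IsPGroup p P)
    {A N : Subgroup P} (hAN : A ≤ N) (hc : Nat.card N = p * Nat.card A) :
    ∀ a ∈ N, ∀ b ∈ N, a * b * a⁻¹ * b⁻¹ ∈ A := by
  have hne : A ≠ N := by
    intro h; rw [h] at hc
    have : 0 < Nat.card N := Nat.card_pos
    have h2 := hp.out.two_le
    nlinarith
  have hNA : N ≤ normalizer (A : Set P) := by
    obtain ⟨x, hxN, hxn, hxA⟩ := exists_mem_normalizer_not_mem (hP.to_subgroup N) hAN hne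
    have h1 : A < normalizer (A : Set P) ⊓ N :=
      lt_of_le_of_ne (le_inf le_normalizer hAN) (fun h => hxA (by rw [h]; exact ⟨hxn, hxN⟩))
    have h2 := eq_of_lt_of_le_of_card_uni hp.out h1 inf_le_right hc
    rw [← h2]; exact inf_le_left
  haveI : (A.subgroupOf N).Normal := Subgroup.normal_subgroupOf_of_le_normalizer hNA
  have hcard : Nat.card (↥N ⧸ A.subgroupOf N) = p := by
    rw [← Subgroup.index_eq_card]
    have h1 := card_mul_relIndex_uni hAN
    rw [hc, mul_comm] at h1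
    exact Nat.eq_of_mul_eq_mul_right Nat.card_pos h1
  haveI : IsCyclic (↥N ⧸ A.subgroupOf N) := isCyclic_of_prime_card hcard
  intro a ha b hb
  have h1 : ((⟨a, ha⟩ * ⟨b, hb⟩ * ⟨a, ha⟩⁻¹ * ⟨b, hb⟩⁻¹ : ↥N) : ↥N ⧸ A.subgroupOf N) = 1 := by
    rw [QuotientGroup.mk_mul, QuotientGroup.mk_mul, QuotientGroup.mk_mul, QuotientGroup.mk_inv,
      QuotientGroup.mk_inv]
    rw [mul_comm' ((⟨a, ha⟩ : ↥N) : ↥N ⧸ A.subgroupOf N) _]
    group
  rw [QuotientGroup.eq_one_iff] at h1
  exact Subgroup.mem_subgroupOf.mp h1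

/-- relative soft subgroup: `E/Z` abelian self-centralizing in `T/Z` with normalizer of index `p` -/
structure Soft (p : ℕ) (T Z E : Subgroup P) : Prop where
  ZE : Z ≤ E
  ET : E ≤ T
  Zn : T ≤ normalizer (Z : Set P)
  ab : ∀ a ∈ E, ∀ b ∈ E, a * b * a⁻¹ * b⁻¹ ∈ Z
  sc : ∀ g ∈ T, (∀ e ∈ E, g * e * g⁻¹ * e⁻¹ ∈ Z) → g ∈ E
  nz : Nat.card ↥(normalizer (E : Set P) ⊓ T) = p * Nat.card ↥E

section
variable [Finite P] {p : ℕ} [hp : Fact p.Prime] {T Z E : Subgroup P}

theorem Soft.E_le_nT (h : Soft p T Z E) : E ≤ normalizer (E : Set P) ⊓ T :=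
  le_inf le_normalizer h.ET

theorem Soft.E_lt_T (h : Soft p T Z E) : E < T := by
  refine lt_of_le_of_ne h.ET ?_
  intro hET
  have h1 : normalizer (E : Set P) ⊓ T = E := by
    apply le_antisymm
    · rw [← hET]; exact inf_le_right
    · exact h.E_le_nT
  have h2 := h.nz
  rw [h1] at h2
  have : 0 < Nat.card E := Nat.card_pos
  have h3 := hp.out.two_le
  nlinarith

theorem Soft.Z_lt_T (h : Soft p T Z E) : Z < T := lt_of_le_of_lt h.ZE h.E_lt_T

theorem Soft.eq_nT_of (h : Soft p T Z E) {C : Subgroup P} (hEC : E ≤ C)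
    (hCN : C ≤ normalizer (E : Set P) ⊓ T) {x : P} (hxC : x ∈ C) (hxE : x ∉ E) :
    C = normalizer (E : Set P) ⊓ T :=
  eq_of_lt_of_le_of_card_uni hp.out (lt_of_le_of_ne hEC (fun hh => hxE (by rw [hh]; exact hxC))) hCN
    h.nz

theorem Soft.nT_le_of_lt (hP : IsPGroup p P) (h : Soft p T Z E) {K : Subgroup P} (hEK : E < K)
    (hKT : K ≤ T) : normalizer (E : Set P) ⊓ T ≤ K := by
  obtain ⟨x, hxK, hxn, hxE⟩ := exists_mem_normalizer_not_mem (hP.to_subgroup K) hEK.le hEK.ne
  have h1 : normalizer (E : Set P) ⊓ T ⊓ K = normalizer (E : Set P) ⊓ T :=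
    h.eq_nT_of (le_inf h.E_le_nT hEK.le) inf_le_left (x := x) ⟨⟨hxn, hKT hxK⟩, hxK⟩ hxE
  rw [← h1]; exact inf_le_right

theorem mem_nT_of_comm {T E Z' : Subgroup P} (hZ'E : Z' ≤ E) {g : P} (hgT : g ∈ T)
    (hg : ∀ e ∈ E, g * e * g⁻¹ * e⁻¹ ∈ Z') : g ∈ normalizer (E : Set P) ⊓ T := by
  refine ⟨?_, hgT⟩
  apply Subgroup.mem_normalizer_fintype
  intro e he
  have h1 := E.mul_mem (hZ'E (hg e he)) he
  have e1 : g * e * g⁻¹ * e⁻¹ * e = g * e * g⁻¹ := by group
  rw [e1] at h1
  exact h1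

theorem Soft.comm_E_of (h : Soft p T Z E) {Z' : Subgroup P} (hZZ' : Z ≤ Z')
    (hTZ' : T ≤ normalizer (Z' : Set P)) {v : P} (hvN : v ∈ normalizer (E : Set P) ⊓ T)
    (hvE : v ∉ E) (hv : ∀ e ∈ E, v * e * v⁻¹ * e⁻¹ ∈ Z') :
    ∀ n ∈ normalizer (E : Set P) ⊓ T, ∀ e ∈ E, n * e * n⁻¹ * e⁻¹ ∈ Z' := by
  have hC : cms Z' (normalizer (E : Set P) ⊓ T) (E : Set P) = normalizer (E : Set P) ⊓ T := by
    apply h.eq_nT_of _ (cms_le _ _ _) (x := v) ⟨hvN, hTZ' hvN.2, hv⟩ hvE
    intro e he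
    exact ⟨h.E_le_nT he, hTZ' (h.ET he), fun e' he' => hZZ' (h.ab e he e' he')⟩
  intro n hn e he
  rw [← hC] at hn
  exact hn.2.2 e he

theorem Soft.ab_mod (h : Soft p T Z E) {Z' : Subgroup P}
    (hTZ' : T ≤ normalizer (Z' : Set P))
    (hv : ∀ n ∈ normalizer (E : Set P) ⊓ T, ∀ e ∈ E, n * e * n⁻¹ * e⁻¹ ∈ Z') :
    ∀ a ∈ normalizer (E : Set P) ⊓ T, ∀ b ∈ normalizer (E : Set P) ⊓ T,
      a * b * a⁻¹ * b⁻¹ ∈ Z' := by
  intro a ha b hb
  by_cases haE : a ∈ E
  · exact comm_symm_sft (hv b hb a haE)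
  · have hC : cms Z' (normalizer (E : Set P) ⊓ T) ({a} : Set P) = normalizer (E : Set P) ⊓ T := by
      apply h.eq_nT_of _ (cms_le _ _ _) (x := a) ⟨ha, hTZ' ha.2, ?_⟩ haE
      · intro e he
        refine ⟨h.E_le_nT he, hTZ' (h.ET he), ?_⟩
        intro s hs
        rw [Set.mem_singleton_iff] at hs
        subst hs
        exact comm_symm_sft (hv s ha e he)
      · intro s hs
        rw [Set.mem_singleton_iff] at hs
        subst hs
        simp
    rw [← hC] at hb
    exact comm_symm_sft (hb.2.2 a rfl)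

theorem Soft.conj (h : Soft p T Z E) {u : P} (huT : u ∈ T) :
    Soft p T Z (E.map (MulAut.conj u).toMonoidHom) := by
  have huZ : u ∈ normalizer (Z : Set P) := h.Zn huT
  have hT : T.map (MulAut.conj u).toMonoidHom = T :=
    map_conj_eq_of_mem_normalizer T u (le_normalizer huT)
  have hZ : Z.map (MulAut.conj u).toMonoidHom = Z := map_conj_eq_of_mem_normalizer Z u huZ
  refine ⟨?_, ?_, h.Zn, ?_, ?_, ?_⟩
  · calc Z = Z.map (MulAut.conj u).toMonoidHom := hZ.symm
      _ ≤ E.map (MulAut.conj u).toMonoidHom := Subgroup.map_mono h.ZE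
  · calc E.map (MulAut.conj u).toMonoidHom ≤ T.map (MulAut.conj u).toMonoidHom :=
          Subgroup.map_mono h.ET
      _ = T := hT
  · intro a ha b hb
    rw [mem_map_conj] at ha hb
    have h1 := h.ab _ ha _ hb
    have h2 := conj_mem_of_normalizer_uni huZ h1
    have e : u * (u⁻¹ * a * u * (u⁻¹ * b * u) * (u⁻¹ * a * u)⁻¹ * (u⁻¹ * b * u)⁻¹) * u⁻¹ =
        a * b * a⁻¹ * b⁻¹ := by group
    rwa [e] at h2
  · intro g hgT hg
    rw [mem_map_conj]
    apply h.sc _ (T.mul_mem (T.mul_mem (T.inv_mem huT) hgT) huT)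
    intro e he
    have h1 := hg _ (conj_mem_map_conj E u e he)
    have h2 := conj_mem_of_normalizer_uni' huZ h1
    have e' : u⁻¹ * (g * (u * e * u⁻¹) * g⁻¹ * (u * e * u⁻¹)⁻¹) * u =
        u⁻¹ * g * u * e * (u⁻¹ * g * u)⁻¹ * e⁻¹ := by group
    rwa [e'] at h2
  · have e1 : normalizer ((E.map (MulAut.conj u).toMonoidHom : Subgroup P) : Set P) ⊓ T =
        (normalizer (E : Set P) ⊓ T).map (MulAut.conj u).toMonoidHom := by
      rw [map_conj_inf, normalizer_map_conj, hT]
    rw [e1, Subgroup.card_map_of_injective (conj_injective u),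
      Subgroup.card_map_of_injective (conj_injective u)]
    exact h.nz

theorem Soft.nT_conj (h : Soft p T Z E) {u : P} (huT : u ∈ T) :
    normalizer ((E.map (MulAut.conj u).toMonoidHom : Subgroup P) : Set P) ⊓ T =
      (normalizer (E : Set P) ⊓ T).map (MulAut.conj u).toMonoidHom := by
  have hT : T.map (MulAut.conj u).toMonoidHom = T :=
    map_conj_eq_of_mem_normalizer T u (le_normalizer huT)
  rw [map_conj_inf, normalizer_map_conj, hT]

end


section
variable [Finite P] {p : ℕ} [hp : Fact p.Prime] {T Z E : Subgroup P}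

theorem Soft.inf_central {E₁ E₂ : Subgroup P} (h₁ : Soft p T Z E₁) (h₂ : Soft p T Z E₂)
    (hN : normalizer (E₂ : Set P) ⊓ T = normalizer (E₁ : Set P) ⊓ T) (hne : E₁ ≠ E₂) :
    ∀ y ∈ E₁ ⊓ E₂, ∀ m ∈ normalizer (E₁ : Set P) ⊓ T, y * m * y⁻¹ * m⁻¹ ∈ Z := by
  intro y hy m hm
  have hcard : Nat.card E₁ = Nat.card E₂ := by
    have h1 := h₁.nz
    have h2 := h₂.nz
    rw [hN, h1] at h2
    exact Nat.eq_of_mul_eq_mul_left hp.out.pos h2
  have hnle : ¬ E₂ ≤ E₁ := fun hle => hne (Subgroup.eq_of_le_of_card_ge hle hcard.le).symm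
  obtain ⟨x, hx2, hx1⟩ := SetLike.not_le_iff_exists.mp hnle
  have hC : cms Z (normalizer (E₁ : Set P) ⊓ T) ({y} : Set P) = normalizer (E₁ : Set P) ⊓ T := by
    apply h₁.eq_nT_of _ (cms_le _ _ _) (x := x) ⟨?_, h₂.Zn (h₂.ET hx2), ?_⟩ hx1
    · intro e he
      refine ⟨h₁.E_le_nT he, h₁.Zn (h₁.ET he), ?_⟩
      intro s hs
      rw [Set.mem_singleton_iff] at hs
      rw [hs]
      exact h₁.ab e he y hy.1
    · rw [← hN]; exact h₂.E_le_nT hx2
    · intro s hs
      rw [Set.mem_singleton_iff] at hs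
      rw [hs]
      exact h₂.ab x hx2 y hy.2
  rw [← hC] at hm
  exact comm_symm_sft (hm.2.2 y rfl)

theorem Soft.step2 (hP : IsPGroup p P) (h : Soft p T Z E) (hN : normalizer (E : Set P) ⊓ T ≠ T) :
    Nat.card ↥(normalizer ((normalizer (E : Set P) ⊓ T : Subgroup P) : Set P) ⊓ T) =
        p * Nat.card ↥(normalizer (E : Set P) ⊓ T) ∧
    ∀ n ∈ normalizer (E : Set P) ⊓ T, ∀ e ∈ E, ∀ m ∈ normalizer (E : Set P) ⊓ T,
      (n * e * n⁻¹ * e⁻¹) * m * (n * e * n⁻¹ * e⁻¹)⁻¹ * m⁻¹ ∈ Z := by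
  classical
  obtain ⟨N₁, hN₁⟩ : ∃ N₁, N₁ = normalizer (E : Set P) ⊓ T := ⟨_, rfl⟩
  rw [← hN₁] at hN ⊢
  have hEN : E ≤ N₁ := by rw [hN₁]; exact h.E_le_nT
  have hNT : N₁ ≤ T := by rw [hN₁]; exact inf_le_right
  have hcN : Nat.card N₁ = p * Nat.card E := by rw [hN₁]; exact h.nz
  obtain ⟨N₂, hN₂⟩ : ∃ N₂, N₂ = normalizer (N₁ : Set P) ⊓ T := ⟨_, rfl⟩
  rw [← hN₂]
  have hN12 : N₁ ≤ N₂ := by rw [hN₂]; exact le_inf le_normalizer hNT
  have hconj : ∀ g ∈ N₂, Soft p T Z (E.map (MulAut.conj g).toMonoidHom) ∧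
      normalizer ((E.map (MulAut.conj g).toMonoidHom : Subgroup P) : Set P) ⊓ T = N₁ := by
    intro g hg
    rw [hN₂] at hg
    refine ⟨h.conj hg.2, ?_⟩
    rw [h.nT_conj hg.2, ← hN₁]
    exact map_conj_eq_of_mem_normalizer N₁ g hg.1
  have hconj_le : ∀ g ∈ N₂, E.map (MulAut.conj g).toMonoidHom ≤ N₁ := by
    intro g hg
    rw [← (hconj g hg).2]
    exact (hconj g hg).1.E_le_nT
  have hconj_card : ∀ g : P, Nat.card (E.map (MulAut.conj g).toMonoidHom) = Nat.card E :=
    fun g => Subgroup.card_map_of_injective (conj_injective g)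
  obtain ⟨s, hsT, hsn, hsN⟩ := exists_mem_normalizer_not_mem (hP.to_subgroup T) hNT hN
  have hs2 : s ∈ N₂ := by rw [hN₂]; exact ⟨hsn, hsT⟩
  obtain ⟨E', hE'⟩ : ∃ E', E' = E.map (MulAut.conj s).toMonoidHom := ⟨_, rfl⟩
  have hS' : Soft p T Z E' := by rw [hE']; exact (hconj s hs2).1
  have hN' : normalizer (E' : Set P) ⊓ T = N₁ := by rw [hE']; exact (hconj s hs2).2
  have hE'N : E' ≤ N₁ := by rw [← hN']; exact hS'.E_le_nT
  have hc' : Nat.card N₁ = p * Nat.card E' := by rw [← hN']; exact hS'.nz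
  have hne : E ≠ E' := by
    intro heq
    apply hsN
    rw [hN₁]
    exact ⟨mem_normalizer_of_map_conj_eq E s (by rw [← hE', ← heq]), hsT⟩
  have hY : ∀ y ∈ E ⊓ E', ∀ m ∈ N₁, y * m * y⁻¹ * m⁻¹ ∈ Z := by
    intro y hy m hm
    rw [hN₁] at hm
    exact h.inf_central hS' (by rw [hN', hN₁]) hne y hy m hm
  refine ⟨?_, ?_⟩
  swap
  · intro n hn e he m hm
    apply hY _ _ m hm
    refine ⟨?_, ?_⟩
    · have hn' : n ∈ normalizer (E : Set P) := by rw [hN₁] at hn; exact hn.1
      have h1 := conj_mem_of_normalizer_uni hn' he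
      exact E.mul_mem h1 (E.inv_mem he)
    · exact comm_mem_of_card_sft hP hE'N hc' n hn e (hEN he)
  · haveI : Fintype P := Fintype.ofFinite P
    haveI : Fintype ↥N₂ := Fintype.ofFinite _
    obtain ⟨Y, hYdef⟩ : ∃ Y, Y = E ⊓ E' := ⟨_, rfl⟩
    have hYE : Y ≤ E := by rw [hYdef]; exact inf_le_left
    have hYN : Y ≤ N₁ := hYE.trans hEN
    have hYconj : ∀ g ∈ N₂, Y ≤ E.map (MulAut.conj g).toMonoidHom := by
      intro g hg y hy
      have hy' : y ∈ E ⊓ E' := by rw [← hYdef]; exact hy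
      apply (hconj g hg).1.sc y (hNT (hYN hy))
      intro e he
      exact hY y hy' e (hconj_le g hg he)
    have hmeet : ∀ g ∈ N₂, ∀ g' ∈ N₂,
        E.map (MulAut.conj g).toMonoidHom ≠ E.map (MulAut.conj g').toMonoidHom →
        E.map (MulAut.conj g).toMonoidHom ⊓ E.map (MulAut.conj g').toMonoidHom ≤ Y := by
      intro g hg g' hg' hneq x hx
      have h1 := (hconj g hg).1.inf_central (hconj g' hg').1
        (by rw [(hconj g hg).2, (hconj g' hg').2]) hneq x hx
      rw [(hconj g hg).2] at h1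
      have hxT : x ∈ T := hNT (hconj_le g hg hx.1)
      rw [hYdef]
      exact ⟨h.sc x hxT (fun e he => h1 e (hEN he)), hS'.sc x hxT (fun e he => h1 e (hE'N he))⟩
    have hYlt : Y < E := by
      refine lt_of_le_of_ne hYE ?_
      intro heq
      apply hne
      have hle : E ≤ E' := by
        intro x hx
        have : x ∈ Y := by rw [heq]; exact hx
        rw [hYdef] at this
        exact this.2
      exact Subgroup.eq_of_le_of_card_ge hle (by rw [hE', hconj_card])
    obtain ⟨a, ha⟩ := IsPGroup.iff_card.mp (hP.to_subgroup E)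
    obtain ⟨b, hb⟩ := IsPGroup.iff_card.mp (hP.to_subgroup Y)
    have hab : b < a := by
      have := card_lt_of_lt_uni hYlt
      rw [ha, hb] at this
      exact (Nat.pow_lt_pow_iff_right hp.out.one_lt).mp this
    have hpy : p * Nat.card Y ≤ Nat.card E := by
      rw [ha, hb, ← pow_succ']
      exact Nat.pow_le_pow_right hp.out.pos hab
    have hn1 : Nat.card N₁ ≤ p * p * Nat.card Y := by
      have h1 : (E ⊓ E').relIndex N₁ ≤ E.relIndex N₁ * E'.relIndex N₁ := Subgroup.relIndex_inf_le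
      have h2 : E.relIndex N₁ = p := by
        have := card_mul_relIndex_uni hEN
        rw [hcN, mul_comm] at this
        exact Nat.eq_of_mul_eq_mul_right Nat.card_pos this
      have h3 : E'.relIndex N₁ = p := by
        have := card_mul_relIndex_uni hE'N
        rw [hc', mul_comm] at this
        exact Nat.eq_of_mul_eq_mul_right Nat.card_pos this
      have h4 := card_mul_relIndex_uni hYN
      rw [h2, h3, ← hYdef] at h1
      rw [← h4, mul_comm (Nat.card Y)]
      exact Nat.mul_le_mul_right _ h1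
    have hey : Nat.card E = p * Nat.card Y := by
      apply le_antisymm _ hpy
      have : p * Nat.card E ≤ p * (p * Nat.card Y) := by rw [← hcN, ← mul_assoc]; exact hn1
      exact Nat.le_of_mul_le_mul_left this hp.out.pos
    have hn1' : Nat.card N₁ = p * p * Nat.card Y := by rw [hcN, hey, mul_assoc]
    let F : Subgroup P → Finset P := fun A => Finset.univ.filter (fun x => x ∈ A)
    have hF : ∀ A : Subgroup P, (F A).card = Nat.card A := by
      intro A
      have h1 : Nat.card A = Fintype.card {x // x ∈ A} := Nat.card_eq_fintype_card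
      rw [h1, Fintype.card_subtype]
    let B : Subgroup P → Finset P := fun A => F A \ F Y
    have hB : ∀ A : Subgroup P, Y ≤ A → (B A).card = Nat.card A - Nat.card Y := by
      intro A hA
      show (F A \ F Y).card = _
      rw [Finset.card_sdiff_of_subset, hF, hF]
      intro x hx
      simp only [F, Finset.mem_filter, Finset.mem_univ, true_and] at hx ⊢
      exact hA hx
    let f : ↥N₂ → Subgroup P := fun g => E.map (MulAut.conj (g : P)).toMonoidHom
    let 𝒜 : Finset (Subgroup P) := Finset.univ.image f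
    have h𝒜 : ∀ A ∈ 𝒜, ∃ g ∈ N₂, A = E.map (MulAut.conj g).toMonoidHom := by
      intro A hA
      obtain ⟨g, -, rfl⟩ := Finset.mem_image.mp hA
      exact ⟨g, g.2, rfl⟩
    have hcount : 𝒜.card * (Nat.card E - Nat.card Y) ≤ Nat.card N₁ - Nat.card Y := by
      have h1 : (𝒜.biUnion B).card = ∑ A ∈ 𝒜, (B A).card := by
        apply Finset.card_biUnion
        intro A hA A' hA' hAA'
        obtain ⟨g, hg, rfl⟩ := h𝒜 A (Finset.mem_coe.mp hA)
        obtain ⟨g', hg', rfl⟩ := h𝒜 A' (Finset.mem_coe.mp hA')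
        show Disjoint (B _) (B _)
        rw [Finset.disjoint_left]
        intro x hx hx'
        simp only [B, F, Finset.mem_sdiff, Finset.mem_filter, Finset.mem_univ, true_and] at hx hx'
        exact hx.2 (hmeet g hg g' hg' hAA' ⟨hx.1, hx'.1⟩)
      have h2 : ∑ A ∈ 𝒜, (B A).card = 𝒜.card * (Nat.card E - Nat.card Y) := by
        apply Finset.sum_const_nat
        intro A hA
        obtain ⟨g, hg, rfl⟩ := h𝒜 A hA
        rw [hB _ (hYconj g hg), hconj_card]
      have h3 : 𝒜.biUnion B ⊆ B N₁ := by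
        intro x hx
        obtain ⟨A, hA, hxA⟩ := Finset.mem_biUnion.mp hx
        obtain ⟨g, hg, rfl⟩ := h𝒜 A hA
        simp only [B, F, Finset.mem_sdiff, Finset.mem_filter, Finset.mem_univ, true_and] at hxA ⊢
        exact ⟨hconj_le g hg hxA.1, hxA.2⟩
      have h4 := Finset.card_le_card h3
      rw [h1, h2, hB N₁ hYN] at h4
      exact h4
    have hA_le : 𝒜.card ≤ p + 1 := by
      rw [hey, hn1'] at hcount
      have hy0 : 0 < Nat.card Y := Nat.card_pos
      obtain ⟨q, hq⟩ : ∃ q, p = q + 1 := ⟨p - 1, by have := hp.out.pos; omega⟩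
      have hq1 : 1 ≤ q := by have := hp.out.two_le; omega
      rw [hq] at hcount ⊢
      have e1 : (q + 1) * Nat.card Y - Nat.card Y = q * Nat.card Y := by
        rw [add_mul, one_mul, Nat.add_sub_cancel]
      have e2 : (q + 1) * (q + 1) * Nat.card Y - Nat.card Y = (q + 2) * (q * Nat.card Y) := by
        have : (q + 1) * (q + 1) * Nat.card Y = (q + 2) * (q * Nat.card Y) + Nat.card Y := by ring
        rw [this, Nat.add_sub_cancel]
      rw [e1, e2] at hcount
      have := Nat.le_of_mul_le_mul_right hcount (Nat.mul_pos (by omega) hy0)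
      omega
    have hfib : (Finset.univ : Finset ↥N₂).card ≤ Nat.card N₁ * 𝒜.card := by
      apply Finset.card_le_mul_card_image
      intro A hA
      obtain ⟨g₀, -, rfl⟩ := Finset.mem_image.mp hA
      haveI : Fintype ↥N₁ := Fintype.ofFinite _
      have hcard1 : (Finset.univ : Finset ↥N₁).card = Nat.card N₁ := by
        rw [Finset.card_univ, Nat.card_eq_fintype_card]
      rw [← hcard1]
      have hmem : ∀ g ∈ Finset.univ.filter (fun g : ↥N₂ => f g = f g₀),
          (g₀ : P)⁻¹ * (g : P) ∈ N₁ := by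
        intro g hg
        have hfg : f g = f g₀ := (Finset.mem_filter.mp hg).2
        have h1 : E.map (MulAut.conj ((g₀ : P)⁻¹ * (g : P))).toMonoidHom = E := by
          rw [← map_conj_mul]
          show (f g).map _ = E
          rw [hfg]
          exact map_conj_inv_cancel E (g₀ : P)
        rw [hN₁]
        refine ⟨mem_normalizer_of_map_conj_eq E _ h1, ?_⟩
        have hN2T : N₂ ≤ T := by rw [hN₂]; exact inf_le_right
        have hg0T : (g₀ : P) ∈ T := hN2T g₀.2
        have hgT : (g : P) ∈ T := hN2T g.2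
        exact T.mul_mem (T.inv_mem hg0T) hgT
      let φ : ↥N₂ → ↥N₁ :=
        fun g => if hh : (g₀ : P)⁻¹ * (g : P) ∈ N₁ then (⟨_, hh⟩ : ↥N₁) else 1
      refine Finset.card_le_card_of_injOn φ ?_ ?_
      · intro g _; exact Finset.mem_coe.mpr (Finset.mem_univ _)
      · intro g hg g' hg' heq
        have h1 := hmem g (Finset.mem_coe.mp hg)
        have h2 := hmem g' (Finset.mem_coe.mp hg')
        simp only [φ, dif_pos h1, dif_pos h2] at heq
        have h3 := congrArg Subtype.val heq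
        simp only at h3
        exact Subtype.ext (mul_left_cancel h3)
    have hcardN2 : (Finset.univ : Finset ↥N₂).card = Nat.card N₂ := by
      rw [Finset.card_univ, Nat.card_eq_fintype_card]
    rw [hcardN2] at hfib
    obtain ⟨b1, hb1⟩ := IsPGroup.iff_card.mp (hP.to_subgroup N₁)
    obtain ⟨c, hc⟩ := IsPGroup.iff_card.mp (hP.to_subgroup N₂)
    have hlt12 : N₁ < N₂ := lt_of_le_of_ne hN12 (fun heq => hsN (by rw [heq]; exact hs2))
    have hbc : b1 < c := by
      have := card_lt_of_lt_uni hlt12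
      rw [hb1, hc] at this
      exact (Nat.pow_lt_pow_iff_right hp.out.one_lt).mp this
    have hc2 : c < b1 + 2 := by
      by_contra hcon
      push Not at hcon
      have h1 : p ^ (b1 + 2) ≤ p ^ c := Nat.pow_le_pow_right hp.out.pos hcon
      rw [hc, hb1] at hfib
      have h2 : p ^ b1 * 𝒜.card ≤ p ^ b1 * (p + 1) := Nat.mul_le_mul_left _ hA_le
      have h3 : p ^ b1 * (p + 1) < p ^ (b1 + 2) := by
        rw [pow_add]
        apply (Nat.mul_lt_mul_left (pow_pos hp.out.pos b1)).mpr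
        have := hp.out.two_le
        nlinarith
      omega
    have hcb : c = b1 + 1 := by omega
    rw [hc, hb1, hcb, pow_succ, mul_comm]

theorem soft_chain (hP : IsPGroup p P) : ∀ (d : ℕ) (T Z E : Subgroup P),
    Nat.card T - Nat.card Z = d → Soft p T Z E →
    (∀ K L : Subgroup P, E ≤ K → K ≤ T → E ≤ L → L ≤ T → K ≤ L ∨ L ≤ K) ∧
    (∀ K : Subgroup P, E ≤ K → K < T →
      Nat.card ↥(normalizer (K : Set P) ⊓ T) = p * Nat.card K) := by
  intro d
  induction d using Nat.strong_induction_on with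
  | _ d ih =>
    intro T Z E hd hS
    obtain ⟨g, hgT, hgZ, hg⟩ := exists_central_mod hP hS.Z_lt_T.le hS.Zn hS.Z_lt_T.ne
    obtain ⟨Z', hZ'⟩ : ∃ Z', Z' = cms Z T (T : Set P) := ⟨_, rfl⟩
    have hZZ' : Z ≤ Z' := by rw [hZ']; exact le_cms_self hS.Z_lt_T.le hS.Zn
    have hgZ' : g ∈ Z' := by rw [hZ']; exact ⟨hgT, hS.Zn hgT, hg⟩
    have hZ'T : Z' ≤ T := by rw [hZ']; exact cms_le _ _ _
    have hZ'E : Z' ≤ E := by
      intro x hx
      rw [hZ'] at hx
      exact hS.sc x hx.1 (fun e he => hx.2.2 e (hS.ET he))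
    have hTZ' : T ≤ normalizer (Z' : Set P) := by
      apply le_normalizer_of_conj_uni
      intro t ht x hx
      rw [hZ'] at hx ⊢
      exact cms_conj_mem (le_normalizer ht) (hS.Zn ht) hx
    have hmeas : Nat.card T - Nat.card Z' < d := by
      have h1 : Nat.card Z < Nat.card Z' :=
        card_lt_of_lt_uni (lt_of_le_of_ne hZZ' (fun heq => hgZ (by rw [heq]; exact hgZ')))
      have h2 : Nat.card Z' ≤ Nat.card T := Subgroup.card_le_of_le hZ'T
      omega
    obtain ⟨N₁, hN₁⟩ : ∃ N₁, N₁ = normalizer (E : Set P) ⊓ T := ⟨_, rfl⟩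
    have hover : ∀ K : Subgroup P, E < K → K ≤ T → N₁ ≤ K := by
      intro K hEK hKT; rw [hN₁]; exact hS.nT_le_of_lt hP hEK hKT
    by_cases hα : ∀ g ∈ T, (∀ e ∈ E, g * e * g⁻¹ * e⁻¹ ∈ Z') → g ∈ E
    · have hS' : Soft p T Z' E :=
        ⟨hZ'E, hS.ET, hTZ', fun a ha b hb => hZZ' (hS.ab a ha b hb), hα, hS.nz⟩
      exact ih _ hmeas T Z' E rfl hS'
    · push Not at hα
      obtain ⟨v, hvT, hv, hvE⟩ := hα
      have hvN : v ∈ normalizer (E : Set P) ⊓ T := mem_nT_of_comm hZ'E hvT hv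
      by_cases hN1T : N₁ = T
      · refine ⟨?_, ?_⟩
        · intro K L hEK hKT hEL hLT
          rcases eq_or_lt_of_le hEK with h | h
          · left; rw [← h]; exact hEL
          · right
            have := hover K h hKT
            rw [hN1T] at this
            exact hLT.trans this
        · intro K hEK hKT
          rcases eq_or_lt_of_le hEK with h | h
          · rw [← h]; exact hS.nz
          · exfalso
            have := hover K h hKT.le
            rw [hN1T] at this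
            exact absurd (le_antisymm hKT.le this) hKT.ne
      · have hcomm := hS.comm_E_of hZZ' hTZ' hvN hvE hv
        have hab' := hS.ab_mod hTZ' hcomm
        have hS' : Soft p T Z' N₁ := by
          rw [hN₁]
          refine ⟨hZ'E.trans hS.E_le_nT, inf_le_right, hTZ', hab', ?_, ?_⟩
          · intro g hgT hg
            exact mem_nT_of_comm hZ'E hgT (fun e he => hg e (hS.E_le_nT he))
          · exact (hS.step2 hP (by rw [← hN₁]; exact hN1T)).1
        obtain ⟨ih1, ih2⟩ := ih _ hmeas T Z' N₁ rfl hS'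
        refine ⟨?_, ?_⟩
        · intro K L hEK hKT hEL hLT
          rcases eq_or_lt_of_le hEK with h | h
          · left; rw [← h]; exact hEL
          rcases eq_or_lt_of_le hEL with h' | h'
          · right; rw [← h']; exact hEK
          exact ih1 K L (hover K h hKT) hKT (hover L h' hLT) hLT
        · intro K hEK hKT
          rcases eq_or_lt_of_le hEK with h | h
          · rw [← h]; exact hS.nz
          · exact ih2 K (hover K h hKT.le) hKT


theorem soft_D_central (hP : IsPGroup p P) : ∀ (d : ℕ) (T Z E K : Subgroup P),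
    Nat.card T - Nat.card Z = d → Soft p T Z E → normalizer (E : Set P) ⊓ T ≤ K → K < T →
    ∀ n ∈ normalizer (E : Set P) ⊓ T, ∀ e ∈ E, ∀ k ∈ K,
      (n * e * n⁻¹ * e⁻¹) * k * (n * e * n⁻¹ * e⁻¹)⁻¹ * k⁻¹ ∈ Z := by
  intro d
  induction d using Nat.strong_induction_on with
  | _ d ih =>
    intro T Z E K hd hS hNK hKT
    obtain ⟨N₁, hN₁⟩ : ∃ N₁, N₁ = normalizer (E : Set P) ⊓ T := ⟨_, rfl⟩
    rw [← hN₁] at hNK ⊢
    have hEN : E ≤ N₁ := by rw [hN₁]; exact hS.E_le_nT
    have hEK : E ≤ K := hEN.trans hNK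
    have hA := soft_chain hP _ T Z E rfl hS
    obtain ⟨T₁, hT₁⟩ : ∃ T₁, T₁ = normalizer (K : Set P) ⊓ T := ⟨_, rfl⟩
    have hT₁c : Nat.card T₁ = p * Nat.card K := by rw [hT₁]; exact hA.2 K hEK hKT
    have hKT₁ : K ≤ T₁ := by rw [hT₁]; exact le_inf le_normalizer hKT.le
    have hT₁T : T₁ ≤ T := by rw [hT₁]; exact inf_le_right
    have hZT : Nat.card Z < Nat.card T := card_lt_of_lt_uni hS.Z_lt_T
    by_cases hT1 : T₁ = T
    swap
    · have e1 : normalizer (E : Set P) ⊓ T₁ = N₁ := by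
        apply le_antisymm
        · rw [hN₁]; exact inf_le_inf_left _ hT₁T
        · have h2 : N₁ ≤ T₁ := hNK.trans hKT₁
          rw [hN₁] at h2 ⊢
          exact le_inf inf_le_left h2
      have hS₁ : Soft p T₁ Z E :=
        ⟨hS.ZE, hEK.trans hKT₁, hT₁T.trans hS.Zn, hS.ab, fun g hg => hS.sc g (hT₁T hg),
          by rw [e1, hN₁]; exact hS.nz⟩
      have hlt : Nat.card T₁ < Nat.card T := card_lt_of_lt_uni (lt_of_le_of_ne hT₁T hT1)
      have hK1 : K < T₁ := by
        refine lt_of_le_of_ne hKT₁ ?_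
        intro heq
        rw [← heq] at hT₁c
        have hpos : 0 < Nat.card K := Nat.card_pos
        have := hp.out.two_le
        nlinarith
      have := ih (Nat.card T₁ - Nat.card Z) (by omega) T₁ Z E K rfl hS₁
        (by rw [e1]; exact hNK) hK1
      intro n hn e he k hk
      exact this n (by rw [e1]; exact hn) e he k hk
    have hTK : T ≤ normalizer (K : Set P) := by rw [← hT1, hT₁]; exact inf_le_left
    have hTc : Nat.card T = p * Nat.card K := by rw [← hT1]; exact hT₁c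
    by_cases hK1 : K = N₁
    · intro n hn e he k hk
      rw [hK1] at hk
      have h2 := (hS.step2 hP (by rw [← hN₁, ← hK1]; exact hKT.ne)).2
      rw [← hN₁] at h2
      exact h2 n hn e he k hk
    have hN1K : N₁ < K := lt_of_le_of_ne hNK (Ne.symm hK1)
    have hnK : normalizer (E : Set P) ⊓ K = N₁ := by
      apply le_antisymm
      · rw [hN₁]; exact inf_le_inf_left _ hKT.le
      · have h2 := hNK
        rw [hN₁] at h2 ⊢
        exact le_inf inf_le_left h2
    have hKZn : K ≤ normalizer (Z : Set P) := hKT.le.trans hS.Zn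
    have hSK : Soft p K Z E :=
      ⟨hS.ZE, hEK, hKZn, hS.ab, fun g hg => hS.sc g (hKT.le hg), by rw [hnK, hN₁]; exact hS.nz⟩
    have hEltK : E < K := lt_of_le_of_lt hEN hN1K
    haveI : Nonempty {X : Subgroup P // E ≤ X ∧ X < K} := ⟨⟨E, le_refl E, hEltK⟩⟩
    obtain ⟨⟨K₁, hEK₁, hK₁K⟩, hmax⟩ := Finite.exists_max
      (fun X : {X : Subgroup P // E ≤ X ∧ X < K} => Nat.card (X : Subgroup P))
    have hK₁T : K₁ < T := lt_of_lt_of_le hK₁K hKT.le
    have hX₂c := hA.2 K₁ hEK₁ hK₁T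
    obtain ⟨x, hxK, hxn, hxK₁⟩ := exists_mem_normalizer_not_mem (hP.to_subgroup K) hK₁K.le hK₁K.ne
    have hX₂K : normalizer (K₁ : Set P) ⊓ T ≤ K := by
      have h1 : K₁ < normalizer (K₁ : Set P) ⊓ T ⊓ K :=
        lt_of_le_of_ne (le_inf (le_inf le_normalizer hK₁T.le) hK₁K.le)
          (fun heq => hxK₁ (by rw [heq]; exact ⟨⟨hxn, hKT.le hxK⟩, hxK⟩))
      have h2 := eq_of_lt_of_le_of_card_uni hp.out h1 inf_le_left hX₂c
      rw [← h2]; exact inf_le_right
    have hX₂ : normalizer (K₁ : Set P) ⊓ T = K := by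
      by_contra hne
      have hlt : normalizer (K₁ : Set P) ⊓ T < K := lt_of_le_of_ne hX₂K hne
      have h3 := hmax ⟨normalizer (K₁ : Set P) ⊓ T,
        hEK₁.trans (le_inf le_normalizer hK₁T.le), hlt⟩
      simp only at h3
      rw [hX₂c] at h3
      have hpos : 0 < Nat.card K₁ := Nat.card_pos
      have := hp.out.two_le
      nlinarith
    have hKc : Nat.card K = p * Nat.card K₁ := by rw [← hX₂]; exact hX₂c
    have hN1K₁ : N₁ ≤ K₁ := by
      rcases eq_or_lt_of_le hEK₁ with h | h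
      · exfalso; apply hK1; rw [← hX₂, ← h, hN₁]
      · rw [hN₁]; exact hS.nT_le_of_lt hP h hK₁T.le
    have hZK : Nat.card Z < Nat.card K := card_lt_of_lt_uni (lt_of_le_of_lt hS.ZE hEltK)
    have hKlt : Nat.card K < Nat.card T := card_lt_of_lt_uni hKT
    have ha := ih (Nat.card K - Nat.card Z) (by omega) K Z E K₁ rfl hSK
      (by rw [hnK]; exact hN1K₁) hK₁K
    rw [hnK] at ha
    obtain ⟨ZK, hZK'⟩ : ∃ ZK, ZK = cms Z K (K : Set P) := ⟨_, rfl⟩
    have hZleK : Z ≤ K := hS.ZE.trans hEK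
    have hZZK : Z ≤ ZK := by rw [hZK']; exact le_cms_self hZleK hKZn
    obtain ⟨g, hgK, hgZ, hg⟩ := exists_central_mod hP hZleK hKZn
      (fun heq => by rw [heq] at hZK; exact lt_irrefl _ hZK)
    have hgZK : g ∈ ZK := by rw [hZK']; exact ⟨hgK, hKZn hgK, hg⟩
    have hZKK : ZK ≤ K := by rw [hZK']; exact cms_le _ _ _
    have hTZK : T ≤ normalizer (ZK : Set P) := by
      apply le_normalizer_of_conj_uni
      intro t ht x hx
      rw [hZK'] at hx ⊢
      exact cms_conj_mem (hTK ht) (hS.Zn ht) hx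
    have hmeas : Nat.card T - Nat.card ZK < d := by
      have h1 : Nat.card Z < Nat.card ZK :=
        card_lt_of_lt_uni (lt_of_le_of_ne hZZK (fun heq => hgZ (by rw [heq]; exact hgZK)))
      have h2 : Nat.card ZK ≤ Nat.card K := Subgroup.card_le_of_le hZKK
      omega
    have hZKsoft : ∀ E'' : Subgroup P, Soft p T Z E'' → E'' ≤ K → ZK ≤ E'' := by
      intro E'' hS'' hE''K x hx
      rw [hZK'] at hx
      exact hS''.sc x (hKT.le hx.1) (fun e he => hx.2.2 e (hE''K he))
    have hZKE : ZK ≤ E := hZKsoft E hS hEK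
    intro n₀ hn₀ e₀ he₀ k₀ hk₀
    by_contra hbad
    obtain ⟨c₀, hc₀⟩ : ∃ c₀, c₀ = n₀ * e₀ * n₀⁻¹ * e₀⁻¹ := ⟨_, rfl⟩
    rw [← hc₀] at hbad
    have hc₀E : c₀ ∈ E := by
      rw [hc₀]
      have hn' : n₀ ∈ normalizer (E : Set P) := by rw [hN₁] at hn₀; exact hn₀.1
      exact E.mul_mem (conj_mem_of_normalizer_uni hn' he₀) (E.inv_mem he₀)
    have hc₀K : c₀ ∈ K := hEK hc₀E
    have hc₀ZK : c₀ ∉ ZK := by
      intro hmem
      rw [hZK'] at hmem
      exact hbad (hmem.2.2 k₀ hk₀)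
    have hb : ∀ n ∈ N₁, ∀ e ∈ E, ∀ k ∈ K,
        (n * e * n⁻¹ * e⁻¹) * k * (n * e * n⁻¹ * e⁻¹)⁻¹ * k⁻¹ ∈ ZK := by
      by_cases hα : ∀ g ∈ T, (∀ e ∈ E, g * e * g⁻¹ * e⁻¹ ∈ ZK) → g ∈ E
      · have hS' : Soft p T ZK E :=
          ⟨hZKE, hS.ET, hTZK, fun a ha b hb => hZZK (hS.ab a ha b hb), hα, hS.nz⟩
        have h3 := ih _ hmeas T ZK E K rfl hS' (by rw [← hN₁]; exact hNK) hKT
        rw [← hN₁] at h3
        exact h3
      · exfalso
        push Not at hα
        obtain ⟨v, hvT, hv, hvE⟩ := hα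
        have hvN : v ∈ normalizer (E : Set P) ⊓ T := mem_nT_of_comm hZKE hvT hv
        have hcomm := hS.comm_E_of hZZK hTZK hvN hvE hv
        apply hc₀ZK
        rw [hc₀]
        exact hcomm n₀ (by rw [← hN₁]; exact hn₀) e₀ he₀
    obtain ⟨u, huT, huK⟩ := SetLike.exists_of_lt hKT
    obtain ⟨E', hE'⟩ : ∃ E', E' = E.map (MulAut.conj u).toMonoidHom := ⟨_, rfl⟩
    have hS' : Soft p T Z E' := by rw [hE']; exact hS.conj huT
    have hKu : K.map (MulAut.conj u).toMonoidHom = K :=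
      map_conj_eq_of_mem_normalizer K u (hTK huT)
    have hE'K : E' ≤ K := by
      rw [hE']
      calc E.map (MulAut.conj u).toMonoidHom ≤ K.map (MulAut.conj u).toMonoidHom :=
            Subgroup.map_mono hEK
        _ = K := hKu
    have hN' : normalizer (E' : Set P) ⊓ T = N₁.map (MulAut.conj u).toMonoidHom := by
      rw [hE', hS.nT_conj huT, ← hN₁]
    have hN'K : normalizer (E' : Set P) ⊓ T ≤ K := by
      rw [hN']
      calc N₁.map (MulAut.conj u).toMonoidHom ≤ K.map (MulAut.conj u).toMonoidHom :=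
            Subgroup.map_mono hNK
        _ = K := hKu
    have hy : ∃ y ∈ E', y ∉ K₁ := by
      by_contra hcon
      push Not at hcon
      have hE'K₁ : E' ≤ K₁ := hcon
      have hSK' : Soft p K Z E' := by
        refine ⟨hS'.ZE, hE'K, hKZn, hS'.ab, fun g hg => hS'.sc g (hKT.le hg), ?_⟩
        have e1 : normalizer (E' : Set P) ⊓ K = normalizer (E' : Set P) ⊓ T := by
          apply le_antisymm
          · exact inf_le_inf_left _ hKT.le
          · exact le_inf inf_le_left hN'K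
        rw [e1]; exact hS'.nz
      have hch := (soft_chain hP _ K Z E' rfl hSK').1 K₁ (K₁.map (MulAut.conj u).toMonoidHom)
        hE'K₁ hK₁K.le (by rw [hE']; exact Subgroup.map_mono hEK₁)
        (by
          calc K₁.map (MulAut.conj u).toMonoidHom ≤ K.map (MulAut.conj u).toMonoidHom :=
                Subgroup.map_mono hK₁K.le
            _ = K := hKu)
      have hcardeq : Nat.card (K₁.map (MulAut.conj u).toMonoidHom) = Nat.card K₁ :=
        Subgroup.card_map_of_injective (conj_injective u)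
      have heq : K₁.map (MulAut.conj u).toMonoidHom = K₁ := by
        rcases hch with h | h
        · exact (Subgroup.eq_of_le_of_card_ge h hcardeq.le).symm
        · exact Subgroup.eq_of_le_of_card_ge h hcardeq.ge
      apply huK
      rw [← hX₂]
      exact ⟨mem_normalizer_of_map_conj_eq K₁ u heq, huT⟩
    obtain ⟨y, hyE', hyK₁⟩ := hy
    have hy₀ : ∃ y₀ ∈ E', c₀ * y₀ * c₀⁻¹ * y₀⁻¹ ∉ Z := by
      by_contra hcon
      push Not at hcon
      have hC : cms Z K ({c₀} : Set P) = K := by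
        have hlt : K₁ < cms Z K ({c₀} : Set P) := by
          refine lt_of_le_of_ne ?_ ?_
          · intro k hk
            refine ⟨hK₁K.le hk, hKZn (hK₁K.le hk), ?_⟩
            intro s hs
            rw [Set.mem_singleton_iff] at hs
            rw [hs]
            apply comm_symm_sft
            rw [hc₀]
            exact ha n₀ hn₀ e₀ he₀ k hk
          · intro heq
            apply hyK₁
            rw [heq]
            refine ⟨hE'K hyE', hKZn (hE'K hyE'), ?_⟩
            intro s hs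
            rw [Set.mem_singleton_iff] at hs
            rw [hs]
            exact comm_symm_sft (hcon y hyE')
        exact eq_of_lt_of_le_of_card_uni hp.out hlt (cms_le _ _ _) hKc
      have hk₀' := hk₀
      rw [← hC] at hk₀'
      exact hbad (comm_symm_sft (hk₀'.2.2 c₀ rfl))
    obtain ⟨y₀, hy₀E', hy₀⟩ := hy₀
    have hZKE' : ZK ≤ E' := hZKsoft E' hS' hE'K
    have hcb : ∀ e ∈ E', c₀ * e * c₀⁻¹ * e⁻¹ ∈ ZK := by
      intro e he
      rw [hc₀]
      exact hb n₀ hn₀ e₀ he₀ e (hE'K he)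
    have hc₀N' : c₀ ∈ normalizer (E' : Set P) ⊓ T := mem_nT_of_comm hZKE' (hKT.le hc₀K) hcb
    have hc₀E' : c₀ ∉ E' := fun hmem => hy₀ (hS'.ab c₀ hmem y₀ hy₀E')
    have hcomm' := hS'.comm_E_of hZZK hTZK hc₀N' hc₀E' hcb
    have h1 : (u * n₀ * u⁻¹) * (u * e₀ * u⁻¹) * (u * n₀ * u⁻¹)⁻¹ * (u * e₀ * u⁻¹)⁻¹ ∈ ZK := by
      apply hcomm'
      · rw [hN']
        exact conj_mem_map_conj N₁ u n₀ hn₀
      · rw [hE']
        exact conj_mem_map_conj E u e₀ he₀
    have e2 : (u * n₀ * u⁻¹) * (u * e₀ * u⁻¹) * (u * n₀ * u⁻¹)⁻¹ * (u * e₀ * u⁻¹)⁻¹ =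
        u * c₀ * u⁻¹ := by
      rw [hc₀]; group
    rw [e2] at h1
    have h3 := conj_mem_of_normalizer_uni' (hTZK huT) h1
    have e3 : u⁻¹ * (u * c₀ * u⁻¹) * u = c₀ := by group
    rw [e3] at h3
    exact hc₀ZK h3

theorem soft_class (hP : IsPGroup p P) : ∀ (d : ℕ) (T Z E K : Subgroup P) (i : ℕ),
    Nat.card T - Nat.card Z = d → Soft p T Z E → E ≤ K → K < T →
    Nat.card K = p ^ i * Nat.card E →
    K.lowerCentralSeries (i + 1) ≤ Z ∧ ¬ K.lowerCentralSeries i ≤ Z := by
  intro d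
  induction d using Nat.strong_induction_on with
  | _ d ih =>
    intro T Z E K i hd hS hEK hKT hKc
    obtain ⟨N₁, hN₁⟩ : ∃ N₁, N₁ = normalizer (E : Set P) ⊓ T := ⟨_, rfl⟩
    have hEN : E ≤ N₁ := by rw [hN₁]; exact hS.E_le_nT
    have hA := soft_chain hP _ T Z E rfl hS
    obtain ⟨T₁, hT₁⟩ : ∃ T₁, T₁ = normalizer (K : Set P) ⊓ T := ⟨_, rfl⟩
    have hT₁c : Nat.card T₁ = p * Nat.card K := by rw [hT₁]; exact hA.2 K hEK hKT
    have hKT₁ : K ≤ T₁ := by rw [hT₁]; exact le_inf le_normalizer hKT.le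
    have hT₁T : T₁ ≤ T := by rw [hT₁]; exact inf_le_right
    have hZT : Nat.card Z < Nat.card T := card_lt_of_lt_uni hS.Z_lt_T
    have hN1T₁ : N₁ ≤ T₁ := by
      rcases eq_or_lt_of_le hEK with h | h
      · rw [hT₁, ← h, hN₁]
      · have h2 : N₁ ≤ K := by rw [hN₁]; exact hS.nT_le_of_lt hP h hKT.le
        exact h2.trans hKT₁
    by_cases hT1 : T₁ = T
    swap
    · have e1 : normalizer (E : Set P) ⊓ T₁ = N₁ := by
        apply le_antisymm
        · rw [hN₁]; exact inf_le_inf_left _ hT₁T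
        · have h2 := hN1T₁
          rw [hN₁] at h2 ⊢
          exact le_inf inf_le_left h2
      have hS₁ : Soft p T₁ Z E :=
        ⟨hS.ZE, hEK.trans hKT₁, hT₁T.trans hS.Zn, hS.ab, fun g hg => hS.sc g (hT₁T hg),
          by rw [e1, hN₁]; exact hS.nz⟩
      have hlt : Nat.card T₁ < Nat.card T := card_lt_of_lt_uni (lt_of_le_of_ne hT₁T hT1)
      have hK1 : K < T₁ := by
        refine lt_of_le_of_ne hKT₁ ?_
        intro heq
        rw [← heq] at hT₁c
        have hpos : 0 < Nat.card K := Nat.card_pos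
        have := hp.out.two_le
        nlinarith
      exact ih (Nat.card T₁ - Nat.card Z) (by omega) T₁ Z E K i rfl hS₁ hEK hK1 hKc
    have hTK : T ≤ normalizer (K : Set P) := by rw [← hT1, hT₁]; exact inf_le_left
    have hKZn : K ≤ normalizer (Z : Set P) := hKT.le.trans hS.Zn
    cases i with
    | zero =>
      have hKE : K = E := by
        have h1 : Nat.card K ≤ Nat.card E := by rw [hKc]; simp
        exact (Subgroup.eq_of_le_of_card_ge hEK h1).symm
      rw [hKE]
      refine ⟨?_, ?_⟩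
      · rw [Subgroup.lowerCentralSeries_succ, Subgroup.lowerCentralSeries_zero,
          Subgroup.commutator_le]
        intro a ha b hb
        rw [commutatorElement_def]
        exact hS.ab a ha b hb
      · rw [Subgroup.lowerCentralSeries_zero]
        intro hEZ
        have h1 : T ≤ E := by
          intro g hg
          apply hS.sc g hg
          intro e he
          have h1 := conj_mem_of_normalizer_uni (hS.Zn hg) (hEZ he)
          exact Z.mul_mem h1 (Z.inv_mem (hEZ he))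
        exact absurd (le_antisymm hS.ET h1) hS.E_lt_T.ne
    | succ j =>
      have hEltK : E < K := by
        refine lt_of_le_of_ne hEK ?_
        intro heq
        rw [← heq] at hKc
        have hpos : 0 < Nat.card E := Nat.card_pos
        have h2 : 2 ≤ p ^ (j + 1) := by
          calc 2 ≤ p := hp.out.two_le
            _ = p ^ 1 := (pow_one p).symm
            _ ≤ p ^ (j + 1) := Nat.pow_le_pow_right hp.out.pos (by omega)
        nlinarith
      have hNK : N₁ ≤ K := by rw [hN₁]; exact hS.nT_le_of_lt hP hEltK hKT.le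
      obtain ⟨ZK, hZK'⟩ : ∃ ZK, ZK = cms Z K (K : Set P) := ⟨_, rfl⟩
      have hZleK : Z ≤ K := hS.ZE.trans hEK
      have hZZK : Z ≤ ZK := by rw [hZK']; exact le_cms_self hZleK hKZn
      have hZK : Nat.card Z < Nat.card K := card_lt_of_lt_uni (lt_of_le_of_lt hS.ZE hEltK)
      obtain ⟨g, hgK, hgZ, hg⟩ := exists_central_mod hP hZleK hKZn
        (fun heq => by rw [heq] at hZK; exact lt_irrefl _ hZK)
      have hgZK : g ∈ ZK := by rw [hZK']; exact ⟨hgK, hKZn hgK, hg⟩
      have hZKK : ZK ≤ K := by rw [hZK']; exact cms_le _ _ _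
      have hTZK : T ≤ normalizer (ZK : Set P) := by
        apply le_normalizer_of_conj_uni
        intro t ht x hx
        rw [hZK'] at hx ⊢
        exact cms_conj_mem (hTK ht) (hS.Zn ht) hx
      have hmeas : Nat.card T - Nat.card ZK < d := by
        have h1 : Nat.card Z < Nat.card ZK :=
          card_lt_of_lt_uni (lt_of_le_of_ne hZZK (fun heq => hgZ (by rw [heq]; exact hgZK)))
        have h2 : Nat.card ZK ≤ Nat.card K := Subgroup.card_le_of_le hZKK
        have h3 : Nat.card K < Nat.card T := card_lt_of_lt_uni hKT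
        omega
      have hZKE : ZK ≤ E := by
        intro x hx
        rw [hZK'] at hx
        exact hS.sc x (hKT.le hx.1) (fun e he => hx.2.2 e (hEK he))
      have hD := soft_D_central hP _ T Z E K rfl hS (by rw [← hN₁]; exact hNK) hKT
      have hcomm : ∀ n ∈ normalizer (E : Set P) ⊓ T, ∀ e ∈ E, n * e * n⁻¹ * e⁻¹ ∈ ZK := by
        intro n hn e he
        rw [hZK']
        have hcE : n * e * n⁻¹ * e⁻¹ ∈ E :=
          E.mul_mem (conj_mem_of_normalizer_uni hn.1 he) (E.inv_mem he)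
        refine ⟨hEK hcE, hKZn (hEK hcE), ?_⟩
        intro k hk
        exact hD n hn e he k hk
      have hab' := hS.ab_mod hTZK hcomm
      have hN1T : N₁ < T := lt_of_le_of_lt hNK hKT
      have hS' : Soft p T ZK N₁ := by
        rw [hN₁]
        refine ⟨hZKE.trans hS.E_le_nT, inf_le_right, hTZK, hab', ?_, ?_⟩
        · intro g hgT hg
          exact mem_nT_of_comm hZKE hgT (fun e he => hg e (hS.E_le_nT he))
        · exact hA.2 _ hS.E_le_nT (by rw [← hN₁]; exact hN1T)
      have hKc' : Nat.card K = p ^ j * Nat.card N₁ := by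
        rw [hKc, hN₁, hS.nz, pow_succ, mul_assoc]
      obtain ⟨ih1, ih2⟩ := ih _ hmeas T ZK N₁ K j rfl hS' hNK hKT hKc'
      refine ⟨?_, ?_⟩
      · rw [Subgroup.lowerCentralSeries_succ, Subgroup.commutator_le]
        intro a ha b hb
        have h1 := ih1 ha
        rw [hZK'] at h1
        rw [commutatorElement_def]
        exact h1.2.2 b hb
      · intro hle
        apply ih2
        intro a ha
        rw [hZK']
        have haK : a ∈ K := by
          have h1 := Subgroup.lowerCentralSeries_antitone K (Nat.zero_le j) ha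
          simpa using h1
        refine ⟨haK, hKZn haK, ?_⟩
        intro k hk
        have h1 : ⁅a, k⁆ ∈ K.lowerCentralSeries (j + 1) := by
          rw [Subgroup.lowerCentralSeries_succ]
          exact Subgroup.commutator_mem_commutator ha hk
        have h2 := hle h1
        rw [commutatorElement_def] at h2
        exact h2

end

theorem soft_main {P : Type*} [Group P] [Finite P] (p : ℕ) [hp : Fact p.Prime] (hP : IsPGroup p P)
    (E : Subgroup P) (hEab : IsMulCommutative ↥E) (hC : Subgroup.centralizer (E : Set P) ≤ E)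
    (hN : (E.subgroupOf (Subgroup.normalizer (E : Set P))).index = p) :
    (∀ K L : Subgroup P, E ≤ K → E ≤ L → K ≤ L ∨ L ≤ K) ∧
      (∀ K : Subgroup P, E ≤ K → K ≠ ⊤ →
        (K.subgroupOf (Subgroup.normalizer (K : Set P))).index = p) ∧
      ∀ (i : ℕ) (K : Subgroup P) [Group.IsNilpotent ↥K], E ≤ K → K ≠ ⊤ →
        K.index * p ^ i = E.index → Group.nilpotencyClass ↥K = i + 1 := by
  have hS : Soft p (⊤ : Subgroup P) ⊥ E := by
    refine ⟨bot_le, le_top, ?_, ?_, ?_, ?_⟩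
    · intro g _
      rw [Subgroup.mem_normalizer_iff]
      intro h
      simp
    · intro a ha b hb
      rw [Subgroup.mem_bot]
      have h1 : a * b = b * a := setLike_mul_comm ha hb
      rw [h1]; group
    · intro g _ hg
      apply hC
      rw [Subgroup.mem_centralizer_iff]
      intro e he
      have h1 := hg e he
      rw [Subgroup.mem_bot] at h1
      have h2 : g * e = e * g := by
        calc g * e = (g * e * g⁻¹ * e⁻¹) * e * g := by group
          _ = e * g := by rw [h1, one_mul]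
      exact h2.symm
    · rw [inf_top_eq]
      have h1 := card_mul_relIndex_uni (le_normalizer : E ≤ normalizer (E : Set P))
      rw [Subgroup.relIndex, hN] at h1
      rw [← h1, mul_comm]
  have hA := soft_chain hP _ ⊤ ⊥ E rfl hS
  refine ⟨fun K L hK hL => hA.1 K L hK le_top hL le_top, ?_, ?_⟩
  · intro K hEK hK
    have h1 := hA.2 K hEK (lt_top_iff_ne_top.mpr hK)
    rw [inf_top_eq] at h1
    have h2 := card_mul_relIndex_uni (le_normalizer : K ≤ normalizer (K : Set P))
    rw [h1, mul_comm] at h2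
    exact Nat.eq_of_mul_eq_mul_right Nat.card_pos h2
  · intro i K _ hEK hK hidx
    have hKc : Nat.card K = p ^ i * Nat.card E := by
      have h1 := Subgroup.card_mul_index K
      have h2 := Subgroup.card_mul_index E
      rw [← hidx, ← h1] at h2
      have hpos : 0 < K.index := Nat.pos_of_ne_zero Subgroup.index_ne_zero_of_finite
      have h3 : K.index * (p ^ i * Nat.card E) = K.index * Nat.card K := by
        rw [mul_comm K.index (Nat.card K), ← h2]; ring
      exact (Nat.eq_of_mul_eq_mul_left hpos h3).symm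
    obtain ⟨h1, h2⟩ := soft_class hP _ ⊤ ⊥ E K i rfl hS hEK (lt_top_iff_ne_top.mpr hK) hKc
    have e1 : ∀ n, (⊤ : Subgroup ↥K).lowerCentralSeries n = ⊥ ↔ K.lowerCentralSeries n ≤ ⊥ := by
      intro n
      rw [← Subgroup.top_subtype_lowerCentralSeries K n, le_bot_iff,
        Subgroup.map_eq_bot_iff_of_injective _ K.subtype_injective]
    have h3 : Group.nilpotencyClass ↥K ≤ i + 1 :=
      Subgroup.lowerCentralSeries_eq_bot_iff_nilpotencyClass_le.mp ((e1 _).mpr h1)
    have h4 : ¬ Group.nilpotencyClass ↥K ≤ i := fun hle =>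
      h2 ((e1 _).mp (Subgroup.lowerCentralSeries_eq_bot_iff_nilpotencyClass_le.mpr hle))
    omega

end Cfsg.Agent.Lib.helper1
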